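import Groth.Agent.ArtinVanLib.Affine
import Mathlib.RingTheory.EssentialFiniteness

/-!
# Strict localizations of algebraic schemes
-/

set_option autoImplicit false
set_option backward.isDefEq.respectTransparency false
set_option backward.isDefEq.respectTransparency.types false
set_option linter.style.haveILetI false
set_option maxHeartbeats 1000000
set_option synthInstance.maxHeartbeats 200000

universe u

open CategoryTheory CategoryTheory.Limits AlgebraicGeometry Opposite IsLocalRing

noncomputable section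

namespace Groth.Agent.ArtinVanLib

open CdFieldLib

theorem exists_nat_trdeg_of_essFiniteType (k D : Type u) [Field k] [CommRing D] [IsDomain D] [Algebra k D]
    [Algebra.EssFiniteType k D] : ∃ n : ℕ, Algebra.trdeg k D = n := by
  let D₀ := Algebra.EssFiniteType.subalgebra k D
  obtain ⟨n, hn⟩ := DimFormulaLib.exists_nat_trdeg_quotient k D₀ (⊥ : Ideal D₀)
  have h₀ : DimLE k D₀ n := fun Q hQ => by
    rw [← hn]
    exact trdeg_le_of_surjective (Ideal.Quotient.factorₐ k (bot_le : ⊥ ≤ Q)) (Ideal.Quotient.factor_surjective bot_le)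
  have h : Algebra.trdeg k D ≤ (n : ℕ) :=
    (trdeg_le_of_injective (Ideal.Quotient.mkₐ k (⊥ : Ideal D)) (fun x y h => by
      exact sub_eq_zero.1 (Ideal.mem_bot.1 (Ideal.Quotient.eq.1 h)))).trans
      ((h₀.localization (S := D) (Algebra.EssFiniteType.submonoid k D)) ⊥ Ideal.isPrime_bot)
  exact Cardinal.lt_aleph0.1 (h.trans_lt Cardinal.natCast_lt_aleph0)

/-- An affine chart at a point, with the local ring as a localization. -/
theorem exists_chart {Y : Scheme.{u}} (y : Y) :
    ∃ (C : Type u) (_ : CommRing C) (ι : Spec (CommRingCat.of C) ⟶ Y) (_ : IsOpenImmersion ι)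
      (c : Spec (CommRingCat.of C)), ι c = y := by
  obtain ⟨c₀, hc₀⟩ := Y.affineCover.covers y
  refine ⟨Γ(Y.affineCover.X (Y.affineCover.idx y), ⊤), inferInstance,
    (Y.affineCover.X (Y.affineCover.idx y)).isoSpec.inv ≫ Y.affineCover.f (Y.affineCover.idx y), inferInstance,
    (Y.affineCover.X (Y.affineCover.idx y)).isoSpec.hom c₀, ?_⟩
  show ((Y.affineCover.X _).isoSpec.hom ≫ (Y.affineCover.X _).isoSpec.inv ≫ Y.affineCover.f _) c₀ = _
  rw [Iso.hom_inv_id_assoc]
  exact hc₀

/-- The points of a spectrum, with the transcendence degree of the quotient. -/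
theorem resTrdegLE_spec {k A : Type u} [Field k] [CommRing A] [Algebra k A] (p : Spec (CommRingCat.of A)) {a : ℕ}
    (h : Algebra.trdeg k (A ⧸ p.asIdeal) ≤ (a : ℕ)) :
    EtPBC.ResTrdegLE (Spec.map (CommRingCat.ofHom (algebraMap k A))) p a := by
  let e := Scheme.Spec.residueFieldIso (CommRingCat.of A) p
  refine ⟨(CommRingCat.ofHom (algebraMap k p.asIdeal.ResidueField) ≫ e.inv).hom, ?_, ?_⟩
  · show Spec.map (CommRingCat.ofHom (algebraMap k p.asIdeal.ResidueField) ≫ e.inv) = _
    rw [show CommRingCat.ofHom (algebraMap k p.asIdeal.ResidueField) = CommRingCat.ofHom (algebraMap k A) ≫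
      CommRingCat.ofHom (algebraMap A p.asIdeal.ResidueField) from CommRingCat.hom_ext (IsScalarTower.algebraMap_eq k A _),
      Spec.map_comp, Spec.map_comp, ← Category.assoc]
    congr 1
    exact Scheme.Spec.map_residueFieldIso_inv_eq_fromSpecResidueField _ p
  · letI : Algebra k ((Spec (CommRingCat.of A)).residueField p) :=
      (CommRingCat.ofHom (algebraMap k p.asIdeal.ResidueField) ≫ e.inv).hom.toAlgebra
    refine le_trans (trdeg_le_of_injective (A := ((Spec (CommRingCat.of A)).residueField p : Type u))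
      ({ e.hom.hom with commutes' := fun x => ?_ } : (Spec (CommRingCat.of A)).residueField p →ₐ[k] p.asIdeal.ResidueField)
      e.hom.hom.injective) ?_
    · show e.hom (e.inv (algebraMap k p.asIdeal.ResidueField x)) = _
      rw [Iso.inv_hom_id_apply]
    · exact (DimFormulaLib.trdeg_residueField (k := k) (S := A) p.asIdeal).ge.trans h

/-- A strict localization of an algebraic scheme has a separably closed field over which the points have
residue fields no bigger than the dimension of their closures. -/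
theorem exists_field_strictLocalization {k : Type u} [Field k] {Y : Scheme.{u}} (g : Y ⟶ Spec (CommRingCat.of k))
    [LocallyOfFiniteType g] (y : Y) (R : Type u) [CommRing R] [IsLocalRing R] [Algebra (Y.presheaf.stalk y) R]
    [IsLocalHom (algebraMap (Y.presheaf.stalk y) R)] [Hensel.IsStrictHenselization (Y.presheaf.stalk y) R] :
    IsNoetherianRing R ∧ ∃ (k' : Type u) (_ : Field k') (_ : IsSepClosed k') (_ : Algebra k' R),
      ∀ (p : Ideal R) [p.IsPrime] (a : ℕ), ringKrullDim (R ⧸ p) ≤ a → Algebra.trdeg k' (R ⧸ p) ≤ (a : ℕ) := by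
  obtain ⟨C, _, ι, _, c, rfl⟩ := exists_chart y
  obtain ⟨_, hloc, hfac⟩ := exists_isLocalization_stalk ι c
  haveI := hloc
  let O := Y.presheaf.stalk (ι c)
  obtain ⟨κ, hκ⟩ := Spec.map_surjective (ι ≫ g)
  letI : Algebra k C := κ.hom.toAlgebra
  haveI : LocallyOfFiniteType (Spec.map κ) := by rw [hκ]; infer_instance
  haveI : Algebra.FiniteType k C := (HasRingHomProperty.Spec_iff (P := @LocallyOfFiniteType)).1 this
  haveI : IsNoetherianRing C := Algebra.FiniteType.isNoetherianRing k C
  letI : Algebra k O := ((algebraMap C O).comp (algebraMap k C)).toAlgebra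
  haveI : IsScalarTower k C O := .of_algebraMap_eq' rfl
  haveI : IsNoetherianRing O := IsLocalization.isNoetherianRing c.asIdeal.primeCompl _ inferInstance
  haveI : Algebra.EssFiniteType C O := .of_isLocalization O c.asIdeal.primeCompl
  haveI : Algebra.EssFiniteType k O := Algebra.EssFiniteType.comp k C O
  haveI : Algebra.EssFiniteType k (ResidueField O) := Algebra.EssFiniteType.comp k O (ResidueField O)
  obtain ⟨δ, hδ⟩ := exists_nat_trdeg_of_essFiniteType k (ResidueField O)
  letI : Algebra k R := ((algebraMap O R).comp (algebraMap k O)).toAlgebra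
  haveI : IsScalarTower k O R := .of_algebraMap_eq' rfl
  obtain ⟨eH⟩ := Henselization.exists_algEquiv_of_isStrictHenselization O R
  refine ⟨(Henselization.isNoetherianRing_of_equiv eH).2 inferInstance, ?_⟩
  obtain ⟨k', _, _, _, _, hsep, hk'⟩ := exists_sepClosed_subfield_residue (k := k) (O := O) (R := R) hδ
  refine ⟨k', inferInstance, hsep, inferInstance, fun p hp a ha => ?_⟩
  have h := trdeg_quotient_le_ringKrullDim_add (O := O) hδ.le p ha
  haveI : FaithfulSMul k' (R ⧸ p) := (faithfulSMul_iff_algebraMap_injective _ _).2 (RingHom.injective _)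
  haveI : FaithfulSMul k k' := (faithfulSMul_iff_algebraMap_injective _ _).2 (RingHom.injective _)
  rw [← trdeg_add_eq k k' (A := R ⧸ p), hk', Nat.cast_add] at h
  obtain ⟨t, ht⟩ : ∃ t : ℕ, Algebra.trdeg k' (R ⧸ p) = t :=
    Cardinal.lt_aleph0.1 (lt_of_le_of_lt (le_add_self.trans h) (Cardinal.add_lt_aleph0 Cardinal.natCast_lt_aleph0 Cardinal.natCast_lt_aleph0))
  rw [ht] at h ⊢
  have h2 : δ + t ≤ δ + a := by exact_mod_cast h
  exact_mod_cast (show t ≤ a by omega)

/-- Affine opens of strict localizations. -/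
theorem cdLE_affineOpen_strictLocalization {k : Type u} [Field k] {Y : Scheme.{u}}
    (g : Y ⟶ Spec (CommRingCat.of k)) [LocallyOfFiniteType g] (y : Y)
    (R : Type u) [CommRing R] [IsLocalRing R] [Algebra (Y.presheaf.stalk y) R]
    [IsLocalHom (algebraMap (Y.presheaf.stalk y) R)] [Hensel.IsStrictHenselization (Y.presheaf.stalk y) R]
    {d : ℕ} (hd : ringKrullDim R ≤ d) (U : (Spec (CommRingCat.of R)).Opens) (hU : IsAffineOpen U) :
    CdLE Set.univ (U : Scheme.{u}) d := by
  obtain ⟨hN, k', _, hsep, _, hbound⟩ := exists_field_strictLocalization g y R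
  haveI := hsep
  let B : Type u := Γ(Spec (CommRingCat.of R), U)
  obtain ⟨ψ, hψ⟩ := Spec.map_surjective hU.fromSpec
  letI : Algebra k' B := (ψ.hom.comp (algebraMap k' R)).toAlgebra
  refine cdLE_of_iso hU.isoSpec (cdLE_of_dimLE (k := k') (R := B) (art d) (fun Q hQ => ?_) (cdLE_zero_of_sepClosed _ k'))
  let q : Spec (CommRingCat.of B) := ⟨Q, hQ⟩
  refine trdeg_quotient_le_resTrdeg (B := B) (Spec.map (CommRingCat.ofHom (algebraMap k' R))) hU.fromSpec ?_ q
    (resTrdegLE_spec _ (hbound _ d ((ringKrullDim_quotient_le _).trans hd)))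
  rw [← hψ, ← Spec.map_comp]
  rfl

/-- Vanishing on affine schemes of finite type over strict localizations. -/
theorem subsingleton_H_affine_strictLocalization {k : Type u} [Field k] {Y : Scheme.{u}}
    (g : Y ⟶ Spec (CommRingCat.of k)) [LocallyOfFiniteType g] (y : Y)
    (R : Type u) [CommRing R] [IsLocalRing R] [Algebra (Y.presheaf.stalk y) R]
    [IsLocalHom (algebraMap (Y.presheaf.stalk y) R)] [Hensel.IsStrictHenselization (Y.presheaf.stalk y) R]
    (X' : Scheme.{u}) (f' : X' ⟶ Spec (CommRingCat.of R)) [IsAffineHom f'] [LocallyOfFiniteType f']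
    (F : EtCoh.Ab X') (hF : EtAcyc.IsLTorsion Set.univ F) (d : ℕ)
    (hδ : ∀ x ∈ EtPBC.supp F, ∃ a b : ℕ,
      ringKrullDim (R ⧸ (f'.base x).asIdeal) = a ∧
      (letI := (f'.residueFieldMap x).hom.toAlgebra
       Algebra.trdeg ((Spec (CommRingCat.of R)).residueField (f'.base x)) (X'.residueField x)) = b ∧ a + b ≤ d)
    (q : ℕ) (hq : d < q) : Subsingleton (EtCoh.H X' F q) := by
  obtain ⟨hN, k', _, hsep, _, hbound⟩ := exists_field_strictLocalization g y R
  haveI := hN
  haveI := hsep
  haveI : IsAffine X' := isAffine_of_isAffineHom f'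
  let A : Type u := Γ(X', ⊤)
  obtain ⟨ψ, hψ⟩ := Spec.map_surjective (X'.isoSpec.inv ≫ f')
  letI : Algebra R A := ψ.hom.toAlgebra
  letI : Algebra k' A := (ψ.hom.comp (algebraMap k' R)).toAlgebra
  haveI : LocallyOfFiniteType (Spec.map ψ) := by rw [hψ]; infer_instance
  haveI : Algebra.FiniteType R A := (HasRingHomProperty.Spec_iff (P := @LocallyOfFiniteType)).1 this
  haveI : IsNoetherianRing A := Algebra.FiniteType.isNoetherianRing R A
  let r := Spec.map (CommRingCat.ofHom (algebraMap k' R))
  refine subsingleton_H_of_iso_spec (k := k') (A := A) (e := 0) (d := d) (cdLE_zero_of_sepClosed _ _) X'.isoSpec.inv F hF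
    (fun P hP => ?_) q hq
  refine trdeg_quotient_le_resTrdeg (B := A) (f' ≫ r) X'.isoSpec.inv ?_ P ?_
  · rw [← Category.assoc, ← hψ, ← Spec.map_comp]
    rfl
  generalize X'.isoSpec.inv P = x at hP
  obtain ⟨a, b, ha, hb, hab⟩ := hδ x hP
  obtain ⟨φ, hφ, hle⟩ := resTrdegLE_spec (f'.base x) (hbound _ a ha.le)
  refine ⟨(f'.residueFieldMap x).hom.comp φ, ?_, ?_⟩
  · rw [← Category.assoc, ← Scheme.Hom.SpecMap_residueFieldMap_fromSpecResidueField, Category.assoc, ← hφ,
      ← Spec.map_comp]
    rfl
  letI := φ.toAlgebra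
  letI := (f'.residueFieldMap x).hom.toAlgebra
  letI : Algebra k' (X'.residueField x) := ((f'.residueFieldMap x).hom.comp φ).toAlgebra
  haveI : IsScalarTower k' ((Spec (CommRingCat.of R)).residueField (f'.base x)) (X'.residueField x) := .of_algebraMap_eq' rfl
  haveI : FaithfulSMul k' ((Spec (CommRingCat.of R)).residueField (f'.base x)) :=
    (faithfulSMul_iff_algebraMap_injective _ _).2 (RingHom.injective _)
  haveI : FaithfulSMul ((Spec (CommRingCat.of R)).residueField (f'.base x)) (X'.residueField x) :=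
    (faithfulSMul_iff_algebraMap_injective _ _).2 (RingHom.injective _)
  rw [← trdeg_add_eq k' ((Spec (CommRingCat.of R)).residueField (f'.base x)) (A := X'.residueField x), hb]
  exact (add_le_add hle le_rfl).trans (by exact_mod_cast hab)

end Groth.Agent.ArtinVanLib
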