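import Groth.Agent.ArtinVanLib.Supp
import Groth.Agent.Henselization.Properties
import Groth.Agent.Henselization.Transfer

/-!
# Affine morphisms over strict localizations
-/

set_option autoImplicit false
set_option backward.isDefEq.respectTransparency false
set_option backward.isDefEq.respectTransparency.types false
set_option linter.style.haveILetI false
set_option maxHeartbeats 1000000
set_option synthInstance.maxHeartbeats 200000

universe u

open CategoryTheory CategoryTheory.Limits AlgebraicGeometry Opposite IsLocalRing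
open scoped TensorProduct

noncomputable section

namespace Groth.Agent.ArtinVanLib

open CdFieldLib

attribute [local instance] Groth.Agent.S0101.result

/-- A prime of a tensor product with a strict henselization adds nothing to the transcendence degree. -/
theorem trdeg_quotient_tensor_le {k C O R B : Type u} [Field k] [CommRing C] [Algebra k C] [CommRing O]
    [IsLocalRing O] [Algebra C O] (c : Ideal C) [c.IsPrime] [IsLocalization.AtPrime O c] [CommRing R] [IsLocalRing R]
    [Algebra O R] [Algebra C R] [IsScalarTower C O R] [IsLocalHom (algebraMap O R)]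
    [Hensel.IsStrictHenselization O R] [CommRing B] [Algebra C B] [Algebra k B] [IsScalarTower k C B]
    (Q : Ideal (B ⊗[C] R)) [Q.IsPrime] :
    Algebra.trdeg k ((B ⊗[C] R) ⧸ Q) ≤
      Algebra.trdeg k (B ⧸ Q.comap (algebraMap B (B ⊗[C] R))) := by
  let b := Q.comap (algebraMap B (B ⊗[C] R))
  haveI : b.IsPrime := Ideal.IsPrime.comap _
  let S := B ⧸ b
  let E := (B ⊗[C] R) ⧸ Q
  let L := FractionRing E
  haveI : FaithfulSMul k S := (faithfulSMul_iff_algebraMap_injective _ _).2 (RingHom.injective _)
  haveI : FaithfulSMul S E := (faithfulSMul_iff_algebraMap_injective _ _).2 Ideal.algebraMap_quotient_injective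
  haveI : IsScalarTower k S E := .of_algebraMap_eq fun x => by
    show Ideal.Quotient.mk Q (algebraMap k (B ⊗[C] R) x) = Ideal.Quotient.mk Q (algebraMap B _ (algebraMap k B x))
    rw [← IsScalarTower.algebraMap_apply]
  haveI : IsDomain E := Ideal.Quotient.isDomain Q
  haveI : FaithfulSMul E L := (faithfulSMul_iff_algebraMap_injective _ _).2 (IsFractionRing.injective E L)
  haveI : FaithfulSMul S L := FaithfulSMul.trans S E L
  letI : Algebra (FractionRing S) L := FractionRing.liftAlgebra S L
  -- the local ring maps to the fraction field of the quotient of the base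
  let φ : C →+* FractionRing S := (algebraMap S (FractionRing S)).comp ((Ideal.Quotient.mk b).comp (algebraMap C B))
  have hφ : ∀ y : C, algebraMap (FractionRing S) L (φ y) = algebraMap (B ⊗[C] R) L (algebraMap C (B ⊗[C] R) y) := fun y => by
    show algebraMap (FractionRing S) L (algebraMap S (FractionRing S) (Ideal.Quotient.mk b (algebraMap C B y))) = _
    rw [← IsScalarTower.algebraMap_apply]
    show algebraMap E L (Ideal.Quotient.mk Q (algebraMap B (B ⊗[C] R) (algebraMap C B y))) = _
    rw [← IsScalarTower.algebraMap_apply C B (B ⊗[C] R)]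
    rfl
  let r : R →+* L := (algebraMap (B ⊗[C] R) L).comp (Algebra.TensorProduct.includeRight : R →ₐ[C] B ⊗[C] R).toRingHom
  have hunit : ∀ y : c.primeCompl, IsUnit (φ y) := fun y => by
    refine isUnit_iff_ne_zero.2 fun h0 => ?_
    have h1 : algebraMap (B ⊗[C] R) L (algebraMap C (B ⊗[C] R) y) = 0 := by rw [← hφ, h0, map_zero]
    have h2 : IsUnit (algebraMap C R y) := by
      rw [IsScalarTower.algebraMap_apply C O R]
      exact (IsLocalization.map_units O y).map _
    have h3 : IsUnit (r (algebraMap C R y)) := h2.map r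
    have h4 : r (algebraMap C R y) = algebraMap (B ⊗[C] R) L (algebraMap C (B ⊗[C] R) y) := by
      show algebraMap (B ⊗[C] R) L ((1 : B) ⊗ₜ algebraMap C R y) = _
      rw [show ((1 : B) ⊗ₜ[C] algebraMap C R y : B ⊗[C] R) = algebraMap C (B ⊗[C] R) y from
        (Algebra.TensorProduct.includeRight : R →ₐ[C] B ⊗[C] R).commutes (y : C)]
    exact h3.ne_zero (h4.trans h1)
  letI : Algebra O (FractionRing S) := (IsLocalization.lift hunit).toAlgebra
  letI : Algebra O L := ((algebraMap (FractionRing S) L).comp (algebraMap O (FractionRing S))).toAlgebra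
  haveI : IsScalarTower O (FractionRing S) L := .of_algebraMap_eq' rfl
  let rO : R →ₐ[O] L :=
    { r with
      commutes' := RingHom.congr_fun (IsLocalization.ringHom_ext c.primeCompl
        (j := r.comp (algebraMap O R)) (k := algebraMap O L) (RingHom.ext fun y => by
          show r (algebraMap O R (algebraMap C O y)) = algebraMap (FractionRing S) L (IsLocalization.lift hunit (algebraMap C O y))
          rw [← IsScalarTower.algebraMap_apply, IsLocalization.lift_eq, hφ]
          show algebraMap (B ⊗[C] R) L ((1 : B) ⊗ₜ algebraMap C R y) = _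
          rw [show ((1 : B) ⊗ₜ[C] algebraMap C R y : B ⊗[C] R) = algebraMap C (B ⊗[C] R) y from
            (Algebra.TensorProduct.includeRight : R →ₐ[C] B ⊗[C] R).commutes (y : C)])) }
  have halg : ∀ z : B ⊗[C] R, IsAlgebraic (FractionRing S) (algebraMap (B ⊗[C] R) L z) := fun z => by
    induction z using TensorProduct.induction_on with
    | zero => rw [map_zero]; exact isAlgebraic_zero
    | add a b ha hb => rw [map_add]; exact ha.add hb
    | tmul x y =>
      have e : algebraMap (B ⊗[C] R) L (x ⊗ₜ y) =
          algebraMap (FractionRing S) L (algebraMap S (FractionRing S) (Ideal.Quotient.mk b x)) * rO y := by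
        rw [← IsScalarTower.algebraMap_apply]
        show _ = algebraMap E L (Ideal.Quotient.mk Q (algebraMap B (B ⊗[C] R) x)) * algebraMap (B ⊗[C] R) L ((1 : B) ⊗ₜ y)
        rw [show algebraMap E L (Ideal.Quotient.mk Q (algebraMap B (B ⊗[C] R) x)) =
          algebraMap (B ⊗[C] R) L (algebraMap B (B ⊗[C] R) x) from rfl, ← map_mul]
        congr 1
        show _ = (x ⊗ₜ[C] (1 : R)) * ((1 : B) ⊗ₜ[C] y)
        rw [Algebra.TensorProduct.tmul_mul_tmul, mul_one, one_mul]
      rw [e]
      exact (isAlgebraic_algebraMap _).mul (isAlgebraic_of_strictHenselization rO y)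
  haveI : Algebra.IsAlgebraic S E := ⟨fun x => by
    obtain ⟨x, rfl⟩ := Ideal.Quotient.mk_surjective x
    refine (isAlgebraic_algebraMap_iff (R := S) (IsFractionRing.injective E L)).1 ?_
    exact (IsFractionRing.isAlgebraic_iff S (FractionRing S) L).2 (halg x)⟩
  rw [← trdeg_add_eq k S (A := E), trdeg_eq_zero (R := S) (A := E), add_zero]

/-- The higher direct images of an affine morphism of algebraic schemes of a sheaf with small support. -/
theorem isZero_Rpush_affine {k : Type u} [Field k] {X Y : Scheme.{u}} (aX : X ⟶ Spec (CommRingCat.of k))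
    (aY : Y ⟶ Spec (CommRingCat.of k)) [LocallyOfFiniteType aX] [LocallyOfFiniteType aY] (f : X ⟶ Y) (w : f ≫ aY = aX)
    [IsAffineHom f] (F : EtCoh.Ab X) (hF : EtAcyc.IsLTorsion Set.univ F) (d : ℕ)
    (hd : ∀ x ∈ EtPBC.supp F, topologicalKrullDim (closure ({x} : Set X)) ≤ d) (q : ℕ) (hq : d < q) :
    IsZero ((EtCoh.Rpush f q).obj F) := by
  refine (EtPtsLib.isZero_iff_ab _).2 fun Ω _ _ ξ => ?_
  obtain ⟨c₀, hc₀⟩ := Y.affineCover.covers (ξ default)
  let C : Type u := Γ(Y.affineCover.X (Y.affineCover.idx (ξ default)), ⊤)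
  let ι : Spec (CommRingCat.of C) ⟶ Y :=
    (Y.affineCover.X (Y.affineCover.idx (ξ default))).isoSpec.inv ≫ Y.affineCover.f (Y.affineCover.idx (ξ default))
  obtain ⟨c, hc⟩ : ∃ c, ι c = ξ default :=
    ⟨(Y.affineCover.X (Y.affineCover.idx (ξ default))).isoSpec.hom c₀, by
      show ((Y.affineCover.X _).isoSpec.hom ≫ (Y.affineCover.X _).isoSpec.inv ≫ Y.affineCover.f _) c₀ = _
      rw [Iso.hom_inv_id_assoc]
      exact hc₀⟩
  obtain ⟨_, hloc, hfac⟩ := exists_isLocalization_stalk ι c
  haveI := hloc
  obtain ⟨R, _, _, _, _, hR⟩ := Henselization.exists_strictHenselization (R := Y.presheaf.stalk (ι c))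
  haveI := hR
  haveI : IsSepClosed (ResidueField R) :=
    (Hensel.IsStrictHenselization.isSepClosure (R := Y.presheaf.stalk (ι c)) (S := R)).sep_closed
  let O := Y.presheaf.stalk (ι c)
  obtain ⟨eR⟩ := Groth.Agent.S0620.result f F (ι c) R q
  suffices h : Subsingleton (EtCoh.H (pullback f (Hens2.specOf Y (ι c) R))
      ((EtCoh.pull (pullback.fst f (Hens2.specOf Y (ι c) R))).obj F) q) by
    haveI := h
    exact isZero_stalk_of_default_eq _ ((AddCommGrpCat.isZero_of_subsingleton _).of_iso eR)
      (hc.symm.trans (geomPt_default (ι c) R).symm)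
  -- algebra over the base field
  obtain ⟨κ, hκ⟩ := Spec.map_surjective (ι ≫ aY)
  letI : Algebra k C := κ.hom.toAlgebra
  letI : Algebra k O := ((algebraMap C O).comp (algebraMap k C)).toAlgebra
  haveI : IsScalarTower k C O := .of_algebraMap_eq' rfl
  letI : Algebra C R := ((algebraMap O R).comp (algebraMap C O)).toAlgebra
  haveI : IsScalarTower C O R := .of_algebraMap_eq' rfl
  letI : Algebra k R := ((algebraMap O R).comp (algebraMap k O)).toAlgebra
  haveI : IsScalarTower k O R := .of_algebraMap_eq' rfl
  haveI : IsScalarTower k C R := .of_algebraMap_eq' rfl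
  haveI : LocallyOfFiniteType (Spec.map κ) := by rw [hκ]; infer_instance
  haveI : Algebra.FiniteType k C := (HasRingHomProperty.Spec_iff (P := @LocallyOfFiniteType)).1 this
  haveI : IsNoetherianRing C := Algebra.FiniteType.isNoetherianRing k C
  haveI : IsNoetherianRing O := IsLocalization.isNoetherianRing c.asIdeal.primeCompl _ inferInstance
  obtain ⟨eH⟩ := Henselization.exists_algEquiv_of_isStrictHenselization O R
  haveI : IsNoetherianRing R := (Henselization.isNoetherianRing_of_equiv eH).2 inferInstance
  haveI : HenselianLocalRing R := Hensel.IsStrictHenselization.henselian (R := O) (S := R)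
  obtain ⟨σ⟩ := exists_algHom_sepClosure (F := k) (R := R)
  letI : Algebra (SeparableClosure k) R := σ.toRingHom.toAlgebra
  haveI : IsScalarTower k (SeparableClosure k) R := .of_algebraMap_eq fun y => (σ.commutes y).symm
  -- the affine scheme over the strict localization
  let W := pullback f ι
  haveI : IsAffine W := isAffine_of_isAffineHom (pullback.snd f ι)
  let B : Type u := Γ(W, ⊤)
  obtain ⟨ψ, hψ⟩ := Spec.map_surjective (W.isoSpec.inv ≫ pullback.snd f ι)
  letI : Algebra C B := ψ.hom.toAlgebra
  letI : Algebra k B := ((algebraMap C B).comp (algebraMap k C)).toAlgebra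
  haveI : IsScalarTower k C B := .of_algebraMap_eq' rfl
  haveI : LocallyOfFiniteType f := by
    haveI : LocallyOfFiniteType (f ≫ aY) := by rw [w]; infer_instance
    exact locallyOfFiniteType_of_comp f aY
  haveI : LocallyOfFiniteType (Spec.map ψ) := by
    rw [hψ]
    haveI : LocallyOfFiniteType (pullback.snd f ι) := MorphismProperty.pullback_snd _ _ inferInstance
    infer_instance
  haveI : Algebra.FiniteType C B := (HasRingHomProperty.Spec_iff (P := @LocallyOfFiniteType)).1 this
  let A := B ⊗[C] R
  haveI : IsNoetherianRing A := by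
    haveI : Algebra.FiniteType R (R ⊗[C] B) := inferInstance
    haveI : IsNoetherianRing (R ⊗[C] B) := Algebra.FiniteType.isNoetherianRing R (R ⊗[C] B)
    exact isNoetherianRing_of_ringEquiv (R ⊗[C] B) (Algebra.TensorProduct.comm C R B).toRingEquiv
  letI : Algebra (SeparableClosure k) A :=
    ((Algebra.TensorProduct.includeRight : R →ₐ[C] A).toRingHom.comp (algebraMap (SeparableClosure k) R)).toAlgebra
  haveI : IsScalarTower k (SeparableClosure k) A := .of_algebraMap_eq fun y => by
    show algebraMap k B y ⊗ₜ[C] (1 : R) = (1 : B) ⊗ₜ[C] algebraMap (SeparableClosure k) R (algebraMap k (SeparableClosure k) y)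
    rw [← IsScalarTower.algebraMap_apply, IsScalarTower.algebraMap_apply k C B, IsScalarTower.algebraMap_apply k C R,
      Algebra.algebraMap_eq_smul_one, TensorProduct.smul_tmul, ← Algebra.algebraMap_eq_smul_one]
  have hspec : Hens2.specOf Y (ι c) R = Spec.map (CommRingCat.ofHom (algebraMap C R)) ≫ ι := by
    show Spec.map (CommRingCat.ofHom (algebraMap O R)) ≫ Y.fromSpecStalk (ι c) = _
    rw [← hfac, ← Category.assoc, ← Spec.map_comp]
    rfl
  let u : Spec (CommRingCat.of A) ⟶ pullback f (Hens2.specOf Y (ι c) R) :=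
    (pullbackSpecIso C B R).inv ≫
      (pullback.map _ _ _ _ W.isoSpec.inv (𝟙 _) (𝟙 _)
        (by rw [Category.comp_id]; exact hψ) (by rw [Category.comp_id, Category.id_comp])) ≫
      (pullbackLeftPullbackSndIso f ι (Spec.map (CommRingCat.ofHom (algebraMap C R)))).hom ≫
      (pullback.congrHom rfl hspec).inv
  have hu : u ≫ pullback.fst f (Hens2.specOf Y (ι c) R) =
      Spec.map (CommRingCat.ofHom (algebraMap B A)) ≫ W.isoSpec.inv ≫ pullback.fst f ι := by
    simp only [u, Category.assoc, pullback.congrHom_inv, pullback.lift_fst, Category.comp_id,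
      pullbackLeftPullbackSndIso_hom_fst, pullback.lift_fst_assoc]
    rw [pullbackSpecIso_inv_fst_assoc]
    rfl
  refine subsingleton_H_of_iso_spec (k := SeparableClosure k) (e := 0) (d := d) (cdLE_zero_of_sepClosed _ _) u _
    (AcycCompLib.isLTorsion_pull _ hF) (fun P hP => ?_) q hq
  let v : Spec (CommRingCat.of B) ⟶ X := W.isoSpec.inv ≫ pullback.fst f ι
  let P' : Spec (CommRingCat.of B) := Spec.map (CommRingCat.ofHom (algebraMap B A)) P
  have hx : v P' ∈ EtPBC.supp F := by
    obtain ⟨Ω', _, _, ζ, hζ, hne⟩ := hP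
    refine ⟨Ω', inferInstance, inferInstance, ζ ≫ pullback.fst f (Hens2.specOf Y (ι c) R), ?_, fun hz =>
      hne (hz.of_iso (stalkCompIso _ ζ F))⟩
    rw [Scheme.Hom.comp_base, TopCat.coe_comp, Set.range_comp, hζ, Set.image_singleton, ← Scheme.Hom.comp_apply, hu]
    rw [show Spec.map (CommRingCat.ofHom (algebraMap B A)) ≫ W.isoSpec.inv ≫ pullback.fst f ι =
      Spec.map (CommRingCat.ofHom (algebraMap B A)) ≫ v from rfl, Scheme.Hom.comp_apply]
  have hv : v ≫ aX = Spec.map (CommRingCat.ofHom (algebraMap k B)) := by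
    rw [show CommRingCat.ofHom (algebraMap k B) = κ ≫ ψ from rfl, Spec.map_comp, hψ, hκ]
    simp only [v, ← w, Category.assoc, pullback.condition_assoc]
  haveI : IsOpenImmersion (pullback.fst f ι) := inferInstance
  have h1 : Algebra.trdeg k (A ⧸ P.asIdeal) ≤ (d : ℕ) :=
    (trdeg_quotient_tensor_le (k := k) (O := O) c.asIdeal P.asIdeal).trans
      (trdeg_quotient_le_resTrdeg aX v hv P' (resTrdegLE_of_closure aX _ (hd _ hx)))
  haveI : FaithfulSMul (SeparableClosure k) (A ⧸ P.asIdeal) :=
    (faithfulSMul_iff_algebraMap_injective _ _).2 (RingHom.injective _)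
  haveI : FaithfulSMul k (SeparableClosure k) :=
    (faithfulSMul_iff_algebraMap_injective _ _).2 (RingHom.injective _)
  rwa [← trdeg_add_eq k (SeparableClosure k) (A := A ⧸ P.asIdeal), trdeg_eq_zero (R := k) (A := SeparableClosure k),
    zero_add] at h1

end Groth.Agent.ArtinVanLib
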