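import Groth.Agent.ArtinVanLib.DimLE
import Groth.Agent.CdFieldLib.StalkField
import Groth.Agent.DimLiftLib.Basic
import Groth.Agent.AffLim.Presentation

/-!
# Vanishing in a given dimension, for algebras of that dimension
-/

set_option autoImplicit false
set_option backward.isDefEq.respectTransparency false
set_option backward.isDefEq.respectTransparency.types false
set_option linter.style.haveILetI false
set_option maxHeartbeats 1000000

universe u

open CategoryTheory CategoryTheory.Limits AlgebraicGeometry Opposite

noncomputable section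

namespace Groth.Agent.ArtinVanLib

open CdFieldLib

attribute [local instance] Groth.Agent.S0101.result

/-- The vanishing theorem for affine schemes of dimension at most `n` over separably closed fields. -/
def Art (n : ℕ) : Prop :=
  ∀ (k : Type u) [Field k] [IsSepClosed k] (X : Scheme.{u}) [IsAffine X] (f : X ⟶ Spec (CommRingCat.of k))
    [LocallyOfFiniteType f], topologicalKrullDim X ≤ n → CdLE Set.univ X n

/-- The same over any field. -/
theorem Art.field {n : ℕ} (h : Art.{u} n) {K : Type u} [Field K] {X : Scheme.{u}} [IsAffine X]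
    (f : X ⟶ Spec (CommRingCat.of K)) [LocallyOfFiniteType f] (hdim : topologicalKrullDim X ≤ n) {e : ℕ}
    (hK : CdLE Set.univ (Spec (CommRingCat.of K)) e) : CdLE Set.univ X (n + e) := by
  refine cdLE_of_leray f (fun F hF q hq => ?_) hK
  obtain ⟨R, _, _, _, _, hR⟩ := exists_sepClosed_stalk K
  let g := Spec.map (CommRingCat.ofHom (algebraMap K R))
  haveI : IsIntegralHom g := IsIntegralHom.SpecMap_iff.2
    ((algebraMap_isIntegral_iff (R := K) (A := R)).2 inferInstance)
  haveI : IsIntegralHom (pullback.fst f g) := inferInstance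
  haveI : IsAffine (pullback f g) := isAffine_of_isAffineHom (pullback.fst f g)
  exact hR X f F q (h R (pullback f g) (pullback.snd f g)
    ((DimLiftLib.le_of_isIntegralHom (pullback.fst f g)).trans hdim) _ (AcycCompLib.isLTorsion_pull (pullback.fst f g) hF) q hq)

section Limit

variable (k : Type u) [Field k] (R : Type u) [CommRing R] [Algebra k R]

/-- The finitely generated subalgebras. -/
abbrev KIdx : Type u := {S : Subalgebra k R // S.FG}

instance : IsDirected (KIdx k R) (· ≤ ·) :=
  ⟨fun S T => ⟨⟨S.1 ⊔ T.1, S.2.sup T.2⟩, le_sup_left (b := T.1), le_sup_right (a := S.1)⟩⟩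

instance : Nonempty (KIdx k R) := ⟨⟨⊥, Subalgebra.fg_bot⟩⟩

/-- The system of finitely generated subalgebras. -/
def kRing : KIdx k R ⥤ CommRingCat.{u} where
  obj S := CommRingCat.of S.1
  map h := CommRingCat.ofHom (Subalgebra.inclusion h.le).toRingHom
  map_id _ := by ext x; rfl
  map_comp _ _ := by ext x; rfl

/-- The inclusions into the algebra. -/
def kCocone : Cocone (kRing k R) where
  pt := CommRingCat.of R
  ι :=
    { app := fun S => CommRingCat.ofHom S.1.val.toRingHom
      naturality := fun _ _ _ => by ext x; rfl }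

/-- The inclusions form a colimit. -/
def isColimitKCocone : IsColimit (kCocone k R) :=
  (AffLim.nonempty_isColimit_of_elementwise (kCocone k R)
    (fun x => ⟨⟨Algebra.adjoin k {(x : R)}, ⟨{x}, by simp⟩⟩, ⟨x, Algebra.subset_adjoin rfl⟩, rfl⟩)
    (fun S x y e => ⟨S, le_rfl, by rw [show x = y from Subtype.ext e]⟩)).some

end Limit

/-- An algebra of dimension `n` has cohomological dimension `n` more than the field. -/
theorem cdLE_of_dimLE {n : ℕ} (h : Art.{u} n) {k R : Type u} [Field k] [CommRing R] [Algebra k R]
    (hR : DimLE k R n) {e : ℕ} (hk : CdLE Set.univ (Spec (CommRingCat.of k)) e) :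
    CdLE Set.univ (Spec (CommRingCat.of R)) (n + e) := by
  let D : (KIdx k R)ᵒᵖ ⥤ Scheme.{u} := (kRing k R).op ⋙ Scheme.Spec
  let c : Cone D := Scheme.Spec.mapCone (kCocone k R).op
  have hc : IsLimit c := isLimitOfPreserves Scheme.Spec (isColimitKCocone k R).op
  haveI : ∀ {i j : (KIdx k R)ᵒᵖ} (a : i ⟶ j), IsAffineHom (D.map a) := fun a =>
    inferInstanceAs (IsAffineHom (Spec.map _))
  haveI : ∀ i, IsAffine (D.obj i) := fun i => inferInstanceAs (IsAffine (Spec (CommRingCat.of i.unop.1)))
  refine cdLE_limit D c hc (n + e) fun i => ?_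
  haveI : Algebra.FiniteType k i.unop.1 := (Subalgebra.fg_iff_finiteType i.unop.1).1 i.unop.2
  let f : Spec (CommRingCat.of i.unop.1) ⟶ Spec (CommRingCat.of k) :=
    Spec.map (CommRingCat.ofHom (algebraMap k i.unop.1))
  haveI : LocallyOfFiniteType f := (HasRingHomProperty.Spec_iff (P := @LocallyOfFiniteType)).2
    (RingHom.finiteType_algebraMap.2 inferInstance)
  exact h.field f ((PrimeSpectrum.topologicalKrullDim_eq_ringKrullDim _).trans_le (hR.ringKrullDim_le i.unop.1)) hk

end Groth.Agent.ArtinVanLib
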