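import Groth.Agent.ArtinVanLib.DimFunMain
import Groth.Agent.CatLib.Basic
import Mathlib.AlgebraicGeometry.Properties

/-!
# Codimension and strict henselization
-/

set_option autoImplicit false
set_option backward.isDefEq.respectTransparency false
set_option backward.isDefEq.respectTransparency.types false
set_option linter.style.haveILetI false
set_option maxHeartbeats 1000000

universe u

open CategoryTheory CategoryTheory.Limits AlgebraicGeometry IsLocalRing Order

noncomputable section

namespace Groth.Agent.ArtinVanLib

variable {X : Scheme.{u}}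

/-- The point of a specialization in the spectrum of the local ring. -/
theorem fromSpecStalk_ker_specMap {x y : X} (h : x ⤳ y) :
    X.fromSpecStalk y (⟨RingHom.ker (Cyc.specMap y x h), RingHom.ker_isPrime _⟩ :
      PrimeSpectrum (X.presheaf.stalk y)) = x := by
  have e : X.fromSpecResidueField x =
      Spec.map (X.presheaf.stalkSpecializes h ≫ X.residue x) ≫ X.fromSpecStalk y := by
    rw [Spec.map_comp, Category.assoc, Scheme.SpecMap_stalkSpecializes_fromSpecStalk]
    rfl
  let z : Spec (X.residueField x) := closedPoint (X.residueField x)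
  have hz : X.fromSpecResidueField x z = x :=
    Set.mem_singleton_iff.1 ((Scheme.range_fromSpecResidueField x).le (Set.mem_range_self z))
  have hp : (Spec.map (X.presheaf.stalkSpecializes h ≫ X.residue x) z :
      PrimeSpectrum (X.presheaf.stalk y)) = ⟨RingHom.ker (Cyc.specMap y x h), RingHom.ker_isPrime _⟩ := by
    refine PrimeSpectrum.ext ?_
    show (maximalIdeal (X.residueField x)).comap _ = _
    rw [IsLocalRing.isField_iff_maximalIdeal_eq.1 (Field.toIsField _), ← RingHom.ker_eq_comap_bot]
    rfl
  rw [← hp]
  refine Eq.trans ?_ hz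
  rw [e, Scheme.Hom.comp_apply]

/-- Along a specialization the codimension grows by at least the dimension of the closure. -/
theorem coheight_add_coheight_le {x y : X} (h : x ⤳ y) :
    coheight x + coheight (⟨RingHom.ker (Cyc.specMap y x h), RingHom.ker_isPrime _⟩ :
      PrimeSpectrum (X.presheaf.stalk y)) ≤ coheight y := by
  let p : PrimeSpectrum (X.presheaf.stalk y) := ⟨RingHom.ker (Cyc.specMap y x h), RingHom.ker_isPrime _⟩
  let φ : (PrimeSpectrum (X.presheaf.stalk y))ᵒᵈ → X := fun q => X.fromSpecStalk y (OrderDual.ofDual q)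
  have hspec : ∀ q, φ q ⤳ y := fun q => by
    have := Set.mem_range_self (f := X.fromSpecStalk y) (OrderDual.ofDual q)
    rwa [Scheme.range_fromSpecStalk] at this
  have hφ : StrictMono φ := fun a b hab => by
    have hle : OrderDual.ofDual b ≤ OrderDual.ofDual a := hab.le
    refine lt_iff_le_not_ge.2 ⟨Scheme.le_iff_specializes.2
      (((PrimeSpectrum.le_iff_specializes _ _).1 hle).map (X.fromSpecStalk y).continuous), fun h' => hab.not_ge ?_⟩
    exact (PrimeSpectrum.le_iff_specializes (OrderDual.ofDual a) (OrderDual.ofDual b)).2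
      ((X.fromSpecStalk y).isEmbedding.isInducing.specializes_iff.1 (Scheme.le_iff_specializes.1 h'))
  have key : ∀ (m : ℕ), (m : ℕ∞) ≤ coheight x → ∀ (n : ℕ), (n : ℕ∞) ≤ coheight p →
      ((m + n : ℕ) : ℕ∞) ≤ coheight y := fun m hm n hn => by
    obtain ⟨s, hs, hsl⟩ := Order.exists_series_of_le_coheight x hm
    obtain ⟨t, ht, htl⟩ := Order.exists_series_of_le_coheight p hn
    let tr : LTSeries (PrimeSpectrum (X.presheaf.stalk y))ᵒᵈ := t.reverse
    let t' : LTSeries X := LTSeries.map tr φ hφ
    have hlast : t'.last = x := by
      show φ (RelSeries.last tr) = x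
      rw [show RelSeries.last tr = t.head from RelSeries.last_reverse t, ht]
      exact fromSpecStalk_ker_specMap h
    let w := RelSeries.smash t' s (hlast.trans hs.symm)
    have hw : y ≤ w.head := by
      rw [RelSeries.head_smash]
      exact Scheme.le_iff_specializes.2 (hspec _)
    refine le_trans (le_of_eq ?_) (Order.length_le_coheight hw)
    show ((m + n : ℕ) : ℕ∞) = ((t'.length + s.length : ℕ) : ℕ∞)
    rw [hsl, show t'.length = n from htl, add_comm]
  induction hx : coheight x using ENat.recTopCoe with
  | top =>
    have : coheight y = ⊤ := ENat.eq_top_iff_forall_ge.2 fun m =>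
      le_trans (by simp) (key m (by rw [hx]; exact le_top) 0 (by simp))
    rw [this]
    exact le_top
  | coe m =>
    induction hp : coheight p using ENat.recTopCoe with
    | top =>
      have : coheight y = ⊤ := ENat.eq_top_iff_forall_ge.2 fun n =>
        le_trans (Nat.cast_le.2 (Nat.le_add_left n m)) (key m hx.ge n (by rw [hp]; exact le_top))
      rw [this]
      exact le_top
    | coe n => exact_mod_cast key m hx.ge n hp.ge

theorem coheight_pos {x y : X} (h : x ⤳ y) (hne : x ≠ y) :
    1 ≤ coheight (⟨RingHom.ker (Cyc.specMap y x h), RingHom.ker_isPrime _⟩ :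
      PrimeSpectrum (X.presheaf.stalk y)) := by
  let p : PrimeSpectrum (X.presheaf.stalk y) := ⟨RingHom.ker (Cyc.specMap y x h), RingHom.ker_isPrime _⟩
  have hlt : p < closedPoint (X.presheaf.stalk y) := by
    refine lt_of_le_of_ne (le_maximalIdeal p.2.ne_top) fun he => hne ?_
    exact (fromSpecStalk_ker_specMap h).symm.trans
      ((congrArg (fun q : PrimeSpectrum (X.presheaf.stalk y) => X.fromSpecStalk y q) he).trans
        Scheme.fromSpecStalk_closedPoint)
  exact le_trans le_add_self (Order.coheight_add_one_le hlt)

/-- The strict localization of a closure is no bigger than the closure. -/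
theorem ringKrullDim_quotient_map_le {O R : Type u} [CommRing O] [IsLocalRing O] [CommRing R] [IsLocalRing R]
    [Algebra O R] [IsLocalHom (algebraMap O R)] [Hensel.IsStrictHenselization O R] (p : PrimeSpectrum O) :
    ringKrullDim (R ⧸ p.asIdeal.map (algebraMap O R)) ≤ coheight p := by
  obtain ⟨e⟩ := Henselization.exists_algEquiv_of_isStrictHenselization O R
  let H := Henselization.StrictHenselizationRing O
  let c : PrimeSpectrum R → PrimeSpectrum O := PrimeSpectrum.comap (algebraMap O R)
  have hc : StrictMono c := fun P Q hPQ => by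
    have h1 : PrimeSpectrum.comap (e : H →+* R) P < PrimeSpectrum.comap (e : H →+* R) Q :=
      lt_iff_le_not_ge.2 ⟨Ideal.comap_mono hPQ.le, fun h' => hPQ.not_ge fun r hr => by
        obtain ⟨z, rfl⟩ := e.surjective r
        exact h' (show z ∈ Q.asIdeal.comap (e : H →+* R) from hr)⟩
    have h2 := Henselization.strictMono_comap h1
    have hcomp : ∀ P : PrimeSpectrum R,
        PrimeSpectrum.comap (algebraMap O H) (PrimeSpectrum.comap (e : H →+* R) P) = c P := fun P => by
      refine PrimeSpectrum.ext (Ideal.ext fun r => ?_)
      show e (algebraMap O H r) ∈ P.asIdeal ↔ algebraMap O R r ∈ P.asIdeal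
      rw [AlgEquiv.commutes]
    rwa [hcomp, hcomp] at h2
  rw [ringKrullDim_quotient]
  refine iSup_le fun l => ?_
  let t : LTSeries (PrimeSpectrum O) := LTSeries.map (LTSeries.map l Subtype.val (fun a b h => h)) c hc
  have ht : p ≤ t.head := Ideal.le_comap_map.trans (Ideal.comap_mono l.head.2)
  exact WithBot.coe_le_coe.2 (Order.length_le_coheight (p := t) ht)

end Groth.Agent.ArtinVanLib
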