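import Groth.Agent.CdFieldLib.PointRpush
import Groth.Agent.S0620

/-!
# Higher direct images at a point, and local rings of open immersions
-/

set_option autoImplicit false
set_option backward.isDefEq.respectTransparency false
set_option backward.isDefEq.respectTransparency.types false
set_option linter.style.haveILetI false
set_option maxHeartbeats 1000000

universe u

open CategoryTheory CategoryTheory.Limits AlgebraicGeometry Opposite IsLocalRing

noncomputable section

namespace Groth.Agent.ArtinVanLib

open CdFieldLib

attribute [local instance] Groth.Agent.S0101.result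

theorem geomPt_default {S : Scheme.{u}} (x : S) (R : Type u) [CommRing R] [IsLocalRing R]
    [Algebra (S.presheaf.stalk x) R] [IsLocalHom (algebraMap (S.presheaf.stalk x) R)] :
    (Hens2.geomPt S x R) default = x := by
  show (S.fromSpecStalk x) (Spec.map (CommRingCat.ofHom (algebraMap (S.presheaf.stalk x) R))
    (Spec.map (CommRingCat.ofHom (residue R)) default)) = x
  refine (congrArg (S.fromSpecStalk x).base ?_).trans (Scheme.fromSpecStalk_closedPoint (x := x))
  rw [Subsingleton.elim (default : Spec (CommRingCat.of (ResidueField R))) (closedPoint (ResidueField R))]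
  show PrimeSpectrum.comap (algebraMap (S.presheaf.stalk x) R)
    (PrimeSpectrum.comap (residue R) (closedPoint (ResidueField R))) = closedPoint (S.presheaf.stalk x)
  rw [IsLocalRing.comap_closedPoint (residue R)]
  exact IsLocalRing.comap_closedPoint (algebraMap (S.presheaf.stalk x) R)

/-- A higher direct image is killed at a point once the cohomology over the strict localization vanishes. -/
theorem isZero_stalk_Rpush {X S : Scheme.{u}} (f : X ⟶ S) [QuasiCompact f] [QuasiSeparated f] (x : S) {c : ℕ}
    (h : ∀ (R : Type u) [CommRing R] [IsLocalRing R] [Algebra (S.presheaf.stalk x) R]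
      [IsLocalHom (algebraMap (S.presheaf.stalk x) R)] [Hensel.IsStrictHenselization (S.presheaf.stalk x) R],
      CdLE Set.univ (pullback f (Hens2.specOf S x R)) c)
    (F : EtCoh.Ab X) (hF : EtAcyc.IsLTorsion Set.univ F) (q : ℕ) (hq : c < q) {Ω : Type u} [Field Ω] [IsSepClosed Ω]
    (ξ : Spec (CommRingCat.of Ω) ⟶ S) (hξ : ξ default = x) :
    IsZero ((EtCoh.stalk ξ).obj ((EtCoh.Rpush f q).obj F)) := by
  obtain ⟨R, _, _, _, _, hR⟩ := Henselization.exists_strictHenselization (R := S.presheaf.stalk x)
  haveI := hR
  haveI : IsSepClosed (ResidueField R) :=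
    (Hensel.IsStrictHenselization.isSepClosure (R := S.presheaf.stalk x) (S := R)).sep_closed
  obtain ⟨e⟩ := Groth.Agent.S0620.result f F x R q
  haveI := h R _ (AcycCompLib.isLTorsion_pull (pullback.fst f (Hens2.specOf S x R)) hF) q hq
  exact isZero_stalk_of_default_eq _ ((AddCommGrpCat.isZero_of_subsingleton _).of_iso e)
    (hξ.trans (geomPt_default x R).symm)

/-- The local ring at a point of an affine open. -/
theorem exists_isLocalization_stalk {P : Scheme.{u}} {C : Type u} [CommRing C]
    (ι : Spec (CommRingCat.of C) ⟶ P) [IsOpenImmersion ι] (q : Spec (CommRingCat.of C)) :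
    ∃ _ : Algebra C (P.presheaf.stalk (ι q)), IsLocalization.AtPrime (P.presheaf.stalk (ι q)) q.asIdeal ∧
      Spec.map (CommRingCat.ofHom (algebraMap C (P.presheaf.stalk (ι q)))) ≫ ι = P.fromSpecStalk (ι q) := by
  let O' := (Spec (CommRingCat.of C)).presheaf.stalk q
  letI : Algebra C O' := StructureSheaf.stalkAlgebra C q
  haveI : IsLocalization.AtPrime O' q.asIdeal := StructureSheaf.IsLocalization.to_stalk C q
  let e : P.presheaf.stalk (ι q) ≅ O' := asIso (ι.stalkMap q)
  letI : Algebra C (P.presheaf.stalk (ι q)) := (e.inv.hom.comp (algebraMap C O')).toAlgebra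
  refine ⟨inferInstance, ?_, ?_⟩
  · exact IsLocalization.isLocalization_of_algEquiv _
      ({ e.symm.commRingCatIsoToRingEquiv with commutes' := fun _ => rfl } : O' ≃ₐ[C] P.presheaf.stalk (ι q))
  · rw [show CommRingCat.ofHom (algebraMap C (P.presheaf.stalk (ι q))) =
      CommRingCat.ofHom (algebraMap C O') ≫ inv (ι.stalkMap q) from rfl, Spec.map_comp, Category.assoc,
      ← cancel_epi (Spec.map (ι.stalkMap q)), Scheme.SpecMap_stalkMap_fromSpecStalk, Spec.map_inv,
      IsIso.hom_inv_id_assoc, Spec.fromSpecStalk_eq']
    rfl

/-- An open subscheme pulled back to a scheme through an open immersion with the same points. -/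
theorem nonempty_iso_of_range {W P T T' : Scheme.{u}} (j : W ⟶ P) [IsOpenImmersion j] (g : T ⟶ P) (v : T' ⟶ T)
    [IsOpenImmersion v] (h : Set.range v = g ⁻¹' Set.range j) : Nonempty (pullback j g ≅ T') :=
  ⟨IsOpenImmersion.isoOfRangeEq (pullback.snd j g) v ((IsOpenImmersion.range_pullbackSnd j g).trans h.symm)⟩

end Groth.Agent.ArtinVanLib
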