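import Groth.Agent.ProjMap.Segre

/-!
# The two affine lines of the projective line
-/

set_option autoImplicit false
set_option backward.isDefEq.respectTransparency false
set_option backward.defeqAttrib.useBackward true
set_option linter.style.haveILetI false
set_option maxHeartbeats 1000000

universe u

open CategoryTheory AlgebraicGeometry HomogeneousLocalization

noncomputable section

namespace Groth.Agent.ArtinVanLib

variable (R : Type u) [CommRing R]

local notation "𝒢" => CohB1.polyGrading 1 R

/-- The homogeneous coordinates of the affine line in the `c`-th chart. -/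
def lineCoord (c : Fin (1 + 1)) : Fin (1 + 1) → Polynomial R := fun i => if i = c then 1 else Polynomial.X

/-- The affine line as the `c`-th chart. -/
def line (c : Fin (1 + 1)) : Spec (CommRingCat.of (Polynomial R)) ⟶ CohB1.ProjSpace 1 R :=
  ProjMap.point (R := R) (lineCoord R c) c (by simp [lineCoord])

/-- The other index. -/
def other (c : Fin (1 + 1)) : Fin (1 + 1) := if c = 0 then 1 else 0

theorem other_ne (c : Fin (1 + 1)) : other c ≠ c := by fin_cases c <;> simp [other]

theorem eq_or_eq_other (c i : Fin (1 + 1)) : i = c ∨ i = other c := by fin_cases c <;> fin_cases i <;> simp [other]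

theorem isIso_evalAway (c : Fin (1 + 1)) :
    IsIso (CommRingCat.ofHom (ProjMap.evalAway (R := R) (lineCoord R c) (MvPolynomial.X c) (by simp [lineCoord]))) := by
  let A := Away 𝒢 (MvPolynomial.X c : MvPolynomial (Fin (1 + 1)) R)
  letI : Algebra R A := ((fromZeroRingHom 𝒢 (Submonoid.powers (MvPolynomial.X c))).comp (algebraMap R (𝒢 0))).toAlgebra
  let t : A := ProjMap.coords c (RingHom.id A) (other c)
  let ψ : Polynomial R →+* A := (Polynomial.aeval t).toRingHom
  let ev := ProjMap.evalAway (R := R) (lineCoord R c) (MvPolynomial.X c) (by simp [lineCoord])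
  have hev : ∀ r, ev (algebraMap R A r) = algebraMap R (Polynomial R) r := fun r =>
    ProjMap.evalAway_fromZero _ _ (by simp [lineCoord]) r
  have h1 : ψ.comp ev = RingHom.id A := by
    have hid := ProjMap.eq_evalAway_coords c (RingHom.id A) (fun _ => rfl)
    have hv : (fun i => ψ (lineCoord R c i)) = ProjMap.coords c (RingHom.id A) := funext fun i => by
      rcases eq_or_eq_other c i with rfl | rfl
      · simp [lineCoord, ProjMap.coords_self]
      · simp [lineCoord, other_ne, ψ, t]
    refine (ProjMap.comp_evalAway ψ (fun r => (Polynomial.aeval t).commutes r) (ProjMap.X_mem c) _ (by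
      simp only [hv, MvPolynomial.aeval_X, ProjMap.coords_self]; exact isUnit_one)).trans ?_
    simp only [hv]
    exact hid.symm
  have h2 : ev.comp ψ = RingHom.id _ := by
    refine Polynomial.ringHom_ext (fun r => ?_) ?_
    · show ev (Polynomial.aeval t (Polynomial.C r)) = _
      rw [Polynomial.aeval_C, hev]
      rfl
    · show ev (Polynomial.aeval t Polynomial.X) = Polynomial.X
      rw [Polynomial.aeval_X]
      have h := ProjMap.evalAway_mk (R := R) (v := lineCoord R c) (ProjMap.X_mem c) (by simp [lineCoord]) 1
        (MvPolynomial.X (other c)) (by simpa using ProjMap.X_mem (R := R) (other c))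
      simpa [lineCoord, other_ne, t, A, ProjMap.coords, ev, RingHom.id_apply] using h
  exact ⟨CommRingCat.ofHom ψ, CommRingCat.hom_ext h1, CommRingCat.hom_ext h2⟩

instance (c : Fin (1 + 1)) : IsOpenImmersion (line R c) := by
  haveI := isIso_evalAway R c
  rw [line, ProjMap.point]
  infer_instance

theorem line_toSpec (c : Fin (1 + 1)) :
    line R c ≫ CohB1.ProjSpace.toSpec 1 R = Spec.map (CommRingCat.ofHom Polynomial.C) :=
  ProjMap.point_toSpec (R := R) _ _ _

theorem range_line (c : Fin (1 + 1)) :
    Set.range (line R c) = Set.range (ProjMap.chart (R := R) c) := by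
  haveI := isIso_evalAway R c
  rw [line, ProjMap.point, Scheme.Hom.comp_base, TopCat.coe_comp, Set.range_comp,
    Set.range_eq_univ.2 (Surjective.surj), Set.image_univ]

theorem mem_range_line_iff (c : Fin (1 + 1)) (q : Spec (CommRingCat.of (Polynomial R))) :
    line R c q ∈ Set.range (line R (other c)) ↔ (Polynomial.X : Polynomial R) ∉ q.asIdeal := by
  rw [range_line, ← Scheme.Hom.coe_opensRange, SetLike.mem_coe, ProjMap.mem_opensRange_chart]
  have h := SetLike.ext_iff.mp (ProjMap.point_preimage_basicOpen (R := R) (lineCoord R c) c (by simp [lineCoord])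
    one_pos (ProjMap.X_mem (other c))) q
  refine h.trans ?_
  show MvPolynomial.aeval (lineCoord R c) (MvPolynomial.X (other c)) ∉ q.asIdeal ↔ _
  simp [lineCoord, other_ne]

theorem exists_line (z : CohB1.ProjSpace 1 R) : ∃ c, z ∈ Set.range (line R c) := by
  obtain ⟨c, hc⟩ := ProjMap.exists_chart R z
  refine ⟨c, ?_⟩
  rw [range_line]
  exact hc

end Groth.Agent.ArtinVanLib
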