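import Groth.Agent.CdFieldLib.SHField
import Groth.Agent.CdFieldLib.PointRpush
import Groth.Agent.Hensel.Lift
import Mathlib.RingTheory.Etale.Field

/-!
# Separably closed fields inside strictly henselian rings
-/

set_option autoImplicit false
set_option backward.isDefEq.respectTransparency false
set_option backward.isDefEq.respectTransparency.types false
set_option linter.style.haveILetI false
set_option maxHeartbeats 1000000

universe u

open IsLocalRing IntermediateField

noncomputable section

namespace Groth.Agent.ArtinVanLib

/-- The separable closure of a field under a strictly henselian ring maps to the ring. -/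
theorem exists_algHom_sepClosure {F R : Type u} [Field F] [CommRing R] [Algebra F R] [HenselianLocalRing R]
    [IsSepClosed (ResidueField R)] : Nonempty (SeparableClosure F →ₐ[F] R) := by
  let K' := SeparableClosure F
  let σ₀ : K' →ₐ[F] ResidueField R := IsSepClosed.lift
  have key : ∀ L : IntermediateField F K', FiniteDimensional F L →
      ∃! τ : L →ₐ[F] R, ∀ x, residue R (τ x) = σ₀ x := fun L hL => by
    haveI := hL
    haveI : Algebra.FormallyEtale F L := Algebra.FormallyEtale.of_isSeparable F L
    haveI : Algebra.FinitePresentation F L := Algebra.FinitePresentation.of_finiteType.1 inferInstance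
    haveI : Algebra.Etale F L := ⟨inferInstance, inferInstance⟩
    obtain ⟨τ, hτ⟩ := Hensel.exists_algHom_of_etale (A := R) (I := maximalIdeal R) (σ₀.comp L.val)
    refine ⟨τ, fun x => AlgHom.congr_fun hτ x, fun τ' hτ' => ?_⟩
    refine Hensel.algHom_unique (I := maximalIdeal R) (maximalIdeal_le_jacobson _) fun x => ?_
    rw [← residue_eq_zero_iff, map_sub, hτ', show residue R (τ x) = σ₀ x from AlgHom.congr_fun hτ x, sub_self]
  let fin : Finset K' → IntermediateField F K' := fun s => IntermediateField.adjoin F (s : Set K')
  have hfin : ∀ s, FiniteDimensional F (fin s) := fun s =>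
    IntermediateField.finiteDimensional_adjoin fun x _ => Algebra.IsIntegral.isIntegral x
  choose τ hτ huniq using fun L hL => key L hL
  let f : K' → R := fun x => τ (fin {x}) (hfin _) ⟨x, IntermediateField.subset_adjoin F _ (by simp)⟩
  have hf : ∀ (L : IntermediateField F K') (hL : FiniteDimensional F L) (x : L), f x = τ L hL x := fun L hL x => by
    have hle : fin {(x : K')} ≤ L := IntermediateField.adjoin_le_iff.2 (by simp [x.2])
    have e := huniq (fin {(x : K')}) (hfin _) ((τ L hL).comp (IntermediateField.inclusion hle)) fun y => hτ L hL _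
    exact (AlgHom.congr_fun e ⟨(x : K'), IntermediateField.subset_adjoin F _ (by simp)⟩).symm
  classical
  refine ⟨AlgHom.mk ⟨⟨⟨f, ?_⟩, fun x y => ?_⟩, ?_, fun x y => ?_⟩ fun c => ?_⟩
  · exact (hf _ (hfin ∅) 1).trans (map_one _)
  · let X : fin {x, y} := ⟨x, IntermediateField.subset_adjoin F _ (by simp)⟩
    let Y : fin {x, y} := ⟨y, IntermediateField.subset_adjoin F _ (by simp)⟩
    show f ((X * Y : fin {x, y}) : K') = f X * f Y
    rw [hf _ (hfin _), hf _ (hfin _), hf _ (hfin _), map_mul]
  · exact (hf _ (hfin ∅) 0).trans (map_zero _)
  · let X : fin {x, y} := ⟨x, IntermediateField.subset_adjoin F _ (by simp)⟩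
    let Y : fin {x, y} := ⟨y, IntermediateField.subset_adjoin F _ (by simp)⟩
    show f ((X + Y : fin {x, y}) : K') = f X + f Y
    rw [hf _ (hfin _), hf _ (hfin _), hf _ (hfin _), map_add]
  · exact (hf _ (hfin ∅) (algebraMap F (fin ∅) c)).trans (AlgHom.commutes _ c)

/-- A separably closed field of given transcendence degree inside a strictly henselian ring. -/
theorem exists_sepClosed_subfield {k R : Type u} [Field k] [CommRing R] [Algebra k R] [HenselianLocalRing R]
    [IsSepClosed (ResidueField R)] {δ : ℕ} (s : Fin δ → R) (hs : AlgebraicIndependent k fun i => residue R (s i)) :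
    ∃ (k' : Type u) (_ : Field k') (_ : Algebra k k') (_ : Algebra k' R),
      IsScalarTower k k' R ∧ IsSepClosed k' ∧ Algebra.trdeg k k' = δ := by
  let P := MvPolynomial (Fin δ) k
  let F := FractionRing P
  let ev : P →ₐ[k] R := MvPolynomial.aeval s
  have hunit : ∀ q : nonZeroDivisors P, IsUnit (ev q) := fun q => by
    rw [← residue_ne_zero_iff_isUnit]
    intro h0
    refine nonZeroDivisors.coe_ne_zero q (hs.eq_zero_of_aeval_eq_zero _ ?_)
    rw [← h0]
    exact (MvPolynomial.comp_aeval_apply (R := k) (f := s) (IsScalarTower.toAlgHom k R (ResidueField R)) (q : P)).symm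
  let aF : F →+* R := IsLocalization.lift hunit
  letI : Algebra F R := aF.toAlgebra
  haveI : IsScalarTower k F R := .of_algebraMap_eq (R := k) (S := F) (A := R) fun c => by
    rw [IsScalarTower.algebraMap_apply k P F]
    exact ((IsLocalization.lift_eq hunit _).trans (ev.commutes c)).symm
  suffices h : ∀ (F : Type u) [Field F] [Algebra k F] [Algebra F R] [IsScalarTower k F R],
      Algebra.trdeg k F = δ → ∃ (k' : Type u) (_ : Field k') (_ : Algebra k k') (_ : Algebra k' R),
        IsScalarTower k k' R ∧ IsSepClosed k' ∧ Algebra.trdeg k k' = δ from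
    h F (CdFieldLib.trdeg_fractionRing_mvPolynomial k δ)
  intro F _ _ _ _ hF
  obtain ⟨σ⟩ := exists_algHom_sepClosure (F := F) (R := R)
  letI : Algebra (SeparableClosure F) R := σ.toRingHom.toAlgebra
  haveI : IsScalarTower F (SeparableClosure F) R := .of_algebraMap_eq fun c => (σ.commutes c).symm
  haveI : IsScalarTower k (SeparableClosure F) R := .of_algebraMap_eq fun c => by
    rw [IsScalarTower.algebraMap_apply k F (SeparableClosure F), ← IsScalarTower.algebraMap_apply F (SeparableClosure F) R,
      ← IsScalarTower.algebraMap_apply]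
  refine ⟨SeparableClosure F, inferInstance, inferInstance, inferInstance, inferInstance, inferInstance, ?_⟩
  rw [← trdeg_add_eq k F (A := SeparableClosure F), trdeg_eq_zero (R := F) (A := SeparableClosure F), add_zero]
  exact hF

end Groth.Agent.ArtinVanLib
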