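import Groth.Agent.ArtinVanLib.Basic
import Groth.Agent.ArtinVanLib.SubField
import Groth.Agent.ArtinVanLib.P1
import Groth.Agent.ArtinVanLib.Local
import Groth.Agent.CdFieldLib.Rows
import Groth.Agent.EtVanish.Henselian
import Groth.Agent.DimFormulaLib.Scheme
import Groth.Agent.PBCLib.Rows
import Groth.Agent.PBCLib.Final

/-!
# The affine line over a strictly henselian ring
-/

set_option autoImplicit false
set_option backward.isDefEq.respectTransparency false
set_option backward.isDefEq.respectTransparency.types false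
set_option linter.style.haveILetI false
set_option maxHeartbeats 1000000

universe u

open CategoryTheory CategoryTheory.Limits AlgebraicGeometry Opposite IsLocalRing
open scoped Polynomial TensorProduct

noncomputable section

namespace Groth.Agent.ArtinVanLib

open CdFieldLib

attribute [local instance] Groth.Agent.S0101.result

/-- The dimension of the projective line over a residue field. -/
theorem topologicalKrullDim_fibre_le (R κ : Type u) [CommRing R] [Field κ] [Algebra R κ] :
    topologicalKrullDim ↥(pullback (CohB1.ProjSpace.toSpec 1 R) (Spec.map (CommRingCat.ofHom (algebraMap R κ)))) ≤ 1 := by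
  let r := Spec.map (CommRingCat.ofHom (algebraMap R κ))
  rw [DimFormulaLib.topologicalKrullDim_eq_iSup_localDim]
  refine iSup_le fun z => ?_
  obtain ⟨c, hc⟩ := exists_line R (pullback.fst (CohB1.ProjSpace.toSpec 1 R) r z)
  let u := pullback.snd (line R c) (pullback.fst (CohB1.ProjSpace.toSpec 1 R) r)
  have hu : Set.range u = pullback.fst (CohB1.ProjSpace.toSpec 1 R) r ⁻¹' Set.range (line R c) :=
    IsOpenImmersion.range_pullbackSnd _ _
  refine iInf_le_of_le ⟨u.opensRange, (hu.ge hc :)⟩ ?_
  have e1 : topologicalKrullDim (u.opensRange : Set ↥(pullback (CohB1.ProjSpace.toSpec 1 R) r)) =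
      topologicalKrullDim ↥(pullback (line R c) (pullback.fst (CohB1.ProjSpace.toSpec 1 R) r)) :=
    (IsHomeomorph.topologicalKrullDim_eq _ u.isOpenEmbedding.isEmbedding.toHomeomorph.isHomeomorph).symm
  refine e1.trans_le ?_
  let A := R[X] ⊗[R] κ
  let eW : pullback (line R c) (pullback.fst (CohB1.ProjSpace.toSpec 1 R) r) ≅ Spec (CommRingCat.of A) :=
    pullbackRightPullbackFstIso _ _ _ ≪≫ pullback.congrHom (line_toSpec R c) rfl ≪≫ pullbackSpecIso R R[X] κ
  rw [(IsHomeomorph.topologicalKrullDim_eq _ (Scheme.homeoOfIso eW).isHomeomorph)]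
  refine (PrimeSpectrum.topologicalKrullDim_eq_ringKrullDim A).trans_le ?_
  letI : Algebra κ A := Algebra.TensorProduct.rightAlgebra
  have hsurj : Function.Surjective (Polynomial.aeval (R := κ) ((Polynomial.X : R[X]) ⊗ₜ[R] (1 : κ) : A)) := by
    intro a
    induction a using TensorProduct.induction_on with
    | zero => exact ⟨0, map_zero _⟩
    | add a b ha hb =>
      obtain ⟨a, rfl⟩ := ha
      obtain ⟨b, rfl⟩ := hb
      exact ⟨a + b, map_add _ _ _⟩
    | tmul p x =>
      refine ⟨Polynomial.C x * p.map (algebraMap R κ), ?_⟩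
      rw [map_mul, Polynomial.aeval_C, Polynomial.aeval_map_algebraMap]
      show ((1 : R[X]) ⊗ₜ[R] x) * _ = _
      rw [show ((Polynomial.X : R[X]) ⊗ₜ[R] (1 : κ) : A) =
        (Algebra.TensorProduct.includeLeft : R[X] →ₐ[R] A) Polynomial.X from rfl, Polynomial.aeval_algHom_apply,
        Polynomial.aeval_X_left_apply, Algebra.TensorProduct.includeLeft_apply, Algebra.TensorProduct.tmul_mul_tmul,
        one_mul, mul_one]
  refine (ringKrullDim_le_of_surjective _ hsurj).trans ?_
  rw [Polynomial.ringKrullDim_of_isNoetherianRing, ringKrullDim_eq_zero_of_field, zero_add]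

/-- A sheaf on the projective line over a strictly henselian ring killed off one point of the closed fibre. -/
theorem subsingleton_H_of_supp_closedPoint {R : Type u} [CommRing R] [HenselianLocalRing R]
    [IsSepClosed (ResidueField R)] (z₀ : CohB1.ProjSpace 1 R) (G : EtCoh.Ab (CohB1.ProjSpace 1 R))
    (hG : EtAcyc.IsLTorsion Set.univ G) (hcl : IsClosed ({z₀} : Set (CohB1.ProjSpace 1 R)))
    (h : ∀ (Ω : Type u) [Field Ω] [IsSepClosed Ω] (ξ : Spec (CommRingCat.of Ω) ⟶ CohB1.ProjSpace 1 R),
      CohB1.ProjSpace.toSpec 1 R (ξ default) = closedPoint R → ξ default ≠ z₀ → IsZero ((EtCoh.stalk ξ).obj G))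
    (a : ℕ) (ha : a ≠ 0 ∨ ∀ (Ω : Type u) [Field Ω] [IsSepClosed Ω] (ξ : Spec (CommRingCat.of Ω) ⟶ CohB1.ProjSpace 1 R),
      ξ default = z₀ → IsZero ((EtCoh.stalk ξ).obj G)) : Subsingleton (EtCoh.H (CohB1.ProjSpace 1 R) G a) := by
  haveI : IsProper (CohB1.ProjSpace.toSpec 1 R) := inferInstanceAs (IsProper (CohB1.ProjSpace.toSpec 1 R))
  let r := Spec.map (CommRingCat.ofHom (residue R))
  let φ := pullback.fst (CohB1.ProjSpace.toSpec 1 R) r
  haveI : IsClosedImmersion r := IsClosedImmersion.spec_of_surjective _ IsLocalRing.residue_surjective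
  haveI : IsClosedImmersion φ := inferInstance
  have hbij := PBCLib.bijective_Hpull_closedFibre (fun {_ _} g _ => PBCLib.bcAll_of_proper g) R
    (CohB1.ProjSpace.toSpec 1 R) G (RpushTorsLib.isTorsion_of_isLTorsion hG) a
  suffices hs : Subsingleton (EtCoh.H (pullback (CohB1.ProjSpace.toSpec 1 R) r) ((EtCoh.pull φ).obj G) a) from
    hbij.1.subsingleton
  let G₀ := (EtCoh.pull φ).obj G
  have hclosed : ∀ w, CohB1.ProjSpace.toSpec 1 R (φ w) = closedPoint R := fun w => by
    rw [← Scheme.Hom.comp_apply, pullback.condition, Scheme.Hom.comp_apply]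
    rw [Subsingleton.elim (pullback.snd (CohB1.ProjSpace.toSpec 1 R) r w) (closedPoint (ResidueField R))]
    exact IsLocalRing.comap_closedPoint (residue R)
  have hst : ∀ (Ω : Type u) [Field Ω] [IsSepClosed Ω] (ζ : Spec (CommRingCat.of Ω) ⟶ pullback (CohB1.ProjSpace.toSpec 1 R) r),
      IsZero ((EtCoh.stalk (ζ ≫ φ)).obj G) → IsZero ((EtCoh.stalk ζ).obj G₀) := fun Ω _ _ ζ hz =>
    hz.of_iso (stalkCompIso φ ζ G)
  by_cases hz : IsZero G₀
  · exact subsingleton_of_forall_eq 0 fun x => by
      rw [← Abelian.Ext.comp_mk₀_id x, hz.eq_of_src (𝟙 _) 0, Abelian.Ext.mk₀_zero, Abelian.Ext.comp_zero]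
  obtain ⟨w₀, hw₀⟩ : ∃ w, φ w = z₀ := by
    by_contra hc
    push Not at hc
    refine hz ((EtPtsLib.isZero_iff_ab _).2 fun Ω _ _ ζ => hst Ω ζ (h Ω _ ?_ ?_))
    · rw [Scheme.Hom.comp_apply]; exact hclosed _
    · rw [Scheme.Hom.comp_apply]; exact hc _
  have hsupp : EtPBC.supp G₀ ⊆ {w₀} := by
    rintro w ⟨Ω, _, _, ζ, hζ, hne⟩
    have hw : ζ default = w := by
      have := Set.mem_range_self (f := ζ) default
      rw [hζ] at this
      exact this
    by_contra hne'
    refine hne (hst Ω ζ (h Ω _ ?_ ?_))
    · rw [Scheme.Hom.comp_apply]; exact hclosed _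
    · rw [Scheme.Hom.comp_apply, hw]
      exact fun e => hne' (φ.isClosedEmbedding.injective (e.trans hw₀.symm))
  rcases ha with ha | ha
  · obtain ⟨b, rfl⟩ : ∃ b, a = b + 1 := ⟨a - 1, by omega⟩
    have hw₀c : IsClosed ({w₀} : Set ↥(pullback (CohB1.ProjSpace.toSpec 1 R) r)) := by
      have : ({w₀} : Set ↥(pullback (CohB1.ProjSpace.toSpec 1 R) r)) = φ ⁻¹' {z₀} :=
        Set.ext fun w => ⟨fun e => by rw [Set.mem_singleton_iff.1 e]; exact hw₀,
          fun e => φ.isClosedEmbedding.injective ((Set.mem_singleton_iff.1 e).trans hw₀.symm)⟩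
      rw [this]
      exact hcl.preimage φ.continuous
    haveI : LocallyOfFiniteType (pullback.snd (CohB1.ProjSpace.toSpec 1 R) r) :=
      MorphismProperty.pullback_snd _ _ inferInstance
    exact subsingleton_of_forall_eq 0 fun e =>
      EtClosedPts.H_eq_zero_of_supp (pullback.snd (CohB1.ProjSpace.toSpec 1 R) r) w₀ hw₀c hsupp b e
  · refine absurd ((EtPtsLib.isZero_iff_ab _).2 fun Ω _ _ ζ => hst Ω ζ ?_) hz
    by_cases e : φ (ζ default) = z₀
    · exact ha Ω _ (by rw [Scheme.Hom.comp_apply]; exact e)
    · exact h Ω _ (by rw [Scheme.Hom.comp_apply]; exact hclosed _) (by rw [Scheme.Hom.comp_apply]; exact e)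

/-- The point at infinity of the closed fibre. -/
def infPt (R : Type u) [CommRing R] [IsLocalRing R] : Spec (CommRingCat.of R[X]) :=
  ⟨RingHom.ker (Polynomial.eval₂RingHom (residue R) 0), RingHom.ker_isPrime _⟩

theorem eq_infPt {R : Type u} [CommRing R] [IsLocalRing R] (q : Spec (CommRingCat.of R[X]))
    (hX : (Polynomial.X : R[X]) ∈ q.asIdeal) (hc : Spec.map (CommRingCat.ofHom (Polynomial.C : R →+* R[X])) q = closedPoint R) :
    q = infPt R := by
  have hle : (infPt R).asIdeal ≤ q.asIdeal := fun p hp => by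
    have h0 : p.coeff 0 ∈ maximalIdeal R := by
      rw [← residue_eq_zero_iff]
      have : p.eval₂ (residue R) 0 = 0 := hp
      rwa [Polynomial.eval₂_at_zero] at this
    have hC : Polynomial.C (p.coeff 0) ∈ q.asIdeal := by
      have := congrArg PrimeSpectrum.asIdeal hc
      exact (this.ge h0 :)
    rw [← Polynomial.X_mul_divX_add p]
    exact Ideal.add_mem _ (Ideal.mul_mem_right _ _ hX) hC
  refine PrimeSpectrum.ext ((Ideal.IsMaximal.eq_of_le ?_ q.isPrime.ne_top hle).symm)
  refine RingHom.ker_isMaximal_of_surjective _ fun y => ?_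
  obtain ⟨y, rfl⟩ := IsLocalRing.residue_surjective y
  exact ⟨Polynomial.C y, Polynomial.eval₂_C _ _⟩

/-- The cohomology near infinity: the punctured strict localization has dimension one more than the base. -/
theorem cdLE_pullback_infPt {m : ℕ} (hA : Art.{u} m) {k R : Type u} [Field k] [IsSepClosed k] [CommRing R]
    [Algebra k R] [HenselianLocalRing R] (hR : DimLE k R m) (R' : Type u) [CommRing R'] [IsLocalRing R']
    [Algebra ((CohB1.ProjSpace 1 R).presheaf.stalk (line R 1 (infPt R))) R']
    [IsLocalHom (algebraMap ((CohB1.ProjSpace 1 R).presheaf.stalk (line R 1 (infPt R))) R')]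
    [Hensel.IsStrictHenselization ((CohB1.ProjSpace 1 R).presheaf.stalk (line R 1 (infPt R))) R'] :
    CdLE Set.univ (pullback (line R 0) (Hens2.specOf (CohB1.ProjSpace 1 R) (line R 1 (infPt R)) R')) (m + 1) := by
  obtain ⟨_, hloc, hfac⟩ := exists_isLocalization_stalk (line R 1) (infPt R)
  haveI := hloc
  generalize hz : line R 1 (infPt R) = z at *
  let O := (CohB1.ProjSpace 1 R).presheaf.stalk z
  letI : Algebra k O := ((algebraMap R[X] O).comp (algebraMap k R[X])).toAlgebra
  haveI : IsScalarTower k R[X] O := .of_algebraMap_eq' rfl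
  letI : Algebra R[X] R' := ((algebraMap O R').comp (algebraMap R[X] O)).toAlgebra
  haveI : IsScalarTower R[X] O R' := .of_algebraMap_eq' rfl
  letI : Algebra k R' := ((algebraMap R[X] R').comp (algebraMap k R[X])).toAlgebra
  haveI : IsScalarTower k R[X] R' := .of_algebraMap_eq' rfl
  haveI : IsScalarTower k O R' := .of_algebraMap_eq' rfl
  let y : R' := algebraMap R[X] R' Polynomial.X
  let L := Localization.Away y
  obtain ⟨eP⟩ : Nonempty (pullback (line R 0) (Hens2.specOf (CohB1.ProjSpace 1 R) z R') ≅ Spec (CommRingCat.of L)) := by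
    refine nonempty_iso_of_range _ _ (Spec.map (CommRingCat.ofHom (algebraMap R' L))) ?_
    refine (PrimeSpectrum.localization_away_comap_range L y).trans (Set.ext fun p => ?_)
    have e : Hens2.specOf (CohB1.ProjSpace 1 R) z R' =
        Spec.map (CommRingCat.ofHom (algebraMap R[X] R')) ≫ line R 1 := by
      show Spec.map (CommRingCat.ofHom (algebraMap O R')) ≫ (CohB1.ProjSpace 1 R).fromSpecStalk z = _
      rw [← hfac, ← Category.assoc, ← Spec.map_comp]
      rfl
    rw [Set.mem_preimage, e, Scheme.Hom.comp_apply, show (0 : Fin (1 + 1)) = other 1 from rfl, mem_range_line_iff]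
    rfl
  refine cdLE_of_iso eP ?_
  letI : Algebra k[X] L := ((algebraMap R' L).comp ((algebraMap R[X] R').comp (Polynomial.mapRingHom (algebraMap k R)))).toAlgebra
  have hunit : ∀ p : nonZeroDivisors k[X], IsUnit (algebraMap k[X] L p) := fun ⟨p, hp⟩ => by
    obtain ⟨u, hu, hnd⟩ := Polynomial.exists_eq_pow_rootMultiplicity_mul_and_not_dvd p (nonZeroDivisors.ne_zero hp) 0
    rw [map_zero, sub_zero] at hu hnd
    show IsUnit (algebraMap k[X] L p)
    rw [hu, map_mul, map_pow]
    refine (IsUnit.pow _ ?_).mul ?_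
    · show IsUnit (algebraMap R' L (algebraMap R[X] R' (Polynomial.map (algebraMap k R) Polynomial.X)))
      rw [Polynomial.map_X]
      exact IsLocalization.Away.algebraMap_isUnit y
    · show IsUnit (algebraMap R' L (algebraMap O R' (algebraMap R[X] O (Polynomial.map (algebraMap k R) u))))
      refine ((IsLocalization.map_units (M := (infPt R).asIdeal.primeCompl) O ⟨_, fun hmem => hnd ?_⟩).map _).map _
      rw [Polynomial.X_dvd_iff]
      have h0 : (u.map (algebraMap k R)).eval₂ (residue R) 0 = 0 := hmem
      rw [Polynomial.eval₂_at_zero, Polynomial.coeff_map] at h0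
      exact RingHom.injective ((residue R).comp (algebraMap k R)) (h0.trans (map_zero _).symm)
  let K := FractionRing k[X]
  letI : Algebra K L := (IsLocalization.lift (S := K) hunit).toAlgebra
  haveI : IsScalarTower k K L := .of_algebraMap_eq fun c => by
    show algebraMap k L c = IsLocalization.lift hunit (algebraMap k K c)
    rw [IsScalarTower.algebraMap_apply k k[X] K, IsLocalization.lift_eq]
    show algebraMap k L c = algebraMap R' L (algebraMap R[X] R' (Polynomial.map (algebraMap k R) (Polynomial.C c)))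
    rw [Polynomial.map_C, IsScalarTower.algebraMap_apply k R' L]
    rfl
  have hL : DimLE k L (m + 1) :=
    ((hR.polynomial.localization (S := O) (infPt R).asIdeal.primeCompl).strictHenselization (S := R')).localization
      (Submonoid.powers y)
  exact cdLE_of_dimLE hA
    (hL.of_subfield (k' := K) (δ := 1) (m := m) (by rw [trdeg_fractionRing_polynomial k K, Nat.cast_one]) (by omega))
    ((cdLE_ratFunc Set.univ k K (cdLE_zero_of_sepClosed _ k)).mono (d' := 1) (by omega))

/-- The affine line over a strictly henselian ring of dimension `m`. -/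
theorem cdLE_polynomial_strictlyHenselian {m : ℕ} (hm : 1 ≤ m) (hA : Art.{u} m) {k R : Type u} [Field k]
    [IsSepClosed k] [CommRing R] [Algebra k R] [HenselianLocalRing R] [IsSepClosed (ResidueField R)]
    (hR : DimLE k R m) : CdLE Set.univ (Spec (CommRingCat.of R[X])) (m + 1) := fun F hF n hn => by
  let P := CohB1.ProjSpace 1 R
  haveI : IsProper (CohB1.ProjSpace.toSpec 1 R) := inferInstanceAs (IsProper (CohB1.ProjSpace.toSpec 1 R))
  haveI : QuasiSeparatedSpace ↥P := quasiSeparatedSpace_of_quasiSeparated (CohB1.ProjSpace.toSpec 1 R)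
  haveI : QuasiCompact (line R 0) := quasiCompact_of_compactSpace (line R 0)
  have hcl : IsClosed ({line R 1 (infPt R)} : Set P) := by
    have : ({line R 1 (infPt R)} : Set P) =
        (Set.range (line R 0))ᶜ ∩ CohB1.ProjSpace.toSpec 1 R ⁻¹' {closedPoint R} := by
      refine Set.ext fun z => ⟨fun e => ?_, fun ⟨h1, h2⟩ => ?_⟩
      · rw [Set.mem_singleton_iff.1 e]
        refine ⟨fun h => ?_, ?_⟩
        · rw [show (0 : Fin (1 + 1)) = other 1 from rfl, mem_range_line_iff] at h
          exact h (Polynomial.eval₂_X _ _)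
        · show CohB1.ProjSpace.toSpec 1 R (line R 1 (infPt R)) = closedPoint R
          rw [← Scheme.Hom.comp_apply, line_toSpec]
          refine PrimeSpectrum.ext (Ideal.ext fun x => ?_)
          show Polynomial.eval₂ (residue R) 0 (Polynomial.C x) = 0 ↔ x ∈ maximalIdeal R
          rw [Polynomial.eval₂_C, residue_eq_zero_iff]
      · obtain ⟨c, q, rfl⟩ := exists_line R z
        rcases eq_or_eq_other 0 c with rfl | rfl
        · exact absurd (Set.mem_range_self q) h1
        · have hX : (Polynomial.X : R[X]) ∈ q.asIdeal := by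
            by_contra hX
            exact h1 ((mem_range_line_iff R (other 0) q).2 hX)
          rw [Set.mem_preimage, ← Scheme.Hom.comp_apply, line_toSpec] at h2
          show _ = _
          rw [eq_infPt q hX (Set.mem_singleton_iff.1 h2)]
          rfl
    rw [this]
    exact ((line R 0).isOpenEmbedding.isOpen_range.isClosed_compl).inter
      ((isClosed_singleton_closedPoint R).preimage (CohB1.ProjSpace.toSpec 1 R).continuous)
  have houtside : ∀ z : P, CohB1.ProjSpace.toSpec 1 R z = closedPoint R → z ≠ line R 1 (infPt R) →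
      z ∈ Set.range (line R 0) := fun z h2 hne => by
    obtain ⟨c, q, rfl⟩ := exists_line R z
    rcases eq_or_eq_other 0 c with rfl | rfl
    · exact Set.mem_range_self q
    · refine (mem_range_line_iff R (other 0) q).2 fun hX => hne ?_
      rw [← Scheme.Hom.comp_apply, line_toSpec] at h2
      rw [eq_infPt q hX h2]
      rfl
  haveI : PreservesFiniteLimits (EtCoh.pull (line R 0)) := Groth.Agent.S0101.result _
  refine subsingleton_H_of_leray (line R 0) n F fun a b hab => ?_
  have hG := Groth.Agent.S8560.result (line R 0) Set.univ F hF b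
  rcases Nat.eq_zero_or_pos b with rfl | hb
  · -- proper base change to the closed fibre
    let r := Spec.map (CommRingCat.ofHom (residue R))
    have hbij := PBCLib.bijective_Hpull_closedFibre (fun {_ _} g _ => PBCLib.bcAll_of_proper g) R
      (CohB1.ProjSpace.toSpec 1 R) _ (RpushTorsLib.isTorsion_of_isLTorsion hG) a
    haveI : LocallyOfFiniteType (pullback.snd (CohB1.ProjSpace.toSpec 1 R) r) :=
      MorphismProperty.pullback_snd _ _ inferInstance
    haveI : QuasiCompact (pullback.snd (CohB1.ProjSpace.toSpec 1 R) r) := MorphismProperty.pullback_snd _ _ inferInstance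
    haveI := cdLE_finiteType_sepClosed Set.univ (pullback.snd (CohB1.ProjSpace.toSpec 1 R) r) (n := 1)
      ((topologicalKrullDim_fibre_le R (ResidueField R)).trans (by norm_num)) _
      (AcycCompLib.isLTorsion_pull (pullback.fst (CohB1.ProjSpace.toSpec 1 R) r) hG) a (by omega)
    exact hbij.1.subsingleton
  · refine subsingleton_H_of_supp_closedPoint (line R 1 (infPt R)) _ hG hcl (fun Ω _ _ ξ h2 hne => ?_) a ?_
    · refine isZero_stalk_Rpush (line R 0) (ξ default) (c := 0) (fun R' _ _ _ _ _ => ?_) F hF b hb ξ rfl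
      have hsub : Set.range (𝟙 (Spec (CommRingCat.of R'))) = Hens2.specOf P (ξ default) R' ⁻¹' Set.range (line R 0) := by
        refine (Set.range_eq_univ.2 (Surjective.surj)).trans (Set.eq_univ_iff_forall.2 fun p => ?_).symm
        show Hens2.specOf P (ξ default) R' p ∈ Set.range (line R 0)
        have hsp : Hens2.specOf P (ξ default) R' p ⤳ ξ default :=
          (Scheme.range_fromSpecStalk (x := ξ default)).le (Set.mem_range_self _)
        exact hsp.mem_open (line R 0).isOpenEmbedding.isOpen_range (houtside _ h2 hne)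
      obtain ⟨e⟩ := nonempty_iso_of_range (line R 0) (Hens2.specOf P (ξ default) R') _ hsub
      haveI : HenselianLocalRing R' := Hensel.IsStrictHenselization.henselian (R := P.presheaf.stalk (ξ default)) (S := R')
      haveI : IsSepClosed (ResidueField R') :=
        (Hensel.IsStrictHenselization.isSepClosure (R := P.presheaf.stalk (ξ default)) (S := R')).sep_closed
      refine cdLE_of_iso e fun F' _ q hq => ?_
      obtain ⟨q, rfl⟩ : ∃ q', q = q' + 1 := ⟨q - 1, by omega⟩
      exact EtVanish.subsingleton_H_strictlyHenselian R' F' q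
    · rcases Nat.eq_zero_or_pos a with rfl | ha
      · exact Or.inr fun Ω _ _ ξ hξ => isZero_stalk_Rpush (line R 0) (line R 1 (infPt R)) (c := m + 1)
          (fun R' _ _ _ _ _ => cdLE_pullback_infPt hA hR R') F hF b (by omega) ξ hξ
      · exact Or.inl (by omega)

end Groth.Agent.ArtinVanLib
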