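import Groth.Agent.ArtinVanLib.Codim
import Groth.Agent.ArtinVanLib.StrictLoc
import Mathlib.AlgebraicGeometry.PullbackCarrier
import Mathlib.RingTheory.Algebraic.Integral

/-!
# Transcendence degrees over strict localizations
-/

set_option autoImplicit false
set_option backward.isDefEq.respectTransparency false
set_option backward.isDefEq.respectTransparency.types false
set_option linter.style.haveILetI false
set_option maxHeartbeats 1000000
set_option synthInstance.maxHeartbeats 200000

universe u

open CategoryTheory CategoryTheory.Limits AlgebraicGeometry IsLocalRing Order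

noncomputable section

namespace Groth.Agent.ArtinVanLib

open CdFieldLib

/-- Every element of the residue field at a point of a spectrum is a quotient of images from the ring. -/
theorem exists_ringHom_residueField {A : Type u} [CommRing A] (p : Spec (CommRingCat.of A)) :
    ∃ φ : A →+* (Spec (CommRingCat.of A)).residueField p,
      Spec.map (CommRingCat.ofHom φ) = (Spec (CommRingCat.of A)).fromSpecResidueField p ∧
      RingHom.ker φ = p.asIdeal ∧ ∀ z, ∃ a s : A, z = φ a / φ s := by
  let e := Scheme.Spec.residueFieldIso (CommRingCat.of A) p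
  refine ⟨(CommRingCat.ofHom (algebraMap A p.asIdeal.ResidueField) ≫ e.inv).hom, ?_, ?_, fun z => ?_⟩
  · rw [show CommRingCat.ofHom (CommRingCat.ofHom (algebraMap A p.asIdeal.ResidueField) ≫ e.inv).hom =
      CommRingCat.ofHom (algebraMap A p.asIdeal.ResidueField) ≫ e.inv from rfl, Spec.map_comp]
    exact Scheme.Spec.map_residueFieldIso_inv_eq_fromSpecResidueField _ p
  · refine Ideal.ext fun a => ?_
    rw [RingHom.mem_ker]
    refine (map_eq_zero_iff e.inv.hom e.inv.hom.injective).trans ?_
    exact Ideal.algebraMap_residueField_eq_zero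
  · obtain ⟨n, s, -, h⟩ := IsFractionRing.div_surjective (A ⧸ p.asIdeal) (e.hom z)
    obtain ⟨n, rfl⟩ := Ideal.Quotient.mk_surjective n
    obtain ⟨s, rfl⟩ := Ideal.Quotient.mk_surjective s
    refine ⟨n, s, (e.hom_inv_id_apply z).symm.trans ?_⟩
    rw [← h, map_div₀]
    rfl

/-- Points of a pullback have residue fields algebraic over the first projection if the second is algebraic. -/
theorem isAlgebraic_residueField_pullback {X Y S : Scheme.{u}} (f : X ⟶ S) (g : Y ⟶ S) (t : ↥(pullback f g))
    (hY : letI := (g.residueFieldMap (pullback.snd f g t)).hom.toAlgebra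
      Algebra.IsAlgebraic (S.residueField (g (pullback.snd f g t))) (Y.residueField (pullback.snd f g t))) :
    letI := ((pullback.fst f g).residueFieldMap t).hom.toAlgebra
    Algebra.IsAlgebraic (X.residueField (pullback.fst f g t)) ((pullback f g).residueField t) := by
  let T := Scheme.Pullback.Triplet.ofPoint t
  let K := X.residueField (pullback.fst f g t)
  let L := (pullback f g).residueField t
  letI : Algebra K L := ((pullback.fst f g).residueFieldMap t).hom.toAlgebra
  let E : IntermediateField K L := algebraicClosure K L
  let w := Scheme.Pullback.ofPointTensor t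
  -- the tensor product lands in the algebraic elements
  let l : X.residueField T.x ⟶ CommRingCat.of E := CommRingCat.ofHom (algebraMap K E)
  let rS : (↑(S.residueField T.s) : Type u) →+* L :=
    (((S.residueFieldCongr T.hy).inv ≫ g.residueFieldMap T.y) ≫ (pullback.snd f g).residueFieldMap t).hom
  have hrS : ∀ z, IsAlgebraic K (rS z) := fun z => by
    show IsAlgebraic K ((((S.residueFieldCongr T.hy).inv ≫ g.residueFieldMap T.y) ≫
      (pullback.snd f g).residueFieldMap t) z)
    rw [← Scheme.Pullback.residueFieldCongr_inv_residueFieldMap_ofPoint t]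
    exact isAlgebraic_algebraMap _
  have hr : ∀ z : Y.residueField T.y, IsAlgebraic K ((pullback.snd f g).residueFieldMap t z) := fun z => by
    letI : Algebra (S.residueField (g (pullback.snd f g t))) (Y.residueField (pullback.snd f g t)) :=
      (g.residueFieldMap (pullback.snd f g t)).hom.toAlgebra
    obtain ⟨p, hp0, hp⟩ := hY.isAlgebraic z
    let σ : (↑(S.residueField (g T.y)) : Type u) →+* L :=
      ((pullback.snd f g).residueFieldMap t).hom.comp (g.residueFieldMap T.y).hom
    have hσ : ∀ c, σ c ∈ E := fun c => by
      refine mem_algebraicClosure_iff.2 ?_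
      obtain ⟨c', rfl⟩ : ∃ c', (S.residueFieldCongr T.hy).inv c' = c :=
        ⟨(S.residueFieldCongr T.hy).hom c, (S.residueFieldCongr T.hy).hom_inv_id_apply c⟩
      exact hrS c'
    let σ' : (↑(S.residueField (g T.y)) : Type u) →+* E := σ.codRestrict E hσ
    have hE : IsAlgebraic E ((pullback.snd f g).residueFieldMap t z) := by
      refine ⟨p.map σ', (Polynomial.map_ne_zero_iff σ'.injective).2 hp0, ?_⟩
      rw [Polynomial.aeval_def, Polynomial.eval₂_map]
      have h1 := congrArg ((pullback.snd f g).residueFieldMap t).hom hp
      rw [map_zero, Polynomial.aeval_def, Polynomial.hom_eval₂] at h1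
      exact h1
    exact IsAlgebraic.restrictScalars K hE
  let r : Y.residueField T.y ⟶ CommRingCat.of E :=
    CommRingCat.ofHom (((pullback.snd f g).residueFieldMap t).hom.codRestrict E fun z => mem_algebraicClosure_iff.2 (hr z))
  let incl : CommRingCat.of E ⟶ CommRingCat.of L := CommRingCat.ofHom E.val.toRingHom
  have hcond : ((S.residueFieldCongr T.hx).inv ≫ f.residueFieldMap T.x) ≫ l =
      ((S.residueFieldCongr T.hy).inv ≫ g.residueFieldMap T.y) ≫ r := CommRingCat.hom_ext (RingHom.ext fun z =>
    Subtype.ext (ConcreteCategory.congr_hom (Scheme.Pullback.residueFieldCongr_inv_residueFieldMap_ofPoint t) z))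
  have hw : pushout.desc l r hcond ≫ incl = w := by
    refine pushout.hom_ext ?_ ?_
    · rw [pushout.inl_desc_assoc]
      exact (pushout.inl_desc _ _ _).symm
    · rw [pushout.inr_desc_assoc]
      exact (pushout.inr_desc _ _ _).symm
  have hmem : ∀ a, (w a : L) ∈ E := fun a => by
    rw [← hw]
    exact (pushout.desc l r hcond a).2
  -- the images generate
  let p := Scheme.Pullback.SpecOfPoint t
  have hp : T.SpecTensorTo p = t := Scheme.Pullback.SpecTensorTo_SpecOfPoint t
  obtain ⟨φ, hφ, -, hgen⟩ := exists_ringHom_residueField (A := T.tensor) p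
  have key : ∃ σ : CommRingCat.of L ⟶ (Spec T.tensor).residueField p, ∀ a, σ (w a) = φ a := by
    let σ : (pullback f g).residueField t ⟶ (Spec T.tensor).residueField p :=
      ((pullback f g).residueFieldCongr hp.symm).hom ≫ T.SpecTensorTo.residueFieldMap p
    refine ⟨σ, fun a => ?_⟩
    have e : (Spec.map σ ≫ Spec.map w) ≫ T.SpecTensorTo = (Spec T.tensor).fromSpecResidueField p ≫ T.SpecTensorTo := by
      rw [Category.assoc, Scheme.Pullback.ofPointTensor_SpecTensorTo, Spec.map_comp, Category.assoc,
        Scheme.residueFieldCongr_fromSpecResidueField]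
      exact Scheme.Hom.SpecMap_residueFieldMap_fromSpecResidueField _ _
    have e' : Spec.map σ ≫ Spec.map w = (Spec T.tensor).fromSpecResidueField p := by
      refine T.isPullback_SpecMap_tensor.hom_ext ?_ ?_
      · rw [← cancel_mono (X.fromSpecResidueField T.x), Category.assoc, Category.assoc]
        simpa only [Category.assoc, Scheme.Pullback.Triplet.specTensorTo_fst] using
          congrArg (· ≫ pullback.fst f g) e
      · rw [← cancel_mono (Y.fromSpecResidueField T.y), Category.assoc, Category.assoc]
        simpa only [Category.assoc, Scheme.Pullback.Triplet.specTensorTo_snd] using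
          congrArg (· ≫ pullback.snd f g) e
    have e2 : Spec.map (w ≫ σ) = Spec.map (CommRingCat.ofHom φ) := by
      rw [Spec.map_comp, e']
      exact hφ.symm
    exact ConcreteCategory.congr_hom (Spec.map_injective e2) a
  obtain ⟨σ, hσ⟩ := key
  letI : Algebra (X.residueField (pullback.fst f g t)) ((pullback f g).residueField t) :=
    ((pullback.fst f g).residueFieldMap t).hom.toAlgebra
  show Algebra.IsAlgebraic K L
  refine ⟨fun z => mem_algebraicClosure_iff.1 ?_⟩
  obtain ⟨a, s, h⟩ := hgen (σ z)
  have hz : (z : L) = w a / w s := σ.hom.injective (by rw [map_div₀]; exact h.trans (by rw [← hσ, ← hσ]))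
  rw [hz]
  exact div_mem (hmem a) (hmem s)

/-- Dimensions of closures grow along a specialization by at least the dimension of the local closure. -/
theorem height_add_coheight_le {X : Scheme.{u}} {x y : X} (h : x ⤳ y) :
    Order.height y + coheight (⟨RingHom.ker (Cyc.specMap y x h), RingHom.ker_isPrime _⟩ :
      PrimeSpectrum (X.presheaf.stalk y)) ≤ Order.height x := by
  let p : PrimeSpectrum (X.presheaf.stalk y) := ⟨RingHom.ker (Cyc.specMap y x h), RingHom.ker_isPrime _⟩
  let φ : (PrimeSpectrum (X.presheaf.stalk y))ᵒᵈ → X := fun q => X.fromSpecStalk y (OrderDual.ofDual q)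
  have hφ : StrictMono φ := fun a b hab => by
    have hle : OrderDual.ofDual b ≤ OrderDual.ofDual a := hab.le
    refine lt_iff_le_not_ge.2 ⟨Scheme.le_iff_specializes.2
      (((PrimeSpectrum.le_iff_specializes _ _).1 hle).map (X.fromSpecStalk y).continuous), fun h' => hab.not_ge ?_⟩
    exact (PrimeSpectrum.le_iff_specializes (OrderDual.ofDual a) (OrderDual.ofDual b)).2
      ((X.fromSpecStalk y).isEmbedding.isInducing.specializes_iff.1 (Scheme.le_iff_specializes.1 h'))
  -- along a series in the local ring the dimension grows strictly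
  have key : ∀ (n : ℕ) (t : LTSeries (PrimeSpectrum (X.presheaf.stalk y))), t.length = n →
      Order.height y + n ≤ Order.height (φ (OrderDual.toDual t.head)) := fun n => by
    induction n with
    | zero =>
      intro t _
      rw [Nat.cast_zero, add_zero]
      refine Order.height_mono (Scheme.le_iff_specializes.2 ?_)
      have := Set.mem_range_self (f := X.fromSpecStalk y) t.head
      rwa [Scheme.range_fromSpecStalk] at this
    | succ j ih =>
      intro t ht
      have h1 := ih (t.tail (by omega)) (by simp [ht])
      rw [RelSeries.head_tail] at h1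
      rw [Nat.cast_succ, ← add_assoc]
      refine le_trans ?_ (Order.height_add_one_le (hφ (show OrderDual.toDual (t 1) < OrderDual.toDual t.head from ?_)))
      · gcongr
      · exact OrderDual.toDual_lt_toDual.2 (t.strictMono (by
          show (0 : Fin (t.length + 1)) < 1
          rw [Fin.lt_def, Fin.val_one']
          simp [ht]))
  have hp : φ (OrderDual.toDual p) = x := fromSpecStalk_ker_specMap h
  induction hc : coheight p using ENat.recTopCoe with
  | top =>
    have htop : Order.height x = ⊤ := ENat.eq_top_iff_forall_ge.2 fun m => by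
      obtain ⟨t, ht, htl⟩ := Order.exists_series_of_le_coheight p (n := m) (by rw [hc]; exact le_top)
      exact le_trans le_add_self (by rw [← hp, ← ht]; exact key m t htl)
    rw [htop]
    exact le_top
  | coe m =>
    obtain ⟨t, ht, htl⟩ := Order.exists_series_of_coheight_eq_coe p hc
    rw [← hp, ← ht]
    exact key m t htl

/-- The residue fields of a strict localization are algebraic over those of the scheme. -/
theorem isAlgebraic_residueField_specOf {Y : Scheme.{u}} (y₀ : Y) (R : Type u) [CommRing R] [IsLocalRing R]
    [Algebra (Y.presheaf.stalk y₀) R] [IsLocalHom (algebraMap (Y.presheaf.stalk y₀) R)]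
    [Hensel.IsStrictHenselization (Y.presheaf.stalk y₀) R] (q : Spec (CommRingCat.of R)) :
    (letI := ((Hens2.specOf Y y₀ R).residueFieldMap q).hom.toAlgebra;
      Algebra.IsAlgebraic (Y.residueField (Hens2.specOf Y y₀ R q)) ((Spec (CommRingCat.of R)).residueField q)) ∧
    ∀ h : (Hens2.specOf Y y₀ R q) ⤳ y₀,
      (RingHom.ker (Cyc.specMap y₀ (Hens2.specOf Y y₀ R q) h)).map (algebraMap (Y.presheaf.stalk y₀) R) ≤ q.asIdeal := by
  let O := Y.presheaf.stalk y₀
  let y := Hens2.specOf Y y₀ R q
  let L := (Spec (CommRingCat.of R)).residueField q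
  let K := Y.residueField y
  letI : Algebra K L := ((Hens2.specOf Y y₀ R).residueFieldMap q).hom.toAlgebra
  have hy : y ⤳ y₀ := by
    have := Set.mem_range_self (f := Y.fromSpecStalk y₀) (Spec.map (CommRingCat.ofHom (algebraMap O R)) q)
    rwa [Scheme.range_fromSpecStalk] at this
  obtain ⟨φ, hφ, hker, hgen⟩ := exists_ringHom_residueField q
  letI : Algebra O K := (Cyc.specMap y₀ y hy).toAlgebra
  letI : Algebra O L := (φ.comp (algebraMap O R)).toAlgebra
  have haK : Y.fromSpecResidueField y = Spec.map (CommRingCat.ofHom (algebraMap O K)) ≫ Y.fromSpecStalk y₀ := by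
    show _ = Spec.map (Y.presheaf.stalkSpecializes hy ≫ Y.residue y) ≫ _
    rw [Spec.map_comp, Category.assoc, Scheme.SpecMap_stalkSpecializes_fromSpecStalk]
    rfl
  have hsq : φ.comp (algebraMap O R) = (algebraMap K L).comp (algebraMap O K) := by
    have e : Spec.map (CommRingCat.ofHom (algebraMap O R) ≫ CommRingCat.ofHom φ) =
        Spec.map (CommRingCat.ofHom (algebraMap O K) ≫ (Hens2.specOf Y y₀ R).residueFieldMap q) := by
      rw [← cancel_mono (Y.fromSpecStalk y₀), Spec.map_comp, Spec.map_comp, Category.assoc, Category.assoc, ← haK,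
        Scheme.Hom.SpecMap_residueFieldMap_fromSpecResidueField, hφ]
    exact congrArg CommRingCat.Hom.hom (Spec.map_injective e)
  haveI : IsScalarTower O K L := .of_algebraMap_eq' hsq
  let φO : R →ₐ[O] L := { φ with commutes' := fun _ => rfl }
  refine ⟨?_, fun h => Ideal.map_le_iff_le_comap.2 fun r hr => ?_⟩
  · show Algebra.IsAlgebraic K L
    refine ⟨fun z => ?_⟩
    obtain ⟨a, s, rfl⟩ := hgen z
    rw [div_eq_mul_inv]
    exact (CdFieldLib.isAlgebraic_of_strictHenselization (K := K) φO a).mul
      (CdFieldLib.isAlgebraic_of_strictHenselization (K := K) φO s).inv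
  · rw [Ideal.mem_comap, ← hker, RingHom.mem_ker]
    refine (RingHom.congr_fun hsq r).trans ?_
    rw [RingHom.comp_apply, show algebraMap O K r = 0 from hr, map_zero]

end Groth.Agent.ArtinVanLib
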