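import Groth.Agent.CdFieldLib.FiniteType
import Groth.Prelude.Def_Cyc
import Mathlib.RingTheory.Ideal.GoingUp

/-!
# Cohomological dimension from a dimension function
-/

set_option autoImplicit false
set_option backward.isDefEq.respectTransparency false
set_option backward.isDefEq.respectTransparency.types false
set_option linter.style.haveILetI false
set_option maxHeartbeats 1000000
set_option synthInstance.maxHeartbeats 200000

universe u

open CategoryTheory CategoryTheory.Limits AlgebraicGeometry Opposite IsLocalRing CategoryTheory.Abelian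
open scoped TensorProduct

noncomputable section

namespace Groth.Agent.ArtinVanLib

open CdFieldLib

variable {X : Scheme.{u}}

/-- The minimal primes over the prime of a generalization, inside a strict henselization. -/
theorem exists_minimalPrime_specMap (η y : X) (h : η ⤳ y) (R : Type u) [CommRing R] [IsLocalRing R]
    [Algebra (X.presheaf.stalk y) R] [IsLocalHom (algebraMap (X.presheaf.stalk y) R)] :
    ∃ P : Ideal R, P ∈ ((RingHom.ker (Cyc.specMap y η h)).map (algebraMap (X.presheaf.stalk y) R)).minimalPrimes := by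
  refine nonempty_subtype.1 (Ideal.nonempty_minimalPrimes (I := (RingHom.ker (Cyc.specMap y η h)).map (algebraMap (X.presheaf.stalk y) R)) fun h0 => (maximalIdeal.isMaximal R).ne_top (top_le_iff.1 ?_))
  rw [← h0]
  exact Ideal.map_le_iff_le_comap.2 ((le_maximalIdeal (RingHom.ker_ne_top (Cyc.specMap y η h))).trans
    ((le_of_eq (IsLocalRing.maximalIdeal_comap (algebraMap (X.presheaf.stalk y) R)).symm)))

/-- The scheme of the point over a strict localization. -/
theorem cdLE_pullback_point_of_minimalPrimes [IsLocallyNoetherian X] (L : Set ℕ) (η y : X) (h : η ⤳ y) (R : Type u)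
    [CommRing R] [IsLocalRing R] [Algebra (X.presheaf.stalk y) R] [IsLocalHom (algebraMap (X.presheaf.stalk y) R)]
    [Hensel.IsStrictHenselization (X.presheaf.stalk y) R] {d : ℕ}
    (hd : ∀ (P : Ideal R) [P.IsPrime],
      P ∈ ((RingHom.ker (Cyc.specMap y η h)).map (algebraMap (X.presheaf.stalk y) R)).minimalPrimes →
        CdLE L (Spec (CommRingCat.of (FractionRing (R ⧸ P)))) d) :
    CdLE L (pullback (X.fromSpecResidueField η) (Hens2.specOf X y R)) d := by
  let O := X.presheaf.stalk y
  let K := X.residueField η
  let a : O ⟶ K := X.presheaf.stalkSpecializes h ≫ X.residue η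
  letI : Algebra O K := a.hom.toAlgebra
  have haK : X.fromSpecResidueField η = Spec.map (CommRingCat.ofHom (algebraMap O K)) ≫ X.fromSpecStalk y := by
    show _ = Spec.map (X.presheaf.stalkSpecializes h ≫ X.residue η) ≫ _
    rw [Spec.map_comp, Category.assoc, Scheme.SpecMap_stalkSpecializes_fromSpecStalk]
    rfl
  let A := K ⊗[O] R
  let eY : pullback (X.fromSpecResidueField η) (Hens2.specOf X y R) ≅ Spec (CommRingCat.of A) :=
    pullback.congrHom haK rfl ≪≫
      (isPullback_of_comp_mono (Spec.map (CommRingCat.ofHom (algebraMap O K)))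
        (Spec.map (CommRingCat.ofHom (algebraMap O R))) (X.fromSpecStalk y)).isoPullback.symm ≪≫
      pullbackSpecIso O K R
  refine cdLE_of_iso eY ?_
  -- the ring is Noetherian
  obtain ⟨eH⟩ := Henselization.exists_algEquiv_of_isStrictHenselization O R
  haveI : IsNoetherianRing R := (Henselization.isNoetherianRing_of_equiv eH).2 inferInstance
  let p := RingHom.ker (algebraMap O K)
  haveI : p.IsPrime := RingHom.ker_isPrime _
  letI : Algebra (O ⧸ p) K := (Ideal.Quotient.lift p (algebraMap O K) fun _ => id).toAlgebra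
  haveI : IsScalarTower O (O ⧸ p) K := .of_algebraMap_eq fun _ => rfl
  haveI : FaithfulSMul (O ⧸ p) K :=
    (faithfulSMul_iff_algebraMap_injective _ _).2 (RingHom.kerLift_injective (algebraMap O K))
  haveI hfrac : IsFractionRing (O ⧸ p) K := IsFractionRing.of_field (O ⧸ p) K fun z => by
    obtain ⟨b, s, hs, e⟩ := exists_div_eq_of_specializes h z
    exact ⟨Ideal.Quotient.mk p b, Ideal.Quotient.mk p s, by
      show z = (algebraMap O K b : K) / algebraMap O K s
      exact eq_div_of_mul_eq hs e⟩
  haveI : Algebra.EssFiniteType O K := by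
    haveI : Algebra.EssFiniteType (O ⧸ p) K := .of_isLocalization K (nonZeroDivisors _)
    exact Algebra.EssFiniteType.comp O (O ⧸ p) K
  letI : Algebra R A := Algebra.TensorProduct.rightAlgebra
  haveI : IsNoetherianRing A := by
    haveI : IsNoetherianRing (R ⊗[O] K) := Algebra.EssFiniteType.isNoetherianRing R (R ⊗[O] K)
    exact isNoetherianRing_of_ringEquiv (R ⊗[O] K) (Algebra.TensorProduct.comm O R K).toRingEquiv
  -- the residue fields
  have halg : ∀ (q : Ideal A) [q.IsPrime] (c : A), IsAlgebraic K (algebraMap A q.ResidueField c) := by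
    intro q _ c
    induction c using TensorProduct.induction_on with
    | zero => rw [map_zero]; exact isAlgebraic_zero
    | add a b ha hb => rw [map_add]; exact ha.add hb
    | tmul z r =>
      have e : algebraMap A q.ResidueField (z ⊗ₜ r) = algebraMap K q.ResidueField z *
          ((IsScalarTower.toAlgHom O A q.ResidueField).comp Algebra.TensorProduct.includeRight) r := by
        rw [IsScalarTower.algebraMap_apply K A q.ResidueField]
        show _ = _ * algebraMap A q.ResidueField ((1 : K) ⊗ₜ r)
        rw [← map_mul]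
        congr 1
        show _ = (z ⊗ₜ[O] (1 : R)) * ((1 : K) ⊗ₜ[O] r)
        rw [Algebra.TensorProduct.tmul_mul_tmul, mul_one, one_mul]
      rw [e]
      exact (isAlgebraic_algebraMap z).mul (isAlgebraic_of_strictHenselization
        ((IsScalarTower.toAlgHom O A q.ResidueField).comp Algebra.TensorProduct.includeRight) r)
  haveI : Ring.KrullDimLE 0 A := Ring.KrullDimLE.mk₀ fun q hq => by
    haveI := hq
    let i : A ⧸ q →ₐ[K] q.ResidueField := IsScalarTower.toAlgHom K (A ⧸ q) q.ResidueField
    haveI : Algebra.IsIntegral K (A ⧸ q) := ⟨fun c => by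
      obtain ⟨c, rfl⟩ := Ideal.Quotient.mk_surjective c
      refine (isIntegral_algHom_iff i (FaithfulSMul.algebraMap_injective (A ⧸ q) q.ResidueField)).1 ?_
      exact (halg q c).isIntegral⟩
    exact Ideal.Quotient.maximal_of_isField q (isField_of_isIntegral_of_isField' (Field.toIsField K))
  haveI : IsArtinianRing A := isArtinianRing_iff_isNoetherianRing_krullDimLE_zero.2 ⟨inferInstance, inferInstance⟩
  haveI : Finite ↥(Spec (CommRingCat.of A)) := inferInstanceAs (Finite (PrimeSpectrum A))
  haveI : DiscreteTopology ↥(Spec (CommRingCat.of A)) := inferInstanceAs (DiscreteTopology (PrimeSpectrum A))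
  refine cdLE_of_finite_discrete fun z => cdLE_of_iso
    (asIso (Spec.map (Scheme.Spec.residueFieldIso (CommRingCat.of A) z).inv)) ?_
  let q : Ideal A := z.asIdeal
  let M := q.ResidueField
  let φ : R →ₐ[O] M := (IsScalarTower.toAlgHom O A M).comp Algebra.TensorProduct.includeRight
  let P := RingHom.ker φ.toRingHom
  haveI hP : P.IsPrime := RingHom.ker_isPrime _
  have hφO : ∀ c : O, φ (algebraMap O R c) = algebraMap K M (algebraMap O K c) := fun c => by
    rw [φ.commutes, IsScalarTower.algebraMap_apply O K M]
  -- the prime is minimal over the given one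
  have hcap : ∀ c : O, algebraMap O R c ∈ P ↔ c ∈ p := fun c => by
    show φ (algebraMap O R c) = 0 ↔ algebraMap O K c = 0
    rw [hφO, map_eq_zero_iff _ (algebraMap K M).injective]
  have hmin : P ∈ (p.map (algebraMap O R)).minimalPrimes := by
    refine ⟨⟨hP, Ideal.map_le_iff_le_comap.2 fun c hc => (hcap c).2 hc⟩, fun P' hP' hle => ?_⟩
    haveI := hP'.1
    intro r hr
    by_contra hr'
    let E := R ⧸ P'
    have hker : ∀ c : O, algebraMap O R c ∈ P' ↔ c ∈ p :=
      fun c => ⟨fun hc => (hcap c).1 (hle hc), fun hc => hP'.2 (Ideal.mem_map_of_mem _ hc)⟩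
    letI : Algebra (O ⧸ p) E := (Ideal.Quotient.lift p ((Ideal.Quotient.mk P').comp (algebraMap O R)) fun c hc =>
      Ideal.Quotient.eq_zero_iff_mem.2 ((hker c).2 hc)).toAlgebra
    have hinj : Function.Injective (algebraMap (O ⧸ p) E) := (injective_iff_map_eq_zero _).2 fun c hc => by
      obtain ⟨c, rfl⟩ := Ideal.Quotient.mk_surjective c
      exact Ideal.Quotient.eq_zero_iff_mem.2 ((hker c).1 (Ideal.Quotient.eq_zero_iff_mem.1 hc))
    haveI : FaithfulSMul (O ⧸ p) E := (faithfulSMul_iff_algebraMap_injective _ _).2 hinj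
    haveI : FaithfulSMul (O ⧸ p) (FractionRing E) := FaithfulSMul.trans (O ⧸ p) E (FractionRing E)
    letI : Algebra K (FractionRing E) :=
      (IsFractionRing.lift (A := O ⧸ p) (g := algebraMap (O ⧸ p) (FractionRing E))
        (FaithfulSMul.algebraMap_injective _ _)).toAlgebra
    haveI : IsScalarTower (O ⧸ p) K (FractionRing E) := .of_algebraMap_eq fun c =>
      (IsFractionRing.lift_algebraMap (FaithfulSMul.algebraMap_injective _ _) c).symm
    haveI : IsScalarTower O K (FractionRing E) := .of_algebraMap_eq fun c => by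
      show algebraMap O (FractionRing E) c = algebraMap K (FractionRing E) (algebraMap (O ⧸ p) K (Ideal.Quotient.mk p c))
      rw [← IsScalarTower.algebraMap_apply, IsScalarTower.algebraMap_apply (O ⧸ p) E (FractionRing E),
        IsScalarTower.algebraMap_apply O E (FractionRing E)]
      rfl
    let ψ : R →ₐ[O] FractionRing E := IsScalarTower.toAlgHom O R (FractionRing E)
    have h1 : IsAlgebraic (O ⧸ p) (Ideal.Quotient.mk P' r) :=
      (isAlgebraic_algebraMap_iff (R := O ⧸ p) (IsFractionRing.injective E (FractionRing E))).1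
        ((IsFractionRing.isAlgebraic_iff (O ⧸ p) K (FractionRing E)).2 (isAlgebraic_of_strictHenselization ψ r))
    refine Ideal.comap_ne_bot_of_algebraic_mem (I := P.map (Ideal.Quotient.mk P'))
      (fun h0 => hr' (Ideal.Quotient.eq_zero_iff_mem.1 h0)) (Ideal.mem_map_of_mem _ hr) h1 ?_
    refine eq_bot_iff.2 fun c hc => ?_
    obtain ⟨c, rfl⟩ := Ideal.Quotient.mk_surjective c
    have h2 : Ideal.Quotient.mk P' (algebraMap O R c) ∈ P.map (Ideal.Quotient.mk P') := hc
    rw [Ideal.mem_quotient_iff_mem hle, hcap] at h2
    exact Ideal.Quotient.eq_zero_iff_mem.2 h2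
  -- the residue field
  let g : R ⧸ P →+* M := RingHom.kerLift φ.toRingHom
  let e : FractionRing (R ⧸ P) →+* M := IsFractionRing.lift (RingHom.kerLift_injective φ.toRingHom : Function.Injective g)
  have heR : ∀ r, e (algebraMap _ _ (Ideal.Quotient.mk P r)) = φ r := fun r =>
    (IsFractionRing.lift_algebraMap _ _).trans rfl
  have heK : ∀ c : K, algebraMap K M c ∈ e.fieldRange := fun c => by
    obtain ⟨b, s, hs, ec⟩ := exists_div_eq_of_specializes h c
    have : algebraMap K M c = φ (algebraMap O R b) / φ (algebraMap O R s) := by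
      rw [hφO, hφO, ← map_div₀]
      exact congrArg _ (eq_div_of_mul_eq hs ec)
    rw [this, ← heR, ← heR]
    exact div_mem ⟨_, rfl⟩ ⟨_, rfl⟩
  have hA : ∀ c : A, algebraMap A M c ∈ e.fieldRange := fun c => by
    induction c using TensorProduct.induction_on with
    | zero => rw [map_zero]; exact zero_mem _
    | add a b ha hb => rw [map_add]; exact add_mem ha hb
    | tmul w r =>
      have : algebraMap A M (w ⊗ₜ r) = algebraMap K M w * φ r := by
        rw [IsScalarTower.algebraMap_apply K A M]
        show _ = _ * algebraMap A M ((1 : K) ⊗ₜ r)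
        rw [← map_mul]
        congr 1
        show _ = (w ⊗ₜ[O] (1 : R)) * ((1 : K) ⊗ₜ[O] r)
        rw [Algebra.TensorProduct.tmul_mul_tmul, mul_one, one_mul]
      rw [this, ← heR]
      exact mul_mem (heK w) ⟨_, rfl⟩
  have hsurj : Function.Surjective e := fun m => by
    obtain ⟨n, s, -, rfl⟩ := IsFractionRing.div_surjective (A ⧸ q) m
    obtain ⟨n, rfl⟩ := Ideal.Quotient.mk_surjective n
    obtain ⟨s, rfl⟩ := Ideal.Quotient.mk_surjective s
    exact RingHom.mem_fieldRange.1 (div_mem (hA n) (hA s))
  let eC : CommRingCat.of (FractionRing (R ⧸ P)) ≅ CommRingCat.of M :=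
    (RingEquiv.ofBijective e ⟨e.injective, hsurj⟩).toCommRingCatIso
  exact cdLE_of_iso (asIso (Spec.map eC.hom)) (hd P hmin)

/-- The same, at a geometric point. -/
theorem isZero_stalk_Rpush_of_minimalPrimes [IsNoetherian X] {L : Set ℕ} (η : X)
    {G : EtCoh.Ab (Spec (X.residueField η))} (hG : EtAcyc.IsLTorsion L G) {Ω : Type u} [Field Ω] [IsSepClosed Ω]
    (ξ : Spec (CommRingCat.of Ω) ⟶ X) (q : ℕ)
    (hd : ∀ (h : η ⤳ ξ default) (R : Type u) [CommRing R] [IsLocalRing R] [Algebra (X.presheaf.stalk (ξ default)) R]
      [IsLocalHom (algebraMap (X.presheaf.stalk (ξ default)) R)]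
      [Hensel.IsStrictHenselization (X.presheaf.stalk (ξ default)) R],
      ∃ d, d < q ∧ ∀ (P : Ideal R) [P.IsPrime],
        P ∈ ((RingHom.ker (Cyc.specMap (ξ default) η h)).map (algebraMap (X.presheaf.stalk (ξ default)) R)).minimalPrimes →
        CdLE L (Spec (CommRingCat.of (FractionRing (R ⧸ P)))) d) :
    IsZero ((EtCoh.stalk ξ).obj ((EtCoh.Rpush (X.fromSpecResidueField η) q).obj G)) := by
  haveI : QuasiSeparatedSpace X := inferInstance
  let x := ξ default
  obtain ⟨R, _, _, _, _, hR⟩ := Henselization.exists_strictHenselization (R := X.presheaf.stalk x)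
  haveI := hR
  haveI : IsSepClosed (ResidueField R) :=
    (Hensel.IsStrictHenselization.isSepClosure (R := X.presheaf.stalk x) (S := R)).sep_closed
  haveI : QuasiCompact (X.fromSpecResidueField η) := quasiCompact_of_compactSpace _
  obtain ⟨e⟩ := Groth.Agent.S0620.result (X.fromSpecResidueField η) G x R q
  suffices Subsingleton (EtCoh.H (pullback (X.fromSpecResidueField η) (Hens2.specOf X x R))
      ((EtCoh.pull (pullback.fst (X.fromSpecResidueField η) (Hens2.specOf X x R))).obj G) q) by
    haveI := this
    refine isZero_stalk_of_default_eq _ ((AddCommGrpCat.isZero_of_subsingleton _).of_iso e) ?_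
    show x = (X.fromSpecStalk x) (Spec.map (CommRingCat.ofHom (algebraMap (X.presheaf.stalk x) R))
      (Spec.map (CommRingCat.ofHom (residue R)) default))
    refine (Scheme.fromSpecStalk_closedPoint (x := x)).symm.trans (congrArg (X.fromSpecStalk x).base ?_)
    rw [Subsingleton.elim (default : Spec (CommRingCat.of (ResidueField R))) (closedPoint (ResidueField R))]
    show closedPoint (X.presheaf.stalk x) = PrimeSpectrum.comap (algebraMap (X.presheaf.stalk x) R)
      (PrimeSpectrum.comap (residue R) (closedPoint (ResidueField R)))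
    rw [IsLocalRing.comap_closedPoint (residue R)]
    exact (IsLocalRing.comap_closedPoint (algebraMap (X.presheaf.stalk x) R)).symm
  by_cases h : η ⤳ x
  · obtain ⟨d, hdq, hd⟩ := hd h R
    exact cdLE_pullback_point_of_minimalPrimes L η x h R hd _
      (AcycCompLib.isLTorsion_pull (pullback.fst (X.fromSpecResidueField η) (Hens2.specOf X x R)) hG) q hdq
  · haveI : IsEmpty ↥(pullback (X.fromSpecResidueField η) (Hens2.specOf X x R)) := ⟨fun p => by
      have e := congrArg (fun w : _ ⟶ X => w p) (pullback.condition (f := X.fromSpecResidueField η) (g := Hens2.specOf X x R))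
      simp only [Scheme.Hom.comp_apply] at e
      have h1 : (X.fromSpecResidueField η) (pullback.fst (X.fromSpecResidueField η) (Hens2.specOf X x R) p) = η :=
        Set.mem_singleton_iff.1 ((Scheme.range_fromSpecResidueField η).le (Set.mem_range_self _))
      have h2 : (X.fromSpecStalk x) (Spec.map (CommRingCat.ofHom (algebraMap (X.presheaf.stalk x) R))
          (pullback.snd (X.fromSpecResidueField η) (Hens2.specOf X x R) p)) ⤳ x := by
        have := Set.mem_range_self (f := X.fromSpecStalk x) (Spec.map (CommRingCat.ofHom (algebraMap (X.presheaf.stalk x) R))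
          (pullback.snd (X.fromSpecResidueField η) (Hens2.specOf X x R) p))
        rwa [Scheme.range_fromSpecStalk] at this
      rw [h1] at e
      exact h (e ▸ h2)⟩
    have hz : IsZero ((EtCoh.pull (pullback.fst (X.fromSpecResidueField η) (Hens2.specOf X x R))).obj G) :=
      (EtPtsLib.isZero_iff_ab _).2 fun Ω' _ _ ξ' => isEmptyElim (ξ' default)
    exact subsingleton_of_forall_eq 0 fun t => by
      rw [← Ext.comp_mk₀_id t, hz.eq_of_src (𝟙 _) 0, Ext.mk₀_zero, Ext.comp_zero]

end Groth.Agent.ArtinVanLib
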