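import Groth.Agent.ArtinVanLib.DimFun

/-!
# Vanishing above a dimension function
-/

set_option autoImplicit false
set_option backward.isDefEq.respectTransparency false
set_option backward.isDefEq.respectTransparency.types false
set_option linter.style.haveILetI false
set_option maxHeartbeats 1000000

universe u

open CategoryTheory CategoryTheory.Limits AlgebraicGeometry Opposite IsLocalRing CategoryTheory.Abelian

noncomputable section

namespace Groth.Agent.ArtinVanLib

open CdFieldLib

variable {X : Scheme.{u}}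

theorem subsingleton_H_of_isZero {F : EtCoh.Ab X} (hF : IsZero F) (q : ℕ) : Subsingleton (EtCoh.H X F q) :=
  subsingleton_of_forall_eq 0 fun x => by
    rw [← Ext.comp_mk₀_id x, hF.eq_of_src (𝟙 _) 0, Ext.mk₀_zero, Ext.comp_zero]

/-- Over the point itself the strict localization has a separably closed field. -/
theorem cdLE_fractionRing_minimalPrime_self (L : Set ℕ) (η : X) (h : η ⤳ η) (R : Type u) [CommRing R] [IsLocalRing R]
    [Algebra (X.presheaf.stalk η) R] [IsLocalHom (algebraMap (X.presheaf.stalk η) R)]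
    [Hensel.IsStrictHenselization (X.presheaf.stalk η) R] (P : Ideal R)
    (hP : P ∈ ((RingHom.ker (Cyc.specMap η η h)).map (algebraMap (X.presheaf.stalk η) R)).minimalPrimes) :
    CdLE L (Spec (CommRingCat.of (FractionRing (R ⧸ P)))) 0 := by
  haveI := hP.1.1
  obtain ⟨eH⟩ := Henselization.exists_algEquiv_of_isStrictHenselization (X.presheaf.stalk η) R
  have hk : RingHom.ker (Cyc.specMap η η h) = maximalIdeal (X.presheaf.stalk η) := by
    show RingHom.ker (X.presheaf.stalkSpecializes h ≫ X.residue η).hom = _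
    rw [TopCat.Presheaf.stalkSpecializes_refl, Category.id_comp]
    exact IsLocalRing.ker_residue
  rw [hk, Henselization.map_maximalIdeal_of_equiv eH] at hP
  obtain rfl : P = maximalIdeal R := (maximalIdeal.isMaximal R).eq_of_le hP.1.1.ne_top hP.1.2 |>.symm
  haveI : IsSepClosed (ResidueField R) :=
    (Hensel.IsStrictHenselization.isSepClosure (R := X.presheaf.stalk η) (S := R)).sep_closed
  let eC : CommRingCat.of (FractionRing (R ⧸ maximalIdeal R)) ≅ CommRingCat.of (ResidueField R) :=
    RingEquiv.toCommRingCatIso (FractionRing.algEquiv (ResidueField R) (ResidueField R)).toRingEquiv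
  exact cdLE_of_iso (asIso (Spec.map eC.inv)) (cdLE_zero_of_sepClosed L (ResidueField R))

variable [IsNoetherian X] {L : Set ℕ} (φ : X → ℕ)

variable (X L) in
/-- The vanishing for sheaves supported where the dimension function is small. -/
def VanishBelow (N : ℕ) : Prop :=
  ∀ F : EtCoh.Ab X, EtAcyc.IsLTorsion L F → (∀ x ∈ EtPBC.supp F, φ x < N) → ∀ q : ℕ, N ≤ q →
    Subsingleton (EtCoh.H X F q)

variable (X L) in
/-- Vanishing for sheaves supported in a closed subset. -/
def VanishOn (T : Set X) (N : ℕ) : Prop :=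
  ∀ F : EtCoh.Ab X, EtAcyc.IsLTorsion L F → EtPBC.supp F ⊆ T → ∀ q : ℕ, N ≤ q → Subsingleton (EtCoh.H X F q)

theorem vanishOn_of_closed {N : ℕ} (hN : 0 < N) (E : Set X) (hE : StableUnderSpecialization E)
    (h : ∀ T : TopologicalSpace.Closeds X, (T : Set X) ⊆ E → VanishOn X L (T : Set X) N) : VanishOn X L E N := by
  intro F hF hs q hq
  obtain ⟨m, rfl⟩ : ∃ m, N = m + 1 := ⟨N - 1, by omega⟩
  refine subsingleton_H_of_supp_stable (L := L) E hE (c := m) (fun Z i _ hi G hG r hr => ?_) F hF hs q (by omega)
  obtain ⟨e⟩ := EtVanish.nonempty_H_push_equiv i G r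
  haveI := h ⟨Set.range i, i.isClosedEmbedding.isClosed_range⟩ hi _ (isLTorsion_push i hG) (fun y hy => by
    obtain ⟨Ω, _, _, ξ, rfl, hne⟩ := exists_default_of_mem_supp hy
    by_contra hn
    exact hne (EtPtsLib.isZero_stalk_push_ab i ξ i.isClosedEmbedding.isClosed_range hn _)) r (by omega)
  exact e.symm.toEquiv.subsingleton

variable (h1 : ∀ x : X, CdLE L (Spec (X.residueField x)) (φ x))
  (h2 : ∀ (x y : X) (hxy : x ⤳ y), x ≠ y → ∀ (R : Type u) [CommRing R] [IsLocalRing R]
    [Algebra (X.presheaf.stalk y) R] [IsLocalHom (algebraMap (X.presheaf.stalk y) R)]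
    [Hensel.IsStrictHenselization (X.presheaf.stalk y) R],
    ∀ P ∈ ((RingHom.ker (Cyc.specMap y x hxy)).map (algebraMap (X.presheaf.stalk y) R)).minimalPrimes,
      ∃ d : ℕ, d + 1 + φ y ≤ φ x ∧ CdLE L (Spec (CommRingCat.of (FractionRing (R ⧸ P)))) d)

include h2 in
/-- The function drops along proper specializations. -/
theorem lt_of_specializes {x y : X} (h : x ⤳ y) (hne : x ≠ y) : φ y < φ x := by
  obtain ⟨R, _, _, _, _, hR⟩ := Henselization.exists_strictHenselization (R := X.presheaf.stalk y)
  haveI := hR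
  obtain ⟨P, hP⟩ := exists_minimalPrime_specMap x y h R
  obtain ⟨d, hd, -⟩ := h2 x y h hne R P hP
  omega

include h2 in
theorem stable_lt (N : ℕ) : StableUnderSpecialization {x : X | φ x < N} := fun x y h hx => by
  rcases eq_or_ne x y with rfl | hne
  · exact hx
  · exact (lt_of_specializes φ h2 h hne).trans hx

include h1 h2 in
theorem subsingleton_H_push_pt {η : X} (hb : ∀ M < φ η, VanishBelow X L φ M)
    (G : EtCoh.Ab (Spec (X.residueField η))) (hG : EtAcyc.IsLTorsion L G) (q : ℕ) (hq : φ η < q) :
    Subsingleton (EtCoh.H X ((EtCoh.push (X.fromSpecResidueField η)).obj G) q) := by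
  haveI : QuasiCompact (X.fromSpecResidueField η) := quasiCompact_of_compactSpace _
  haveI : PreservesFiniteLimits (EtCoh.pull (X.fromSpecResidueField η)) := Groth.Agent.S0101.result _
  refine subsingleton_H_push_of_Rpush _ q G (h1 η G hG q hq) fun a b hab hb1 => ?_
  have hR : EtAcyc.IsLTorsion L ((EtCoh.Rpush (X.fromSpecResidueField η) b).obj G) :=
    Groth.Agent.S8560.result (X.fromSpecResidueField η) L G hG b
  have hs : ∀ x ∈ EtPBC.supp ((EtCoh.Rpush (X.fromSpecResidueField η) b).obj G), φ x + b + 1 ≤ φ η := fun x hx => by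
    obtain ⟨Ω, _, _, ξ, rfl, hne⟩ := exists_default_of_mem_supp hx
    by_contra hlt
    refine hne (isZero_stalk_Rpush_of_minimalPrimes η hG ξ b fun h R _ _ _ _ _ => ⟨b - 1, by omega, fun P _ hP => ?_⟩)
    by_cases he : η = ξ default
    · subst he
      exact (cdLE_fractionRing_minimalPrime_self L _ h R P hP).mono (by omega)
    · obtain ⟨d, hd, hcd⟩ := h2 η (ξ default) h he R P hP
      exact hcd.mono (by omega)
  by_cases hbη : b + 1 ≤ φ η
  · exact hb (φ η - b) (by omega) _ hR (fun x hx => by have := hs x hx; omega) a (by omega)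
  · refine subsingleton_H_of_isZero ((EtPtsLib.isZero_iff_ab _).2 fun Ω _ _ ξ => ?_) a
    by_contra hne
    have := hs _ ⟨Ω, inferInstance, inferInstance, ξ, EtPtsLib.range_eq_singleton ξ, hne⟩
    omega

include h1 h2 in
theorem vanishOn_closed {N : ℕ} (hb : ∀ M < N, VanishBelow X L φ M) (T : TopologicalSpace.Closeds X) :
    (∀ x ∈ T, φ x < N) → VanishOn X L (T : Set X) N := by
  induction T using WellFoundedLT.induction with
  | _ T ih =>
    intro hT F hF hs q hq
    rcases (T : Set X).eq_empty_or_nonempty with h0 | hne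
    · refine subsingleton_H_of_isZero ((EtPtsLib.isZero_iff_ab _).2 fun Ω _ _ ξ => ?_) q
      by_contra h
      have := hs ⟨Ω, inferInstance, inferInstance, ξ, EtPtsLib.range_eq_singleton ξ, h⟩
      rw [h0] at this
      exact this
    -- a point of the closed set with maximal value
    have hfin : (φ '' (T : Set X)).Finite := (Set.finite_lt_nat N).subset (by
      rintro _ ⟨x, hx, rfl⟩
      exact hT x hx)
    obtain ⟨_, ⟨η, hη, rfl⟩, hmax⟩ := Set.exists_max_image _ id hfin (hne.image φ)
    let E : Set X := (T : Set X) \ {η}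
    have hE : StableUnderSpecialization E := fun x y h hx => by
      refine ⟨h.mem_closed T.isClosed hx.1, fun he => ?_⟩
      obtain rfl : y = η := he
      have h1 := hmax _ ⟨x, hx.1, rfl⟩
      have h2 := lt_of_specializes φ h2 h hx.2
      simp only [id_eq] at h1
      omega
    have hEv : VanishOn X L E N := vanishOn_of_closed (Nat.zero_lt_of_lt (hT η hη)) E hE fun T' hT' =>
      ih T' (lt_of_le_of_ne (fun x hx => (hT' hx).1) (fun e => (hT' (show η ∈ (T' : Set X) from e ▸ hη)).2 rfl))
        fun x hx => hT x (hT' hx).1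
    haveI : QuasiCompact (X.fromSpecResidueField η) := quasiCompact_of_compactSpace _
    let j := EtClosedPts.ptUnit η F
    have hGL := isLTorsion_atPt η hF
    have hP : EtAcyc.IsLTorsion L ((EtCoh.push (X.fromSpecResidueField η)).obj (EtClosedPts.atPt η F)) :=
      isLTorsion_push _ hGL
    have hηN : φ η < N := hT η hη
    -- kernel
    have hK : Subsingleton (EtCoh.H X (kernel j) q) := hEv _ (isLTorsion_of_mono (kernel.ι j) hF) (fun x hx => by
      obtain ⟨Ω, _, _, ξ, rfl, hne⟩ := exists_default_of_mem_supp hx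
      refine ⟨hs (supp_subset_of_mono (kernel.ι j) hx), fun he => hne ?_⟩
      exact (EtClosedPts.isZero_stalk_kernel_cokernel j ξ (EtClosedPts.isIso_stalk_ptUnit η ξ he F)).1) q hq
    -- cokernel
    have hC : ∀ x ∈ EtPBC.supp (cokernel j), φ x < φ η := fun x hx => by
      obtain ⟨Ω, _, _, ξ, rfl, hne⟩ := exists_default_of_mem_supp hx
      by_contra hlt
      refine hne ?_
      by_cases he : ξ default = η
      · exact (EtClosedPts.isZero_stalk_kernel_cokernel j ξ (EtClosedPts.isIso_stalk_ptUnit η ξ he F)).2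
      · haveI : Epi ((EtCoh.stalk ξ).map (cokernel.π j)) :=
          (AddCommGrpCat.epi_iff_surjective _).2 ((EtPtsLib.epi_iff_ab _).1 inferInstance Ω ξ)
        exact IsZero.of_epi ((EtCoh.stalk ξ).map (cokernel.π j)) (EtClosedPts.isZero_stalk_push_point η ξ
          (fun h => hlt (lt_of_specializes φ h2 h (Ne.symm he))) _)
    let S₁ := ShortComplex.mk (kernel.ι j) (Abelian.factorThruImage j) (by
      rw [← cancel_mono (Abelian.image.ι j), Category.assoc, Abelian.image.fac, kernel.condition, zero_comp])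
    let S₂ := ShortComplex.mk (Abelian.image.ι j) (cokernel.π j) (kernel.condition _)
    have hS₁ : S₁.ShortExact := ⟨ShortComplex.exact_of_f_is_kernel _ (isKernelOfComp (Abelian.image.ι j) j
      (kernelIsKernel j) S₁.zero (Abelian.image.fac j))⟩
    have hS₂ : S₂.ShortExact := ⟨ShortComplex.exact_of_f_is_kernel _ (kernelIsKernel _)⟩
    obtain ⟨r, rfl⟩ : ∃ r, q = r + 1 := ⟨q - 1, by omega⟩
    have hI : Subsingleton (EtCoh.H X (Abelian.image j) (r + 1)) := by
      refine subsingleton_of_forall_eq 0 fun x => ?_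
      obtain ⟨y, rfl⟩ := Ext.covariant_sequence_exact₁ _ hS₂ x
        (@Subsingleton.elim _ (subsingleton_H_push_pt φ h1 h2 (fun M hM => hb M (hM.trans hηN)) _ hGL (r + 1)
          (by omega)) _ 0) rfl
      rw [@Subsingleton.elim _ (hb (φ η) hηN (cokernel j) (isLTorsion_of_epi (cokernel.π j) hP) hC r (by omega)) y 0,
        Ext.zero_comp]
    refine subsingleton_of_forall_eq 0 fun x => ?_
    obtain ⟨y, rfl⟩ := Ext.covariant_sequence_exact₂ _ hS₁ x (@Subsingleton.elim _ hI _ 0)
    rw [@Subsingleton.elim _ hK y 0, Ext.zero_comp]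

include h1 h2 in
/-- Vanishing above a dimension function. -/
theorem vanishBelow_all (N : ℕ) : VanishBelow X L φ N := by
  induction N using Nat.strong_induction_on with
  | _ N ih =>
    intro F hF hs
    rcases N.eq_zero_or_pos with rfl | hN
    · exact fun q _ => subsingleton_H_of_isZero ((EtPtsLib.isZero_iff_ab _).2 fun Ω _ _ ξ => by
        by_contra h
        exact absurd (hs _ ⟨Ω, inferInstance, inferInstance, ξ, EtPtsLib.range_eq_singleton ξ, h⟩) (Nat.not_lt_zero _)) q
    exact vanishOn_of_closed hN _ (stable_lt φ h2 N)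
      (fun T hT => vanishOn_closed φ h1 h2 ih T fun x hx => hT hx) F hF hs

end Groth.Agent.ArtinVanLib
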