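import Groth.Agent.DimFormulaLib.LocalDim
import Groth.Agent.CdFieldLib.SHField
import Mathlib.RingTheory.AlgebraicIndependent.TranscendenceBasis
import Mathlib.RingTheory.Localization.Algebra

/-!
# Algebras all of whose quotient domains have bounded transcendence degree
-/

set_option autoImplicit false
set_option backward.isDefEq.respectTransparency false
set_option backward.isDefEq.respectTransparency.types false
set_option linter.style.haveILetI false
set_option maxHeartbeats 1000000

universe u

open scoped Polynomial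

noncomputable section

namespace Groth.Agent.ArtinVanLib

/-- The quotient domains of `R` have transcendence degree at most `n` over `k`. -/
def DimLE (k R : Type u) [Field k] [CommRing R] [Algebra k R] (n : ℕ) : Prop :=
  ∀ Q : Ideal R, Q.IsPrime → Algebra.trdeg k (R ⧸ Q) ≤ n

variable {k R S : Type u} [Field k] [CommRing R] [Algebra k R] [CommRing S] [Algebra k S] {n : ℕ}

theorem DimLE.mono {m : ℕ} (h : DimLE k R n) (hm : n ≤ m) : DimLE k R m := fun Q hQ =>
  (h Q hQ).trans (by exact_mod_cast hm)

theorem DimLE.of_surjective (h : DimLE k R n) (φ : R →ₐ[k] S) (hφ : Function.Surjective φ) : DimLE k S n :=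
  fun Q hQ => by
    haveI := hQ
    haveI : (Q.comap φ).IsPrime := Ideal.IsPrime.comap φ
    refine le_trans ?_ (h (Q.comap φ) inferInstance)
    refine trdeg_le_of_surjective (Ideal.quotientMapₐ Q φ le_rfl) fun x => ?_
    obtain ⟨x, rfl⟩ := Ideal.Quotient.mk_surjective x
    obtain ⟨y, rfl⟩ := hφ x
    exact ⟨Ideal.Quotient.mk _ y, rfl⟩

theorem dimLE_mvPolynomial (m : ℕ) : DimLE k (MvPolynomial (Fin m) k) m := fun Q _ => by
  refine (trdeg_le_of_surjective (Ideal.Quotient.mkₐ k Q) Ideal.Quotient.mk_surjective).trans ?_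
  rw [MvPolynomial.trdeg_of_isDomain, Cardinal.mk_fin, Cardinal.lift_natCast]

/-- The transcendence degree of a quotient of an algebra over its contraction. -/
theorem trdeg_quotient_le [Algebra R S] [IsScalarTower k R S] (h : DimLE k R n) (Q : Ideal S) [Q.IsPrime] {r : ℕ}
    (hr : Algebra.trdeg (R ⧸ Q.comap (algebraMap R S)) (S ⧸ Q) ≤ r) : Algebra.trdeg k (S ⧸ Q) ≤ (n + r : ℕ) := by
  haveI : (Q.comap (algebraMap R S)).IsPrime := Ideal.IsPrime.comap _
  haveI : FaithfulSMul k (R ⧸ Q.comap (algebraMap R S)) :=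
    (faithfulSMul_iff_algebraMap_injective _ _).2 (RingHom.injective _)
  haveI : FaithfulSMul (R ⧸ Q.comap (algebraMap R S)) (S ⧸ Q) :=
    (faithfulSMul_iff_algebraMap_injective _ _).2 Ideal.algebraMap_quotient_injective
  haveI : IsScalarTower k (R ⧸ Q.comap (algebraMap R S)) (S ⧸ Q) := .of_algebraMap_eq fun c => by
    show Ideal.Quotient.mk Q (algebraMap k S c) = Ideal.Quotient.mk Q (algebraMap R S (algebraMap k R c))
    rw [← IsScalarTower.algebraMap_apply]
  rw [← trdeg_add_eq k (R ⧸ Q.comap (algebraMap R S)) (A := S ⧸ Q), Nat.cast_add]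
  exact add_le_add (h _ inferInstance) hr

/-- Algebraic maps do not raise the bound. -/
theorem DimLE.of_isAlgebraic [Algebra R S] [IsScalarTower k R S] (h : DimLE k R n)
    (halg : ∀ (Q : Ideal S) [Q.IsPrime] (s : S),
      IsAlgebraic (R ⧸ Q.comap (algebraMap R S)) (Ideal.Quotient.mk Q s)) : DimLE k S n := fun Q hQ => by
  haveI := hQ
  haveI : Algebra.IsAlgebraic (R ⧸ Q.comap (algebraMap R S)) (S ⧸ Q) := ⟨fun x => by
    obtain ⟨x, rfl⟩ := Ideal.Quotient.mk_surjective x
    exact halg Q x⟩
  exact trdeg_quotient_le h Q (r := 0) (trdeg_eq_zero (R := R ⧸ Q.comap (algebraMap R S)) (A := S ⧸ Q)).le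

theorem DimLE.localization [Algebra R S] [IsScalarTower k R S] (h : DimLE k R n) (M : Submonoid R)
    [IsLocalization M S] : DimLE k S n := by
  refine h.of_isAlgebraic fun Q _ s => ?_
  haveI : (Q.comap (algebraMap R S)).IsPrime := Ideal.IsPrime.comap _
  obtain ⟨⟨a, t⟩, hs⟩ := IsLocalization.surj M s
  refine ⟨Polynomial.C (Ideal.Quotient.mk (Q.comap (algebraMap R S)) t) * Polynomial.X -
    Polynomial.C (Ideal.Quotient.mk (Q.comap (algebraMap R S)) a), fun h0 => ?_, ?_⟩
  · have h1 := congrArg (fun p => Polynomial.coeff p 1) h0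
    simp only [Polynomial.coeff_sub, Polynomial.coeff_C_mul, Polynomial.coeff_X_one, mul_one,
      Polynomial.coeff_C_succ, sub_zero, Polynomial.coeff_zero, Ideal.Quotient.eq_zero_iff_mem, Ideal.mem_comap] at h1
    exact (‹Q.IsPrime›).ne_top (Q.eq_top_of_isUnit_mem h1 (IsLocalization.map_units S t))
  · rw [map_sub, map_mul, Polynomial.aeval_C, Polynomial.aeval_X, Polynomial.aeval_C]
    show Ideal.Quotient.mk Q (algebraMap R S t) * Ideal.Quotient.mk Q s - Ideal.Quotient.mk Q (algebraMap R S a) = 0
    rw [← map_mul, mul_comm, ← hs, sub_self]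

/-- One more variable adds one. -/
theorem DimLE.polynomial (h : DimLE k R n) : DimLE k R[X] (n + 1) := fun Q hQ => by
  haveI := hQ
  haveI : (Q.comap (algebraMap R R[X])).IsPrime := Ideal.IsPrime.comap _
  refine trdeg_quotient_le h Q (r := 1) ?_
  let B := R ⧸ Q.comap (algebraMap R R[X])
  refine (trdeg_le_of_surjective (Polynomial.aeval (R := B) (Ideal.Quotient.mk Q Polynomial.X)) fun x => ?_).trans ?_
  · obtain ⟨x, rfl⟩ := Ideal.Quotient.mk_surjective x
    refine ⟨x.map (algebraMap R B), ?_⟩
    rw [Polynomial.aeval_map_algebraMap B, ← Ideal.Quotient.mkₐ_eq_mk R Q, Polynomial.aeval_algHom_apply]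
    congr 1
    exact (Polynomial.aeval_X_left_apply x)
  · rw [Polynomial.trdeg_of_isDomain, Nat.cast_one]

/-- Strict henselization does not raise the bound. -/
theorem DimLE.strictHenselization [IsLocalRing R] [IsLocalRing S] [Algebra R S] [IsScalarTower k R S]
    [IsLocalHom (algebraMap R S)] [Hensel.IsStrictHenselization R S] (h : DimLE k R n) : DimLE k S n := by
  refine h.of_isAlgebraic fun Q _ s => ?_
  haveI : (Q.comap (algebraMap R S)).IsPrime := Ideal.IsPrime.comap _
  let B := R ⧸ Q.comap (algebraMap R S)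
  let L := FractionRing (S ⧸ Q)
  letI : Algebra R (S ⧸ Q) := Ideal.Quotient.algebra R
  haveI : FaithfulSMul B (S ⧸ Q) := (faithfulSMul_iff_algebraMap_injective _ _).2 Ideal.algebraMap_quotient_injective
  haveI : FaithfulSMul B L := FaithfulSMul.trans B (S ⧸ Q) L
  letI : Algebra (FractionRing B) L := FractionRing.liftAlgebra B L
  haveI : IsScalarTower R B L := .of_algebraMap_eq fun r => rfl
  haveI : IsScalarTower R (FractionRing B) L := IsScalarTower.to₁₃₄ R B (FractionRing B) L
  have h1 := CdFieldLib.isAlgebraic_of_strictHenselization (K := FractionRing B)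
    (IsScalarTower.toAlgHom R S L) s
  refine (isAlgebraic_algebraMap_iff (R := B) (IsFractionRing.injective (S ⧸ Q) L)).1 ?_
  exact (IsFractionRing.isAlgebraic_iff B (FractionRing B) L).2 h1

/-- Enlarging the base field. -/
theorem DimLE.of_subfield {k' : Type u} [Field k'] [Algebra k k'] [Algebra k' R] [IsScalarTower k k' R]
    (h : DimLE k R n) {δ m : ℕ} (hδ : Algebra.trdeg k k' = δ) (hm : n ≤ δ + m) : DimLE k' R m := fun Q hQ => by
  haveI := hQ
  haveI : FaithfulSMul k' (R ⧸ Q) := (faithfulSMul_iff_algebraMap_injective _ _).2 (RingHom.injective _)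
  haveI : FaithfulSMul k k' := (faithfulSMul_iff_algebraMap_injective _ _).2 (RingHom.injective _)
  have h1 := h Q hQ
  rw [← trdeg_add_eq k k' (A := R ⧸ Q), hδ] at h1
  obtain ⟨t, ht⟩ : ∃ t : ℕ, Algebra.trdeg k' (R ⧸ Q) = t :=
    Cardinal.lt_aleph0.1 (lt_of_le_of_lt (le_add_self.trans h1) (Cardinal.natCast_lt_aleph0 (n := n)))
  rw [ht] at h1 ⊢
  have h2 : δ + t ≤ n := by exact_mod_cast h1
  exact_mod_cast (show t ≤ m by omega)

/-- The quotient domains of a finitely generated subalgebra are dominated by those of the algebra. -/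
theorem DimLE.ringKrullDim_le (h : DimLE k R n) (A : Subalgebra k R) [Algebra.FiniteType k A] :
    ringKrullDim A ≤ n := by
  refine DimFormulaLib.ringKrullDim_le_of_forall_minimal k A _ fun P hP m hm => ?_
  obtain ⟨Q, hQ, hPQ⟩ := Ideal.exists_comap_eq_of_mem_minimalPrimes_of_injective
    (f := A.val.toRingHom) Subtype.val_injective P hP
  subst hPQ
  haveI := hQ
  have h1 : Algebra.trdeg k (A ⧸ Q.comap A.val.toRingHom) ≤ Algebra.trdeg k (R ⧸ Q) :=
    trdeg_le_of_injective (Ideal.quotientMapₐ Q A.val le_rfl) Ideal.quotientMap_injective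
  have h2 : (m : Cardinal) ≤ (n : Cardinal) := (hm.symm.le.trans h1).trans (h Q hQ)
  exact_mod_cast h2

end Groth.Agent.ArtinVanLib
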