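import Groth.Agent.CdpLib.Reduce
import Groth.Agent.CdFieldLib.Support
import Groth.Agent.CdFieldLib.FiniteType
import Groth.Agent.CdFieldLib.Basic
import Groth.Agent.CurveLib.Components
import Groth.Agent.FinGrpdLib.Perfect
import Groth.Agent.PBCLib.Fibration
import Groth.Agent.CompBCLib.Killed
import Groth.Agent.EtPtsLib.Immersion

/-!
# Cohomological dimension from constant coefficients on integral finite schemes
-/

set_option autoImplicit false
set_option backward.isDefEq.respectTransparency false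
set_option backward.isDefEq.respectTransparency.types false
set_option linter.style.haveILetI false
set_option maxHeartbeats 1000000
set_option synthInstance.maxHeartbeats 400000

universe u

open CategoryTheory CategoryTheory.Limits AlgebraicGeometry Opposite CategoryTheory.Abelian TopologicalSpace

noncomputable section

namespace Groth.Agent.ArtinVanLib.FinDim

open CdFieldLib

variable {X : Scheme.{u}}

/-- The integral closed subschemes have value below `N`. -/
def Bd (φ : ∀ (Y : Scheme.{u}), (Y ⟶ X) → ℕ) {T : Scheme.{u}} (g : T ⟶ X) (N : ℕ) : Prop :=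
  ∀ (Z : Scheme.{u}) (c : Z ⟶ T) [IsIntegral Z] [IsClosedImmersion c], φ Z (c ≫ g) < N

/-- Monotonicity along finite morphisms, strict for proper closed immersions. -/
def Mono' (φ : ∀ (Y : Scheme.{u}), (Y ⟶ X) → ℕ) : Prop :=
  ∀ (Y₁ Y₂ : Scheme.{u}) (g₁ : Y₁ ⟶ X) (g₂ : Y₂ ⟶ X) [IsIntegral Y₁] [IsIntegral Y₂] [IsFinite g₁] [IsFinite g₂]
    (m : Y₁ ⟶ Y₂), m ≫ g₂ = g₁ → φ Y₁ g₁ ≤ φ Y₂ g₂ ∧ (IsClosedImmersion m → ¬ IsIso m → φ Y₁ g₁ < φ Y₂ g₂)

/-- The constant sheaf has no cohomology above the value on integral schemes. -/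
def IntVanish (ℓ : ℕ) (φ : ∀ (Y : Scheme.{u}), (Y ⟶ X) → ℕ) : Prop :=
  ∀ (Y : Scheme.{u}) (g : Y ⟶ X) [IsIntegral Y] [IsFinite g] (q : ℕ), φ Y g < q →
    Subsingleton (EtCoh.H Y (EtCoh.const Y (ZMod ℓ)) q)

variable {φ : ∀ (Y : Scheme.{u}), (Y ⟶ X) → ℕ} {T : Scheme.{u}}

theorem range_vanishingIdeal (C : Closeds T) :
    Set.range (Scheme.IdealSheafData.vanishingIdeal C).subschemeι = (C : Set T) :=
  (Scheme.IdealSheafData.range_subschemeι _).trans (Scheme.IdealSheafData.coe_support_vanishingIdeal C)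

/-- A closed irreducible piece with a lift of an integral scheme inside it. -/
theorem exists_lift_irreducible (hφ : Mono' φ) (g : T ⟶ X) [IsFinite g] {Z : Scheme.{u}} [IsIntegral Z] (c : Z ⟶ T)
    [IsFinite c] {C : Set T} (hC : IsClosed C) (hirr : IsIrreducible C) (hc : Set.range c ⊆ C) :
    ∃ (W : Scheme.{u}) (i : W ⟶ T) (_ : IsIntegral W) (_ : IsClosedImmersion i), Set.range i = C ∧
      φ Z (c ≫ g) ≤ φ W (i ≫ g) ∧ (IsClosedImmersion c → Set.range c ≠ C → φ Z (c ≫ g) < φ W (i ≫ g)) := by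
  haveI := CurveLib.isIntegral_vanishingIdeal hC hirr
  obtain ⟨m, hm⟩ := FinGrpdLib.exists_lift_reduced c ⟨C, hC⟩ hc
  let i := (Scheme.IdealSheafData.vanishingIdeal (⟨C, hC⟩ : Closeds T)).subschemeι
  have h := hφ _ _ (c ≫ g) (i ≫ g) m (by rw [← Category.assoc, hm])
  refine ⟨_, i, inferInstance, inferInstance, range_vanishingIdeal _, h.1, fun hcl hne => h.2 ?_ fun hiso => hne ?_⟩
  · haveI : IsClosedImmersion (m ≫ i) := by rw [hm]; exact hcl
    exact IsClosedImmersion.of_comp m i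
  · haveI := hiso
    rw [← hm, Scheme.Hom.comp_base, TopCat.coe_comp, Set.range_comp,
      show Set.range m = Set.univ from Set.range_eq_univ.2 m.surjective, Set.image_univ, range_vanishingIdeal]
    rfl

theorem Bd.comp_finite (hφ : Mono' φ) {g : T ⟶ X} [IsFinite g] {N : ℕ} (h : Bd φ g N) {T' : Scheme.{u}} (π : T' ⟶ T)
    [IsFinite π] : Bd φ (π ≫ g) N := fun Z c _ _ => by
  have hcl : IsClosed (Set.range (c ≫ π)) := (c ≫ π).isClosedMap.isClosed_range
  have hirr : IsIrreducible (Set.range (c ≫ π)) := by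
    rw [← Set.image_univ]
    exact (IrreducibleSpace.isIrreducible_univ Z).image _ (c ≫ π).continuous.continuousOn
  obtain ⟨W, i, _, _, -, hle, -⟩ := exists_lift_irreducible hφ g (c ≫ π) hcl hirr le_rfl
  refine lt_of_le_of_lt ?_ (h W i)
  rwa [← Category.assoc]

/-- Closed subschemes avoiding the generic point of each piece lose at least one. -/
theorem Bd.pred (hφ : Mono' φ) {g : T ⟶ X} [IsFinite g] {N : ℕ} (h : Bd φ g N) {Z₁ : Scheme.{u}} (i : Z₁ ⟶ T)
    [IsClosedImmersion i] (hgen : ∀ z ∈ Set.range i, ∃ η, η ⤳ z ∧ η ∉ Set.range i) : Bd φ (i ≫ g) (N - 1) :=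
  fun Z c _ _ => by
  obtain ⟨η, hη, hηi⟩ := hgen _ ⟨c (genericPoint Z), rfl⟩
  have hsub : Set.range (c ≫ i) ⊆ closure {η} := by
    rintro _ ⟨z, rfl⟩
    refine specializes_iff_mem_closure.1 (hη.trans ?_)
    rw [Scheme.Hom.comp_apply]
    exact ((genericPoint_specializes z).map c.continuous).map i.continuous
  obtain ⟨W, j, _, _, -, -, hlt⟩ :=
    exists_lift_irreducible hφ g (c ≫ i) isClosed_closure isIrreducible_singleton.closure hsub
  have h1 := hlt inferInstance fun he => hηi <| by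
    obtain ⟨z, hz⟩ : η ∈ Set.range (c ≫ i) := he ▸ subset_closure rfl
    exact ⟨c z, by rw [← Scheme.Hom.comp_apply, hz]⟩
  have h2 := h W j
  rw [← Category.assoc]
  omega

/-- Zero support gives zero. -/
theorem subsingleton_H_of_isZero {F : EtCoh.Ab T} (hF : IsZero F) (q : ℕ) : Subsingleton (EtCoh.H T F q) :=
  CdpLib.subsingleton_H_of_isZero hF q

/-- Sheaves supported on a closed subscheme. -/
theorem subsingleton_H_of_supp_range {Z : Scheme.{u}} (i : Z ⟶ T) [IsClosedImmersion i] (F : EtCoh.Ab T)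
    (hs : EtPBC.supp F ⊆ Set.range i) (q : ℕ) (h : Subsingleton (EtCoh.H Z ((EtCoh.pull i).obj F) q)) :
    Subsingleton (EtCoh.H T F q) := by
  haveI := isIso_unit_of_supp_closed i F hs
  refine subsingleton_H_of_iso' (asIso ((EtCoh.pullPushAdj i).unit.app F)) q ?_
  obtain ⟨e⟩ := EtVanish.nonempty_H_push_equiv i ((EtCoh.pull i).obj F) q
  exact e.toEquiv.subsingleton

theorem supp_push_closed {Z : Scheme.{u}} (i : Z ⟶ T) [IsClosedImmersion i] (G : EtCoh.Ab Z) :
    EtPBC.supp ((EtCoh.push i).obj G) ⊆ Set.range i := by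
  rintro x ⟨Ω, _, _, ξ, hξ, hne⟩
  have hx : ξ default = x := Set.mem_singleton_iff.1 (hξ ▸ Set.mem_range_self _)
  subst hx
  by_contra hn
  exact hne (EtPtsLib.isZero_stalk_push_ab i ξ i.isClosedEmbedding.isClosed_range hn _)

variable (ℓ : ℕ)

theorem isLTorsion_const [hp : Fact ℓ.Prime] (T : Scheme.{u}) :
    EtAcyc.IsLTorsion {ℓ} (EtCoh.const T (ZMod ℓ)) :=
  CompBCLib.isLTorsion_of_killedBy ⟨hp.out.pos, fun _ hq hd => (Nat.prime_dvd_prime_iff_eq hq hp.out).1 hd⟩
    (PBCLib.killedBy_const T ℓ)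

/-- The induction hypothesis. -/
def VanAt (φ : ∀ (Y : Scheme.{u}), (Y ⟶ X) → ℕ) (M : ℕ) : Prop :=
  ∀ (T : Scheme.{u}) (g : T ⟶ X) [IsFinite g], Bd φ g M → ∀ F : EtCoh.Ab T, EtAcyc.IsLTorsion {ℓ} F →
    ∀ r : ℕ, M ≤ r → Subsingleton (EtCoh.H T F r)

/-- The extension by zero of the constant sheaf from an open set inside a closed subscheme. -/
theorem subsingleton_H_extZero [hp : Fact ℓ.Prime] (hφ : Mono' φ) {N : ℕ} (ih : VanAt ℓ φ (N - 1))
    {g : T ⟶ X} [IsFinite g] (hT : Bd φ g N) (U : T.Opens) [AlgebraicGeometry.Etale U.ι] [EtShriek.JCont U.ι]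
    {W : Scheme.{u}} (i : W ⟶ T) [IsClosedImmersion i] (hU : (U : Set T) ⊆ Set.range i)
    (hgen : ∀ z ∈ Set.range i, z ∉ U → ∃ η ∈ U, η ⤳ z) {r : ℕ} (hr : N ≤ r + 1)
    (hW : Subsingleton (EtCoh.H W (EtCoh.const W (ZMod ℓ)) (r + 1))) :
    Subsingleton (EtCoh.H T ((EtShriek.extZero U.ι).obj ((EtShriek.restrAlong U.ι).obj (EtCoh.const T (ZMod ℓ))))
      (r + 1)) := by
  let Zc : Closeds T := ⟨(U : Set T)ᶜ, U.isOpen.isClosed_compl⟩
  let z := (Scheme.IdealSheafData.vanishingIdeal Zc).subschemeι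
  have hrz : Set.range z = (U : Set T)ᶜ := range_vanishingIdeal Zc
  obtain ⟨w, hS⟩ := S0654.result z U (by rw [hrz, compl_compl]) (EtCoh.const T (ZMod ℓ))
  haveI := hS.mono_f
  -- the support is inside the open set
  have hs : EtPBC.supp ((EtShriek.extZero U.ι).obj ((EtShriek.restrAlong U.ι).obj (EtCoh.const T (ZMod ℓ)))) ⊆
      Set.range i := fun x hx => by
    refine hU ?_
    obtain ⟨Ω, _, _, ξ, rfl, hne⟩ := exists_default_of_mem_supp hx
    by_contra hn
    refine hne (AddCommGrpCat.isZero_iff_subsingleton.2 ?_)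
    obtain ⟨ζ, rfl⟩ := EtPtsLib.exists_comp_eq_closed z ξ (hrz.ge hn)
    haveI := EtPtsLib.isIso_stalk_unit (A := AddCommGrpCat.{u + 1}) z ζ
      (EtPtsLib.liftsLocally_of_isImmersion _) (EtPtsLib.bcInducing_of_isImmersion _) (EtCoh.const T (ZMod ℓ))
    have e : (EtCoh.stalk (ζ ≫ z)).map ((EtShriek.extZeroAdj U.ι).counit.app (EtCoh.const T (ZMod ℓ))) = 0 := by
      have h0 := congrArg (EtCoh.stalk (ζ ≫ z)).map w
      rw [Functor.map_comp, Functor.map_zero] at h0
      exact Limits.zero_of_comp_mono _ h0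
    refine ⟨fun a b => EtClosedPts.stalk_injective ((EtShriek.extZeroAdj U.ι).counit.app (EtCoh.const T (ZMod ℓ)))
      (ζ ≫ z) ?_⟩
    show (EtCoh.stalk (ζ ≫ z)).map _ a = (EtCoh.stalk (ζ ≫ z)).map _ b
    rw [e]
    rfl
  refine subsingleton_H_of_supp_range i _ hs _ ?_
  haveI : PreservesFiniteLimits (EtCoh.pull i) := Groth.Agent.S0101.result i
  haveI : PreservesFiniteColimits (EtCoh.pull i) :=
    haveI := (EtCoh.pullPushAdj i).leftAdjoint_preservesColimits.{0, 0}
    PreservesColimitsOfSize.preservesFiniteColimits _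
  haveI : (EtCoh.pull i).Additive := Functor.additive_of_preserves_binary_products _
  have hS' := hS.map_of_exact (EtCoh.pull i)
  haveI : Epi ((EtCoh.pull i).map ((EtCoh.pullPushAdj z).unit.app (EtCoh.const T (ZMod ℓ)))) := hS'.epi_g
  have hQt : EtAcyc.IsLTorsion {ℓ} ((EtCoh.pull i).obj ((EtCoh.push z).obj ((EtCoh.pull z).obj (EtCoh.const T (ZMod ℓ))))) :=
    isLTorsion_of_epi (L := {ℓ}) ((EtCoh.pull i).map ((EtCoh.pullPushAdj z).unit.app (EtCoh.const T (ZMod ℓ))))
      (AcycCompLib.isLTorsion_pull i (isLTorsion_const ℓ T))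
  let Z1 : Closeds W := ⟨i ⁻¹' (U : Set T)ᶜ, U.isOpen.isClosed_compl.preimage i.continuous⟩
  let z1 := (Scheme.IdealSheafData.vanishingIdeal Z1).subschemeι
  have hbd : Bd φ (z1 ≫ i ≫ g) (N - 1) := by
    refine Bd.pred hφ (hT.comp_finite hφ i) z1 fun x hx => ?_
    rw [range_vanishingIdeal] at hx
    obtain ⟨η, hηU, hη⟩ := hgen (i x) ⟨x, rfl⟩ hx
    obtain ⟨η', rfl⟩ := hU hηU
    exact ⟨η', i.isClosedEmbedding.isInducing.specializes_iff.1 hη, fun h => (range_vanishingIdeal Z1 ▸ h) hηU⟩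
  have hQ : Subsingleton (EtCoh.H W
      ((EtCoh.pull i).obj ((EtCoh.push z).obj ((EtCoh.pull z).obj (EtCoh.const T (ZMod ℓ))))) r) := by
    refine subsingleton_H_of_supp_range z1 _ ?_ r (ih _ (z1 ≫ i ≫ g) hbd _ (AcycCompLib.isLTorsion_pull z1 hQt) r (by omega))
    rw [range_vanishingIdeal]
    intro x hx
    have h1 := (FLCLib.supp_pull i _).le hx
    exact hrz.le (supp_push_closed z _ h1)
  refine subsingleton_of_forall_eq 0 fun x => ?_
  have hc : Subsingleton (EtCoh.H W ((EtCoh.pull i).obj (EtCoh.const T (ZMod ℓ))) (r + 1)) :=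
    subsingleton_H_of_iso' (EtCore.pullConst i (ZMod ℓ)) _ hW
  obtain ⟨y, rfl⟩ := Ext.covariant_sequence_exact₁ _ hS' x (@Subsingleton.elim _ hc _ 0) rfl
  rw [@Subsingleton.elim _ hQ y 0, Ext.zero_comp]

end Groth.Agent.ArtinVanLib.FinDim
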