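import Groth.Agent.ArtinVanLib.FinDim
import Groth.Agent.EtJCont.Basic

/-!
# Vanishing for all torsion sheaves on finite schemes from constant coefficients
-/

set_option autoImplicit false
set_option backward.isDefEq.respectTransparency false
set_option backward.isDefEq.respectTransparency.types false
set_option linter.style.haveILetI false
set_option maxHeartbeats 1000000
set_option synthInstance.maxHeartbeats 400000

universe u

open CategoryTheory CategoryTheory.Limits AlgebraicGeometry Opposite CategoryTheory.Abelian TopologicalSpace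

noncomputable section

namespace Groth.Agent.ArtinVanLib.FinDim

open CdFieldLib

variable {X : Scheme.{u}} {φ : ∀ (Y : Scheme.{u}), (Y ⟶ X) → ℕ}

/-- In the closure of an open set every point generalizes into the open set. -/
theorem exists_specializes_of_mem_closure {T : Type u} [TopologicalSpace T] [NoetherianSpace T] [QuasiSober T]
    {U : Set T} (hU : IsOpen U) {w : T} (hw : w ∈ closure U) : ∃ η ∈ U, η ⤳ w := by
  obtain ⟨S, hf, hc, hi, hS⟩ := NoetherianSpace.exists_finite_set_isClosed_irreducible (isClosed_closure (s := U))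
  let A := ⋃₀ {t ∈ S | (t ∩ U).Nonempty}
  have hA : IsClosed A := by
    show IsClosed (⋃₀ {t ∈ S | (t ∩ U).Nonempty})
    rw [Set.sUnion_eq_biUnion]
    exact (hf.subset (Set.sep_subset _ _)).isClosed_biUnion fun t ht => hc t ht.1
  have hUA : U ⊆ A := fun x hx => by
    obtain ⟨t, ht, hxt⟩ := hS ▸ subset_closure hx
    exact ⟨t, ⟨ht, x, hxt, hx⟩, hxt⟩
  obtain ⟨t, ⟨ht, hne⟩, hwt⟩ := closure_minimal hUA hA hw
  obtain ⟨η, hη⟩ := QuasiSober.sober (hi t ht) (hc t ht)
  exact ⟨η, (hη.mem_open_set_iff hU).2 hne, hη.specializes hwt⟩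

theorem isNoetherian_of_finite [AlgebraicGeometry.IsNoetherian X] {T : Scheme.{u}} (g : T ⟶ X) [IsFinite g] :
    AlgebraicGeometry.IsNoetherian T := by
  haveI : IsLocallyNoetherian T := LocallyOfFiniteType.isLocallyNoetherian g
  haveI : CompactSpace T := QuasiCompact.compactSpace_of_compactSpace g
  constructor

variable (ℓ : ℕ) [hp : Fact ℓ.Prime]

/-- Constant coefficients on every closed subscheme. -/
theorem subsingleton_H_const (hφ : Mono' φ) (h2 : IntVanish ℓ φ) {N : ℕ} (hN : 0 < N) (ih : VanAt ℓ φ (N - 1))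
    {T : Scheme.{u}} [AlgebraicGeometry.IsNoetherian T] (g : T ⟶ X) [IsFinite g] (hT : Bd φ g N) (D : Closeds T) :
    ∀ (S : Scheme.{u}) (i : S ⟶ T) [IsClosedImmersion i], Set.range i = (D : Set T) → ∀ r : ℕ, N ≤ r →
      Subsingleton (EtCoh.H S (EtCoh.const S (ZMod ℓ)) r) := by
  induction D using WellFoundedLT.induction with
  | _ D IH =>
    intro S i _ hD r hr
    rcases isEmpty_or_nonempty S with hS | hS
    · exact subsingleton_H_of_isZero (CdpLib.isZero_of_isEmpty _) r
    haveI : AlgebraicGeometry.IsNoetherian S := isNoetherian_of_finite (X := T) i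
    obtain ⟨x⟩ := hS
    let C := irreducibleComponent x
    have hC : C ∈ irreducibleComponents S := irreducibleComponent_mem_irreducibleComponents x
    obtain ⟨η, hη⟩ := QuasiSober.sober hC.1 isClosed_irreducibleComponent
    -- the rest
    let R : Set S := ⋃₀ (irreducibleComponents S \ {C})
    have hRc : IsClosed R := by
      show IsClosed (⋃₀ (irreducibleComponents S \ {C}))
      rw [Set.sUnion_eq_biUnion]
      exact ((NoetherianSpace.finite_irreducibleComponents).subset Set.diff_subset).isClosed_biUnion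
        fun t ht => isClosed_of_mem_irreducibleComponents t ht.1
    have hηR : η ∉ R := by
      rintro ⟨t, ⟨ht, hne⟩, hηt⟩
      have hle : C ⊆ t := hη.symm ▸ closure_minimal (Set.singleton_subset_iff.2 hηt) (isClosed_of_mem_irreducibleComponents t ht)
      exact hne (le_antisymm (hC.2 ht.1 hle) hle)
    let U : S.Opens := ⟨Rᶜ, hRc.isOpen_compl⟩
    have hUC : (U : Set S) ⊆ C := fun y hy => by
      have hy' : y ∈ ⋃₀ irreducibleComponents S := by rw [sUnion_irreducibleComponents]; trivial
      obtain ⟨t, ht, hyt⟩ := hy'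
      by_contra hn
      exact hy ⟨t, ⟨ht, fun e => hn (Set.mem_singleton_iff.1 e ▸ hyt)⟩, hyt⟩
    let z := (Scheme.IdealSheafData.vanishingIdeal (⟨R, hRc⟩ : Closeds S)).subschemeι
    have hrz : Set.range z = R := range_vanishingIdeal _
    haveI := EtJCont.jCont U.ι
    obtain ⟨w, hSES⟩ := S0654.result z U (by rw [hrz]; rfl) (EtCoh.const S (ZMod ℓ))
    -- the piece on the component
    haveI := CurveLib.isIntegral_vanishingIdeal (isClosed_irreducibleComponent (x := x)) hC.1
    let iW := (Scheme.IdealSheafData.vanishingIdeal (⟨C, isClosed_irreducibleComponent⟩ : Closeds S)).subschemeι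
    obtain ⟨r', rfl⟩ : ∃ r', r = r' + 1 := ⟨r - 1, by omega⟩
    have hgS : Bd φ (i ≫ g) N := hT.comp_finite hφ i
    have hK : Subsingleton (EtCoh.H S ((EtShriek.extZero U.ι).obj ((EtShriek.restrAlong U.ι).obj
        (EtCoh.const S (ZMod ℓ)))) (r' + 1)) := by
      refine subsingleton_H_extZero (φ := φ) (g := i ≫ g) (N := N) ℓ hφ ih hgS U iW
        ((range_vanishingIdeal _).symm ▸ hUC) (fun y hy _ => ⟨η, hηR, hη.specializes ?_⟩) (by omega) ?_
      · rw [range_vanishingIdeal] at hy
        exact hy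
      · exact h2 _ (iW ≫ i ≫ g) (r' + 1) (lt_of_lt_of_le (hgS _ iW) hr)
    -- the rest by induction
    have hQ : Subsingleton (EtCoh.H S ((EtCoh.push z).obj ((EtCoh.pull z).obj (EtCoh.const S (ZMod ℓ)))) (r' + 1)) := by
      obtain ⟨e⟩ := EtVanish.nonempty_H_push_equiv z ((EtCoh.pull z).obj (EtCoh.const S (ZMod ℓ))) (r' + 1)
      haveI := subsingleton_H_of_iso' (EtCore.pullConst z (ZMod ℓ)) (r' + 1) (IH
        ⟨Set.range (z ≫ i), (z ≫ i).isClosedEmbedding.isClosed_range⟩ (lt_of_le_of_ne ?_ fun he => ?_) _ (z ≫ i) rfl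
        (r' + 1) hr)
      · exact e.toEquiv.subsingleton
      · rintro y ⟨t, rfl⟩
        exact hD.le ⟨z t, (Scheme.Hom.comp_apply _ _ _).symm⟩
      · have h1 : i η ∈ (D : Set T) := hD.le ⟨η, rfl⟩
        rw [← he] at h1
        obtain ⟨t, ht⟩ := h1
        rw [Scheme.Hom.comp_apply] at ht
        exact hηR (i.isClosedEmbedding.injective ht ▸ hrz.le ⟨t, rfl⟩)
    exact CdpLib.shortExact_middle hSES (r' + 1) hK hQ

/-- The vanishing by induction on the bound. -/
theorem vanAt_all [AlgebraicGeometry.IsNoetherian X] (hφ : Mono' φ) (h2 : IntVanish ℓ φ) (N : ℕ) : VanAt ℓ φ N := by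
  induction N with
  | zero =>
    intro T g _ hT F _ r _
    refine subsingleton_H_of_isZero (haveI : IsEmpty T := ⟨fun x => ?_⟩; CdpLib.isZero_of_isEmpty F) r
    haveI := CurveLib.isIntegral_vanishingIdeal (isClosed_closure (s := {x})) isIrreducible_singleton.closure
    exact Nat.not_lt_zero _
      (hT _ (Scheme.IdealSheafData.vanishingIdeal (⟨closure {x}, isClosed_closure⟩ : Closeds T)).subschemeι)
  | succ n ih =>
    intro T g _ hT F hF r hr
    haveI := isNoetherian_of_finite g
    refine CdpLib.cohDimLEAt_of_constVanish ℓ (X := T) (n := n) ?_ F ((isLTorsion_singleton_iff hp.out).1 hF) r (by omega)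
    intro q hq T' V π _ j _ _
    haveI := isNoetherian_of_finite π
    let U := j.opensRange
    haveI := EtJCont.jCont U.ι
    let Cl : Closeds T' := ⟨closure (U : Set T'), isClosed_closure⟩
    let i := (Scheme.IdealSheafData.vanishingIdeal Cl).subschemeι
    have hbd : Bd φ (π ≫ g) (n + 1) := hT.comp_finite hφ π
    obtain ⟨q', rfl⟩ : ∃ q', q = q' + 1 := ⟨q - 1, by omega⟩
    have hU := subsingleton_H_extZero (φ := φ) (g := π ≫ g) (N := n + 1) ℓ hφ (by simpa using ih) hbd U i
      ((range_vanishingIdeal Cl).symm ▸ subset_closure) (fun z hz _ => ?_) (r := q') (by omega)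
      (subsingleton_H_const ℓ hφ h2 (Nat.succ_pos n) (by simpa using ih) (π ≫ g) hbd Cl _ i (range_vanishingIdeal Cl)
        (q' + 1) (by omega))
    rotate_left
    · rw [range_vanishingIdeal] at hz
      exact exists_specializes_of_mem_closure U.isOpen hz
    -- transport to the given open immersion
    let e : V ⟶ U.toScheme := j.isoOpensRange.hom
    obtain ⟨c⟩ := CdpLib.nonempty_push_const_iso e (ZMod ℓ)
    obtain ⟨w⟩ := S0653.result (𝟙 T') U.ι j e
      (IsOpenImmersion.isPullback e j U.ι (𝟙 T') (by simp [e, U]) (by simp [U])).flip (EtCoh.const V (ZMod ℓ))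
    haveI := hU
    haveI := CdpLib.subsingleton_H_of_iso (w ≪≫ (EtShriek.extZero U.ι).mapIso (c ≪≫ (EtCore.pullConst U.ι (ZMod ℓ)).symm ≪≫
      (EtPtsLib.pullIsoRestr U.ι).app _)) (q' + 1)
    obtain ⟨ε⟩ := EtVanish.nonempty_H_push_equiv (𝟙 T') ((EtShriek.extZero j).obj (EtCoh.const V (ZMod ℓ))) (q' + 1)
    exact ε.symm.toEquiv.subsingleton

end Groth.Agent.ArtinVanLib.FinDim
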