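import Groth.Agent.ArtinVanLib.DimLE
import Groth.Agent.DimFormulaLib.LocalDim
import Groth.Agent.DimFormulaLib.Height
import Groth.Agent.Henselization.Properties
import Mathlib.RingTheory.Ideal.KrullsHeightTheorem
import Mathlib.RingTheory.EssentialFiniteness

/-!
# Transcendence degree and dimension of quotients of strict henselizations
-/

set_option autoImplicit false
set_option backward.isDefEq.respectTransparency false
set_option backward.isDefEq.respectTransparency.types false
set_option linter.style.haveILetI false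
set_option maxHeartbeats 1000000

universe u

open IsLocalRing

noncomputable section

namespace Groth.Agent.ArtinVanLib

/-- The dimension formula for local domains essentially of finite type over a field, as a bound. -/
theorem trdeg_le_ringKrullDim_add {k D : Type u} [Field k] [CommRing D] [IsDomain D] [IsLocalRing D] [Algebra k D]
    [Algebra.EssFiniteType k D] {δ e : ℕ} (hδ : Algebra.trdeg k (ResidueField D) ≤ δ) (he : ringKrullDim D ≤ e) :
    Algebra.trdeg k D ≤ (δ + e : ℕ) := by
  let D₀ := Algebra.EssFiniteType.subalgebra k D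
  let M := Algebra.EssFiniteType.submonoid k D
  let m : Ideal D₀ := (maximalIdeal D).comap (algebraMap D₀ D)
  haveI : m.IsPrime := Ideal.IsPrime.comap _
  obtain ⟨n, hn⟩ := DimFormulaLib.exists_nat_trdeg_quotient k D₀ (⊥ : Ideal D₀)
  obtain ⟨r, hr⟩ := DimFormulaLib.exists_nat_trdeg_quotient k D₀ m
  let P₀ : PrimeSpectrum D₀ := ⟨⊥, Ideal.isPrime_bot⟩
  obtain ⟨a, ha, hna⟩ := DimFormulaLib.trdeg_eq_relHeight_add k D₀ (P := P₀) (p := ⟨m, inferInstance⟩) bot_le n r hn hr
  have hr' : (r : Cardinal) ≤ (δ : Cardinal) := by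
    rw [← hr]
    exact (trdeg_le_of_injective (Ideal.quotientMapₐ (maximalIdeal D) (IsScalarTower.toAlgHom k D₀ D) le_rfl)
      Ideal.quotientMap_injective).trans hδ
  have ha' : (a : ℕ∞) ≤ (e : ℕ∞) := by
    rw [← ha]
    refine (DimFormulaLib.relHeight_le_height (P := P₀) (p := ⟨m, inferInstance⟩) bot_le).trans ?_
    show m.height ≤ _
    rw [show m = (maximalIdeal D).under D₀ from rfl, IsLocalization.height_under M]
    exact WithBot.coe_le_coe.1 ((IsLocalRing.maximalIdeal_height_eq_ringKrullDim).le.trans he)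
  have h₀ : DimLE k D₀ n := fun Q hQ => by
    rw [← hn]
    refine trdeg_le_of_surjective (Ideal.Quotient.factorₐ k (bot_le : ⊥ ≤ Q)) ?_
    exact Ideal.Quotient.factor_surjective bot_le
  refine (trdeg_le_of_injective (Ideal.Quotient.mkₐ k (⊥ : Ideal D)) (fun x y h => ?_)).trans ?_
  · exact sub_eq_zero.1 (Ideal.mem_bot.1 (Ideal.Quotient.eq.1 h))
  refine ((h₀.localization (S := D) M) ⊥ Ideal.isPrime_bot).trans ?_
  have h1 : r ≤ δ := by exact_mod_cast hr'
  have h2 : a ≤ e := by exact_mod_cast ha'
  exact_mod_cast (show n ≤ δ + e by omega)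

open Henselization in
theorem trdeg_quotient_Hz_le {k O K : Type u} [Field k] [CommRing O] [IsLocalRing O] [IsNoetherianRing O]
    [Algebra k O] [Algebra.EssFiniteType k O] [Field K] [Algebra O K] [Algebra (ResidueField O) K]
    [IsScalarTower O (ResidueField O) K] [Algebra.IsAlgebraic (ResidueField O) K] [Algebra k (Hz O K)]
    [IsScalarTower k O (Hz O K)] {δ : ℕ} (hδ : Algebra.trdeg k (ResidueField O) ≤ δ) (P : Ideal (Hz O K)) [P.IsPrime]
    (halg : ∀ s, IsAlgebraic (O ⧸ P.comap (algebraMap O (Hz O K))) (Ideal.Quotient.mk P s)) {e : ℕ}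
    (he : ringKrullDim (Hz O K ⧸ P) ≤ e) : Algebra.trdeg k (Hz O K ⧸ P) ≤ (δ + e : ℕ) := by
  classical
  let D := Hz O K ⧸ P
  haveI : IsNoetherianRing (Hz O K) := Henselization.isNoetherianRing
  obtain ⟨s, hs, hcard⟩ := Ideal.exists_finset_card_eq_height_of_isNoetherianRing (maximalIdeal D)
  have hse : s.card ≤ e := by
    have h1 : (maximalIdeal D).height ≤ (e : ℕ∞) :=
      WithBot.coe_le_coe.1 ((IsLocalRing.maximalIdeal_height_eq_ringKrullDim).le.trans he)
    rw [← hcard] at h1
    exact_mod_cast h1
  choose x hx using fun d : D => Ideal.Quotient.mk_surjective d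
  obtain ⟨G, hG⟩ := (IsNoetherian.noetherian P : P.FG)
  obtain ⟨i, hi⟩ := exists_lift_finset (G ∪ s.image x)
  choose g hg using fun z : ↥(G ∪ s.image x) => hi z.1 z.2
  let p := P.comap (ι i).toRingHom
  haveI : p.IsPrime := Ideal.IsPrime.comap _
  let t : Finset i.L := s.attach.image fun d => g ⟨x d.1, Finset.mem_union_right _ (Finset.mem_image_of_mem _ d.2)⟩
  let J : Ideal i.L := p ⊔ Ideal.span t
  have hrad : maximalIdeal i.L ≤ J.radical := fun z hz => by
    have hP : P ≤ J.map (ι i).toRingHom := by
      rw [← hG, Ideal.span_le]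
      intro y hy
      have e1 : ι i (g ⟨y, Finset.mem_union_left _ hy⟩) = y := hg _
      rw [← e1]
      refine Ideal.mem_map_of_mem _ (Ideal.mem_sup_left ?_)
      show ι i (g _) ∈ P
      rw [e1, ← hG]
      exact Ideal.subset_span hy
    have hm : (maximalIdeal D) ≤ (Ideal.span (s : Set D)).radical := by
      rw [Ideal.radical_eq_sInf]
      refine le_sInf fun Q ⟨hQ1, hQ2⟩ => ?_
      exact hs.2 ⟨hQ2, hQ1⟩ (le_maximalIdeal hQ2.ne_top)
    have hz' : Ideal.Quotient.mk P (ι i z) ∈ maximalIdeal D := by
      haveI : IsLocalHom (Ideal.Quotient.mk P) := .of_surjective _ Ideal.Quotient.mk_surjective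
      refine ((local_hom_TFAE (Ideal.Quotient.mk P)).out 0 2 rfl rfl).mp inferInstance (Ideal.mem_map_of_mem _ ?_)
      rw [mem_maximalIdeal_iff, εH_ι, ← i.mem_maximalIdeal_iff]
      exact hz
    obtain ⟨N, hN⟩ := hm hz'
    refine ⟨N, ?_⟩
    rw [← comap_map_ι i J, Ideal.mem_comap]
    show ι i (z ^ N) ∈ _
    have hle : (Ideal.span (s : Set D)).comap (Ideal.Quotient.mk P) ≤ J.map (ι i).toRingHom := by
      have e2 : Ideal.span (s : Set D) = (Ideal.span (x '' (s : Set D))).map (Ideal.Quotient.mk P) := by
        rw [Ideal.map_span, Set.image_image]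
        simp only [hx, Set.image_id']
        rfl
      rw [e2, Ideal.comap_map_of_surjective _ Ideal.Quotient.mk_surjective]
      refine sup_le (Ideal.span_le.2 ?_) (by rw [← RingHom.ker_eq_comap_bot, Ideal.mk_ker]; exact hP)
      rintro _ ⟨d, hd, rfl⟩
      have e1 : ι i (g ⟨x d, Finset.mem_union_right _ (Finset.mem_image_of_mem _ hd)⟩) = x d := hg _
      rw [← e1]
      exact Ideal.mem_map_of_mem _ (Ideal.mem_sup_right (Ideal.subset_span
        (Finset.mem_image.2 ⟨⟨d, hd⟩, Finset.mem_attach _ _, rfl⟩)))
    refine hle ?_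
    rw [Ideal.mem_comap, map_pow, map_pow]
    exact hN
  let Di := i.L ⧸ p
  haveI : IsLocalHom (Ideal.Quotient.mk p) := .of_surjective _ Ideal.Quotient.mk_surjective
  haveI : IsNoetherianRing i.L := inferInstance
  have hdim : ringKrullDim Di ≤ e := by
    rw [← IsLocalRing.maximalIdeal_height_eq_ringKrullDim]
    refine WithBot.coe_le_coe.2 ((Ideal.height_le_card_of_mem_minimalPrimes_span_finset
      (s := t.image (Ideal.Quotient.mk p)) ?_).trans ?_)
    · refine ⟨⟨(maximalIdeal.isMaximal Di).isPrime, ?_⟩, fun Q hQ hQm => ?_⟩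
      · rw [Finset.coe_image, Ideal.span_le]
        rintro _ ⟨y, hy, rfl⟩
        have hy' : y ∈ maximalIdeal i.L := by
          obtain ⟨d, -, rfl⟩ := Finset.mem_image.1 (Finset.mem_coe.1 hy)
          rw [i.mem_maximalIdeal_iff, ← εH_ι, ← mem_maximalIdeal_iff, hg]
          refine (mem_maximalIdeal _).2 fun hu => ?_
          have h1 : d.1 ∈ maximalIdeal D := hs.1.2 (Ideal.subset_span d.2)
          rw [← hx d.1] at h1
          exact h1 (hu.map _)
        exact ((local_hom_TFAE (Ideal.Quotient.mk p)).out 0 2 rfl rfl).mp inferInstance (Ideal.mem_map_of_mem _ hy')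
      · intro y hy
        obtain ⟨y, rfl⟩ := Ideal.Quotient.mk_surjective y
        have hy' : y ∈ maximalIdeal i.L := (mem_maximalIdeal _).2 fun hu => hy (hu.map _)
        obtain ⟨N, hN⟩ := hrad hy'
        refine hQ.1.mem_of_pow_mem N ?_
        have h1 := Ideal.mem_map_of_mem (Ideal.Quotient.mk p) hN
        rw [map_pow, Ideal.map_sup, Ideal.map_quotient_self, bot_sup_eq, Ideal.map_span, ← Finset.coe_image] at h1
        exact hQ.2 h1
    · exact_mod_cast (Finset.card_image_le.trans ((Finset.card_image_le.trans (by rw [Finset.card_attach])).trans hse))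
  -- the field of fractions is algebraic over the image of the base
  letI : Algebra k i.L := ((algebraMap O i.L).comp (algebraMap k O)).toAlgebra
  haveI : IsScalarTower k O i.L := .of_algebraMap_eq' rfl
  haveI : Algebra.EssFiniteType k i.L := Algebra.EssFiniteType.comp k O i.L
  haveI : Algebra.EssFiniteType k Di := Algebra.EssFiniteType.comp k i.L Di
  have hκ : Algebra.trdeg k (ResidueField Di) ≤ δ := by
    letI : Algebra k K := ((algebraMap (ResidueField O) K).comp (algebraMap k (ResidueField O))).toAlgebra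
    haveI : IsScalarTower k (ResidueField O) K := .of_algebraMap_eq' rfl
    haveI : IsScalarTower k O K := .to₁₂₄ k O (ResidueField O) K
    haveI : FaithfulSMul k (ResidueField O) := (faithfulSMul_iff_algebraMap_injective _ _).2 (RingHom.injective _)
    haveI : FaithfulSMul (ResidueField O) K := (faithfulSMul_iff_algebraMap_injective _ _).2 (RingHom.injective _)
    have hK : Algebra.trdeg k K ≤ δ := by
      rw [← trdeg_add_eq k (ResidueField O) (A := K), trdeg_eq_zero (R := ResidueField O) (A := K), add_zero]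
      exact hδ
    have hker : ∀ y : i.L, y ∈ maximalIdeal i.L → i.ε y = 0 := fun y hy => (i.mem_maximalIdeal_iff y).1 hy
    have hp : ∀ y ∈ p, i.ε.toRingHom y = 0 := fun y hy => hker y (le_maximalIdeal ‹p.IsPrime›.ne_top hy)
    let φ : ResidueField Di →+* K := Ideal.Quotient.lift (maximalIdeal Di) (Ideal.Quotient.lift p i.ε.toRingHom hp)
      fun y hy => by
        obtain ⟨y, rfl⟩ := Ideal.Quotient.mk_surjective y
        exact hker y ((mem_maximalIdeal _).2 fun hu => hy (hu.map _))
    refine le_trans (trdeg_le_of_injective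
      ({ φ with commutes' := fun c => ?_ } : ResidueField Di →ₐ[k] K) φ.injective) hK
    show i.ε (algebraMap O i.L (algebraMap k O c)) = algebraMap (ResidueField O) K (algebraMap k (ResidueField O) c)
    rw [i.ε.commutes, ← IsScalarTower.algebraMap_apply k O K, ← IsScalarTower.algebraMap_apply k (ResidueField O) K]
  refine le_trans ?_ (trdeg_le_ringKrullDim_add hκ hdim)
  -- compare with the base
  let q := P.comap (algebraMap O (Hz O K))
  haveI : q.IsPrime := Ideal.IsPrime.comap _
  haveI : Algebra.IsAlgebraic (O ⧸ q) D := ⟨fun y => by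
    obtain ⟨y, rfl⟩ := Ideal.Quotient.mk_surjective y
    exact halg y⟩
  haveI : FaithfulSMul k (O ⧸ q) := (faithfulSMul_iff_algebraMap_injective _ _).2 (RingHom.injective _)
  haveI : FaithfulSMul (O ⧸ q) D := (faithfulSMul_iff_algebraMap_injective _ _).2 Ideal.algebraMap_quotient_injective
  haveI : IsScalarTower k (O ⧸ q) D := .of_algebraMap_eq fun c => by
    show Ideal.Quotient.mk P (algebraMap k (Hz O K) c) = Ideal.Quotient.mk P (algebraMap O (Hz O K) (algebraMap k O c))
    rw [← IsScalarTower.algebraMap_apply]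
  rw [← trdeg_add_eq k (O ⧸ q) (A := D), trdeg_eq_zero (R := O ⧸ q) (A := D), add_zero]
  have hpq : q = p.comap (algebraMap O i.L) := by
    show P.comap (algebraMap O (Hz O K)) = (P.comap (ι i).toRingHom).comap (algebraMap O i.L)
    rw [Ideal.comap_comap]
    congr 1
    exact RingHom.ext fun r => ((ι i).commutes r).symm
  exact trdeg_le_of_injective (Ideal.quotientMapₐ p (IsScalarTower.toAlgHom k O i.L) hpq.le)
    (Ideal.quotientMap_injective' (H := hpq.le) hpq.ge)

/-- A prime of a strict henselization is cut out with at least as many dimensions as its transcendence degree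
exceeds that of the residue field. -/
theorem trdeg_quotient_le_ringKrullDim_add {k O R : Type u} [Field k] [CommRing O] [IsLocalRing O]
    [IsNoetherianRing O] [Algebra k O] [Algebra.EssFiniteType k O] [CommRing R] [IsLocalRing R] [Algebra k R]
    [Algebra O R] [IsScalarTower k O R] [IsLocalHom (algebraMap O R)] [Hensel.IsStrictHenselization O R] {δ : ℕ}
    (hδ : Algebra.trdeg k (ResidueField O) ≤ δ) (P : Ideal R) [P.IsPrime] {e : ℕ} (he : ringKrullDim (R ⧸ P) ≤ e) :
    Algebra.trdeg k (R ⧸ P) ≤ (δ + e : ℕ) := by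
  obtain ⟨eH⟩ := Henselization.exists_algEquiv_of_isStrictHenselization O R
  let H := Henselization.StrictHenselizationRing O
  letI : Algebra k H := ((algebraMap O H).comp (algebraMap k O)).toAlgebra
  haveI : IsScalarTower k O H := .of_algebraMap_eq' rfl
  let P' : Ideal H := P.comap eH
  haveI : P'.IsPrime := Ideal.IsPrime.comap _
  have hmap : P = P'.map (eH.toRingEquiv : H →+* R) :=
    (Ideal.map_comap_of_surjective _ eH.surjective P).symm
  let E : (H ⧸ P') ≃+* R ⧸ P := Ideal.quotientEquiv P' P eH.toRingEquiv hmap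
  have h1 := trdeg_quotient_Hz_le (O := O) (K := SeparableClosure (ResidueField O)) hδ P' (fun s => ?_) (e := e)
    ((ringKrullDim_eq_of_ringEquiv E).trans_le he)
  · refine le_trans ?_ h1
    refine trdeg_le_of_injective ({ E.symm.toRingHom with commutes' := fun c => ?_ } : (R ⧸ P) →ₐ[k] H ⧸ P')
      E.symm.injective
    refine E.symm_apply_eq.2 ?_
    show Ideal.Quotient.mk P (algebraMap k R c) = Ideal.Quotient.mk P (eH (algebraMap O H (algebraMap k O c)))
    rw [eH.commutes, ← IsScalarTower.algebraMap_apply]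
  · let L := FractionRing (H ⧸ P')
    let B := O ⧸ P'.comap (algebraMap O H)
    haveI : (P'.comap (algebraMap O H)).IsPrime := Ideal.IsPrime.comap _
    haveI : FaithfulSMul B (H ⧸ P') := (faithfulSMul_iff_algebraMap_injective _ _).2 Ideal.algebraMap_quotient_injective
    haveI : FaithfulSMul B L := FaithfulSMul.trans B (H ⧸ P') L
    letI : Algebra (FractionRing B) L := FractionRing.liftAlgebra B L
    haveI : IsScalarTower O B L := .of_algebraMap_eq fun r => rfl
    haveI : IsScalarTower O (FractionRing B) L := IsScalarTower.to₁₃₄ O B (FractionRing B) L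
    have h2 := CdFieldLib.isAlgebraic_of_strictHenselization (K := FractionRing B)
      (IsScalarTower.toAlgHom O H L) s
    refine (isAlgebraic_algebraMap_iff (R := B) (IsFractionRing.injective (H ⧸ P') L)).1 ?_
    exact (IsFractionRing.isAlgebraic_iff B (FractionRing B) L).2 h2

end Groth.Agent.ArtinVanLib
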