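import Groth.Agent.ArtinVanLib.HensPoint
import Groth.Agent.ArtinVanLib.StrictLoc
import Groth.Agent.Henselization.Properties
import Groth.Agent.Henselization.Transfer
import Mathlib.RingTheory.DiscreteValuationRing.TFAE
import Mathlib.RingTheory.Filtration

/-!
# Strictly henselian models at closed points
-/

set_option autoImplicit false
set_option backward.isDefEq.respectTransparency false
set_option backward.isDefEq.respectTransparency.types false
set_option linter.style.haveILetI false
set_option maxHeartbeats 1000000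
set_option synthInstance.maxHeartbeats 200000

universe u

open CategoryTheory CategoryTheory.Limits AlgebraicGeometry IsLocalRing
open scoped TensorProduct

noncomputable section

namespace Groth.Agent.ArtinVanLib

/-- Lifts of a transcendence basis of the residue domain. -/
theorem exists_poly_subring {R C : Type u} [CommRing R] [CommRing C] [Algebra R C] [Algebra.FiniteType R C]
    (c : Ideal C) [c.IsPrime] (m : Ideal R) [m.IsMaximal] (hm : c.comap (algebraMap R C) = m) :
    ∃ (n : ℕ) (φ : MvPolynomial (Fin n) R →ₐ[R] C), c.comap φ = m.map MvPolynomial.C ∧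
      ∀ z : C, ∃ p : Polynomial (MvPolynomial (Fin n) R),
        p.map (Ideal.Quotient.mk (m.map MvPolynomial.C)) ≠ 0 ∧ p.eval₂ φ.toRingHom z ∈ c := by
  classical
  let k := R ⧸ m
  letI : Field k := Ideal.Quotient.field m
  let D := C ⧸ c
  letI : Algebra k D := (Ideal.Quotient.lift m ((Ideal.Quotient.mk c).comp (algebraMap R C)) fun r hr =>
    Ideal.Quotient.eq_zero_iff_mem.2 (hm.ge hr)).toAlgebra
  haveI : IsScalarTower R k D := .of_algebraMap_eq fun _ => rfl
  haveI : Algebra.FiniteType k D := .of_restrictScalars_finiteType R k D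
  haveI : FaithfulSMul k D := (faithfulSMul_iff_algebraMap_injective _ _).2 (RingHom.injective _)
  obtain ⟨s, hs⟩ := exists_isTranscendenceBasis k D
  haveI : Finite s := Cardinal.mk_lt_aleph0_iff.1 (by
    rw [hs.cardinalMk_eq_trdeg]
    exact trdeg_lt_aleph0_of_finiteType)
  obtain ⟨n, ⟨e⟩⟩ := Finite.exists_equiv_fin s
  let v : Fin n → D := fun i => (e.symm i : D)
  have hv : IsTranscendenceBasis k v := hs.comp_equiv e.symm
  choose u hu using fun i => Ideal.Quotient.mk_surjective (v i)
  let φ : MvPolynomial (Fin n) R →ₐ[R] C := MvPolynomial.aeval u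
  let π : MvPolynomial (Fin n) R →+* MvPolynomial (Fin n) k := MvPolynomial.map (Ideal.Quotient.mk m)
  have hcomm : (Ideal.Quotient.mk c).comp φ.toRingHom = (MvPolynomial.aeval v).toRingHom.comp π :=
    MvPolynomial.ringHom_ext (fun r => by
        show Ideal.Quotient.mk c (MvPolynomial.aeval u (MvPolynomial.C r)) =
          MvPolynomial.aeval v (MvPolynomial.map (Ideal.Quotient.mk m) (MvPolynomial.C r))
        rw [MvPolynomial.map_C, MvPolynomial.aeval_C, MvPolynomial.aeval_C]
        rfl)
      (fun i => by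
        show Ideal.Quotient.mk c (MvPolynomial.aeval u (MvPolynomial.X i)) =
          MvPolynomial.aeval v (MvPolynomial.map (Ideal.Quotient.mk m) (MvPolynomial.X i))
        rw [MvPolynomial.map_X, MvPolynomial.aeval_X, MvPolynomial.aeval_X, hu])
  have hker : RingHom.ker π = m.map MvPolynomial.C := by
    rw [MvPolynomial.ker_map, Ideal.mk_ker]
  refine ⟨n, φ, Ideal.ext fun x => ?_, fun z => ?_⟩
  · rw [← hker, RingHom.mem_ker, Ideal.mem_comap, ← Ideal.Quotient.eq_zero_iff_mem,
      show Ideal.Quotient.mk c (φ x) = MvPolynomial.aeval v (π x) from RingHom.congr_fun hcomm x,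
      map_eq_zero_iff _ hv.1]
  letI : Algebra (MvPolynomial (Fin n) k) D := (MvPolynomial.aeval v).toRingHom.toAlgebra
  haveI : IsScalarTower k (MvPolynomial (Fin n) k) D := .of_algebraMap_eq fun r =>
    ((MvPolynomial.aeval v).commutes r).symm
  have halg : Algebra.IsAlgebraic (MvPolynomial (Fin n) k) D := hv.isAlgebraic_iff.2 fun i => by
    have := isAlgebraic_algebraMap (R := MvPolynomial (Fin n) k) (A := D) (MvPolynomial.X i)
    rwa [show algebraMap (MvPolynomial (Fin n) k) D (MvPolynomial.X i) = v i from MvPolynomial.aeval_X v i] at this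
  obtain ⟨P, hP0, hP⟩ := halg.isAlgebraic (Ideal.Quotient.mk c z)
  obtain ⟨p, rfl⟩ := Polynomial.map_surjective π (MvPolynomial.map_surjective _ Ideal.Quotient.mk_surjective) P
  refine ⟨p, fun h0 => hP0 (Polynomial.ext fun i => ?_), ?_⟩
  · have h1 := congrArg (fun q => Polynomial.coeff q i) h0
    simp only [Polynomial.coeff_map, Polynomial.coeff_zero, Ideal.Quotient.eq_zero_iff_mem, ← hker,
      RingHom.mem_ker] at h1
    rw [Polynomial.coeff_map, h1, Polynomial.coeff_zero]
  · rw [← Ideal.Quotient.eq_zero_iff_mem, Polynomial.hom_eval₂]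
    refine Eq.trans ?_ hP
    rw [Polynomial.aeval_def, Polynomial.eval₂_map, hcomm]
    rfl

/-- A strictly henselian base with the same uniformizer, and a closed point with the given strict henselization. -/
theorem exists_strictlyHenselian_model {R : Type u} [CommRing R] [IsDomain R] [IsNoetherianRing R] {X : Scheme.{u}}
    (f : X ⟶ Spec (CommRingCat.of R)) [LocallyOfFiniteType f] (x : X) (m : Ideal R) [m.IsMaximal]
    (hx : (f x).asIdeal = m) (π : R) (hπ : m = Ideal.span {π})
    (A : Type u) [CommRing A] [IsLocalRing A] [Algebra (X.presheaf.stalk x) A]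
    [IsLocalHom (algebraMap (X.presheaf.stalk x) A)] [Hensel.IsStrictHenselization (X.presheaf.stalk x) A] :
    ∃ (R' : Type u) (_ : CommRing R') (_ : IsLocalRing R') (_ : IsNoetherianRing R') (_ : HenselianLocalRing R')
      (_ : IsSepClosed (ResidueField R')) (π' : R'), maximalIdeal R' = Ideal.span {π'} ∧ (π' = 0 ↔ π = 0) ∧
      (π = 0 ∨ ¬ IsNilpotent π') ∧
      ∃ (X' : Scheme.{u}) (f' : X' ⟶ Spec (CommRingCat.of R')) (_ : LocallyOfFiniteType f') (_ : QuasiCompact f')
        (x' : X') (_ : IsClosed ({x'} : Set X')) (_ : (f' x').asIdeal = maximalIdeal R')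
        (_ : Algebra (X'.presheaf.stalk x') A) (_ : IsLocalHom (algebraMap (X'.presheaf.stalk x') A)),
        Hensel.IsStrictHenselization (X'.presheaf.stalk x') A := by
  obtain ⟨C, _, ι, _, c, rfl⟩ := exists_chart x
  obtain ⟨_, hloc, -⟩ := exists_isLocalization_stalk ι c
  haveI := hloc
  obtain ⟨κ, hκ⟩ := Spec.map_surjective (ι ≫ f)
  letI : Algebra R C := κ.hom.toAlgebra
  haveI : LocallyOfFiniteType (Spec.map κ) := by rw [hκ]; infer_instance
  haveI : Algebra.FiniteType R C := (HasRingHomProperty.Spec_iff (P := @LocallyOfFiniteType)).1 this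
  have hm : c.asIdeal.comap (algebraMap R C) = m := by
    rw [← hx, ← Scheme.Hom.comp_apply, ← hκ]
    rfl
  obtain ⟨n, φ, hφ, halg⟩ := exists_poly_subring c.asIdeal m hm
  let R0 := MvPolynomial (Fin n) R
  letI : Algebra R0 C := φ.toRingHom.toAlgebra
  haveI : IsScalarTower R R0 C := .of_algebraMap_eq fun r => (φ.commutes r).symm
  haveI : Algebra.FiniteType R0 C := .of_restrictScalars_finiteType R R0 C
  let r0 : Ideal R0 := m.map MvPolynomial.C
  haveI : r0.IsPrime := by
    show (m.map MvPolynomial.C).IsPrime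
    rw [← hφ]
    exact Ideal.IsPrime.comap _
  let R1 := Localization.AtPrime r0
  obtain ⟨R', _, _, _, _, hR'⟩ := Henselization.exists_strictHenselization (R := R1)
  haveI := hR'
  letI : Algebra R0 R' := ((algebraMap R1 R').comp (algebraMap R0 R1)).toAlgebra
  haveI : IsScalarTower R0 R1 R' := .of_algebraMap_eq' rfl
  obtain ⟨q, hqmax, hqR, hq⟩ := exists_maximal_strictHenselization (A := A) (O := X.presheaf.stalk (ι c)) c.asIdeal r0 hφ
    (fun z => by
      obtain ⟨p, hp0, hp⟩ := halg z
      exact ⟨p, hp0, hp⟩) R'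
  obtain ⟨eH⟩ := Henselization.exists_algEquiv_of_isStrictHenselization R1 R'
  haveI : IsNoetherianRing R' := (Henselization.isNoetherianRing_of_equiv eH).2 inferInstance
  let π' : R' := algebraMap R1 R' (algebraMap R0 R1 (MvPolynomial.C π))
  have hmax : maximalIdeal R' = Ideal.span {π'} := by
    have hr0 : r0.map (algebraMap R0 R1) = Ideal.span {algebraMap R0 R1 (MvPolynomial.C π)} := by
      show (m.map MvPolynomial.C).map _ = _
      rw [hπ, Ideal.map_span, Set.image_singleton, Ideal.map_span, Set.image_singleton]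
    rw [← Henselization.map_maximalIdeal_of_equiv eH, ← Localization.AtPrime.map_eq_maximalIdeal (I := r0), hr0,
      Ideal.map_span, Set.image_singleton]
  have hinj : Function.Injective (algebraMap R1 R') := by
    have h := Henselization.algebraMap_injective (R := R1) (K := SeparableClosure (ResidueField R1))
    intro a b hab
    refine h (eH.injective ?_)
    rwa [AlgEquiv.commutes, AlgEquiv.commutes]
  have hinj1 : Function.Injective (algebraMap R0 R1) :=
    IsLocalization.injective R1 r0.primeCompl_le_nonZeroDivisors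
  have h0 : π' = 0 ↔ π = 0 := by
    rw [map_eq_zero_iff _ hinj, map_eq_zero_iff _ hinj1, MvPolynomial.C_eq_zero]
  refine ⟨R', inferInstance, inferInstance, inferInstance, Hensel.IsStrictHenselization.henselian (R := R1),
    (Hensel.IsStrictHenselization.isSepClosure (R := R1) (S := R')).sep_closed, π', hmax, h0, ?_, ?_⟩
  · by_cases hπ0 : π = 0
    · exact Or.inl hπ0
    · refine Or.inr fun hnil => ?_
      obtain ⟨j, hj⟩ := hnil
      rw [← map_pow, ← map_pow, map_eq_zero_iff _ hinj, map_eq_zero_iff _ hinj1, ← map_pow, MvPolynomial.C_eq_zero] at hj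
      exact hπ0 (eq_zero_of_pow_eq_zero hj)
  let C' := R' ⊗[R0] C
  let f' : Spec (CommRingCat.of C') ⟶ Spec (CommRingCat.of R') := Spec.map (CommRingCat.ofHom (algebraMap R' C'))
  let x' : Spec (CommRingCat.of C') := (⟨q, hqmax.isPrime⟩ : PrimeSpectrum C')
  letI : Algebra C' ((Spec (CommRingCat.of C')).presheaf.stalk x') := StructureSheaf.stalkAlgebra C' x'
  haveI : IsLocalization.AtPrime ((Spec (CommRingCat.of C')).presheaf.stalk x') q :=
    StructureSheaf.IsLocalization.to_stalk C' x'
  obtain ⟨ha, hl, hS⟩ := hq ((Spec (CommRingCat.of C')).presheaf.stalk x')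
  exact ⟨_, f', (HasRingHomProperty.Spec_iff (P := @LocallyOfFiniteType)).2
    (RingHom.finiteType_algebraMap.2 inferInstance), inferInstance, x',
    (PrimeSpectrum.isClosed_singleton_iff_isMaximal _).2 hqmax, hqR, ha, hl, hS⟩

/-- A local Noetherian ring with principal maximal ideal generated by a non-nilpotent element. -/
theorem exists_isDomain_dvr {S : Type u} [CommRing S] [IsLocalRing S] [IsNoetherianRing S] (π : S)
    (hπ : maximalIdeal S = Ideal.span {π}) (hnil : ¬ IsNilpotent π) :
    ∃ _ : IsDomain S, IsDiscreteValuationRing S := by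
  have key : ∀ z : S, z ≠ 0 → ∃ (n : ℕ) (v : S), IsUnit v ∧ z = π ^ n * v := fun z hz => by
    obtain ⟨n, hn⟩ : ∃ n, z ∉ maximalIdeal S ^ n := by
      by_contra h
      push_neg at h
      refine hz (Ideal.mem_bot.1 ((Ideal.iInf_pow_eq_bot_of_isLocalRing (maximalIdeal S)
        (maximalIdeal.isMaximal S).ne_top).le (Ideal.mem_iInf.2 h)))
    induction n generalizing z with
    | zero => simp at hn
    | succ j ih =>
      by_cases hu : IsUnit z
      · exact ⟨0, z, hu, by rw [pow_zero, one_mul]⟩
      obtain ⟨w, rfl⟩ := Ideal.mem_span_singleton.1 (hπ.le ((mem_maximalIdeal z).2 hu))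
      obtain ⟨i, v, hv, rfl⟩ := ih w (fun h => hz (by rw [h, mul_zero])) fun h => hn <| by
        rw [pow_succ']
        exact Ideal.mul_mem_mul (hπ.ge (Ideal.mem_span_singleton_self π)) h
      exact ⟨i + 1, v, hv, by ring⟩
  haveI : NoZeroDivisors S := ⟨fun {a b} hab => by
    by_contra hh
    push_neg at hh
    obtain ⟨i, v, hv, rfl⟩ := key a hh.1
    obtain ⟨j, w, hw, rfl⟩ := key b hh.2
    refine hnil ⟨i + j, (IsUnit.mul_left_eq_zero (hv.mul hw)).1 ?_⟩
    rw [pow_add]
    linear_combination hab⟩
  haveI : IsDomain S := NoZeroDivisors.to_isDomain S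
  suffices hnf : ¬ IsField S by
    have h04 : IsDiscreteValuationRing S ↔ (maximalIdeal S).IsPrincipal :=
      (IsDiscreteValuationRing.TFAE S hnf).out 0 4
    exact ⟨inferInstance, h04.2 ⟨⟨π, hπ⟩⟩⟩
  intro hF
  rw [isField_iff_maximalIdeal_eq.1 hF, eq_comm, Ideal.span_singleton_eq_bot] at hπ
  exact hnil ⟨1, by rw [hπ, pow_one]⟩

end Groth.Agent.ArtinVanLib
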