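import Groth.Agent.Henselization.Basic
import Mathlib.RingTheory.Localization.AtPrime.Basic
import Mathlib.RingTheory.TensorProduct.Basic
import Mathlib.RingTheory.Algebraic.Integral

/-!
# A strict henselization is one at a closed point over a strictly henselian base
-/

set_option autoImplicit false
set_option backward.isDefEq.respectTransparency false
set_option backward.isDefEq.respectTransparency.types false
set_option linter.style.haveILetI false
set_option maxHeartbeats 1000000
set_option synthInstance.maxHeartbeats 200000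

universe u

open IsLocalRing
open scoped TensorProduct

noncomputable section

namespace Groth.Agent.ArtinVanLib

/-- Moving the base to the strict henselization of a localization of a subring turns a point with algebraic
residue extension into a closed point, with the same strict henselization. -/
theorem exists_maximal_strictHenselization {R0 C O A : Type u} [CommRing R0] [CommRing C] [Algebra R0 C]
    [CommRing O] [IsLocalRing O] [Algebra C O] (c : Ideal C) [c.IsPrime] [IsLocalization.AtPrime O c]
    [CommRing A] [IsLocalRing A] [Algebra O A] [IsLocalHom (algebraMap O A)] [Hensel.IsStrictHenselization O A]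
    (r0 : Ideal R0) [r0.IsPrime] (hr0 : c.comap (algebraMap R0 C) = r0)
    (halg : ∀ z : C, ∃ p : Polynomial R0, p.map (Ideal.Quotient.mk r0) ≠ 0 ∧ Polynomial.aeval z p ∈ c)
    (R' : Type u) [CommRing R'] [IsLocalRing R'] [Algebra (Localization.AtPrime r0) R']
    [IsLocalHom (algebraMap (Localization.AtPrime r0) R')] [Hensel.IsStrictHenselization (Localization.AtPrime r0) R']
    [Algebra R0 R'] [IsScalarTower R0 (Localization.AtPrime r0) R'] :
    ∃ (q : Ideal (R' ⊗[R0] C)) (_ : q.IsMaximal), q.comap (algebraMap R' (R' ⊗[R0] C)) = maximalIdeal R' ∧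
      ∀ (O' : Type u) [CommRing O'] [IsLocalRing O'] [Algebra (R' ⊗[R0] C) O'] [IsLocalization.AtPrime O' q],
        ∃ (_ : Algebra O' A) (_ : IsLocalHom (algebraMap O' A)), Hensel.IsStrictHenselization O' A := by
  classical
  let R1 := Localization.AtPrime r0
  haveI := Hensel.IsStrictHenselization.henselian (R := O) (S := A)
  letI : Algebra C A := ((algebraMap O A).comp (algebraMap C O)).toAlgebra
  haveI : IsScalarTower C O A := .of_algebraMap_eq' rfl
  letI : Algebra R0 A := ((algebraMap C A).comp (algebraMap R0 C)).toAlgebra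
  haveI : IsScalarTower R0 C A := .of_algebraMap_eq' rfl
  -- the local ring of the base maps to the local ring of the point
  let b : R0 →+* O := (algebraMap C O).comp (algebraMap R0 C)
  have hb : ∀ r : r0.primeCompl, IsUnit (b r) := fun r =>
    IsLocalization.map_units O (⟨algebraMap R0 C r, fun h => r.2 (hr0.le h)⟩ : c.primeCompl)
  let b1 : R1 →+* O := IsLocalization.lift hb
  have hb1 : ∀ r, b1 (algebraMap R0 R1 r) = algebraMap C O (algebraMap R0 C r) := IsLocalization.lift_eq hb
  haveI : IsLocalHom b1 := ⟨fun x hx => by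
    obtain ⟨⟨r, s⟩, e⟩ := IsLocalization.surj r0.primeCompl x
    have h1 : IsUnit (algebraMap C O (algebraMap R0 C r)) := by
      rw [← hb1, ← e, map_mul]
      exact hx.mul ((IsLocalization.map_units R1 s).map b1)
    have h2 : r ∉ r0 := fun hr => (IsLocalization.AtPrime.isUnit_to_map_iff O c _).1 h1 (hr0.ge hr)
    have h3 : IsUnit (x * algebraMap R0 R1 s) := by
      rw [e]
      exact IsLocalization.map_units R1 (⟨r, h2⟩ : r0.primeCompl)
    exact isUnit_of_mul_isUnit_left h3⟩
  let fA : R1 →+* A := (algebraMap O A).comp b1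
  haveI : IsLocalHom fA := RingHom.isLocalHom_comp _ _
  haveI hsA := Hensel.IsStrictHenselization.isSepClosure (R := O) (S := A)
  haveI hsR := Hensel.IsStrictHenselization.isSepClosure (R := R1) (S := R')
  haveI : IsSepClosed (ResidueField A) := hsA.sep_closed
  haveI : Algebra.IsSeparable (ResidueField R1) (ResidueField R') := hsR.separable
  letI : Algebra (ResidueField R1) (ResidueField A) := (ResidueField.map fA).toAlgebra
  let τ : ResidueField R' →ₐ[ResidueField R1] ResidueField A := IsSepClosed.lift
  obtain ⟨h, ⟨hh, hhr⟩, -⟩ := Hensel.IsStrictHenselization.universal (R := R1) (S := R') A fA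
    (τ : ResidueField R' →+* ResidueField A) (RingHom.ext fun x => τ.commutes x)
  have hhloc : ∀ x, x ∈ maximalIdeal R' ↔ h x ∈ maximalIdeal A := fun x => by
    rw [← residue_eq_zero_iff, ← residue_eq_zero_iff, hhr]
    exact (map_eq_zero_iff (τ : ResidueField R' →+* ResidueField A) (RingHom.injective _)).symm
  let hR : R' →ₐ[R0] A :=
    { h with
      commutes' := fun r => by
        show h (algebraMap R0 R' r) = algebraMap O A (algebraMap C O (algebraMap R0 C r))
        rw [IsScalarTower.algebraMap_apply R0 R1 R', ← hb1]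
        exact RingHom.congr_fun hh _ }
  let Φ : R' ⊗[R0] C →ₐ[R0] A :=
    Algebra.TensorProduct.lift hR (IsScalarTower.toAlgHom R0 C A) fun _ _ => Commute.all _ _
  have hΦ : ∀ x y, Φ (x ⊗ₜ y) = h x * algebraMap C A y := Algebra.TensorProduct.lift_tmul _ _ _
  let q : Ideal (R' ⊗[R0] C) := (maximalIdeal A).comap Φ
  have hqR : q.comap (algebraMap R' (R' ⊗[R0] C)) = maximalIdeal R' := Ideal.ext fun x => by
    show Φ (x ⊗ₜ 1) ∈ maximalIdeal A ↔ _
    rw [hΦ, map_one, mul_one, hhloc]
  have hqC : ∀ y : C, (1 : R') ⊗ₜ[R0] y ∈ q ↔ y ∈ c := fun y => by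
    show Φ (1 ⊗ₜ y) ∈ maximalIdeal A ↔ _
    rw [hΦ, map_one, one_mul]
    show algebraMap O A (algebraMap C O y) ∈ maximalIdeal A ↔ _
    rw [mem_maximalIdeal, mem_nonunits_iff, isUnit_map_iff, ← mem_nonunits_iff, ← mem_maximalIdeal]
    exact IsLocalization.AtPrime.to_map_mem_maximal_iff O c y
  haveI : q.IsPrime := Ideal.IsPrime.comap _
  -- the point is closed
  have hq : q.IsMaximal := by
    let P := (R' ⊗[R0] C) ⧸ q
    let F := ResidueField R'
    letI : Algebra F P := (Ideal.Quotient.lift (maximalIdeal R')
      ((Ideal.Quotient.mk q).comp (algebraMap R' (R' ⊗[R0] C))) fun x hx =>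
        Ideal.Quotient.eq_zero_iff_mem.2 (hqR.ge hx)).toAlgebra
    have hint : Algebra.IsIntegral F P := ⟨fun z => by
      obtain ⟨z, rfl⟩ := Ideal.Quotient.mk_surjective z
      induction z using TensorProduct.induction_on with
      | zero => rw [map_zero]; exact isIntegral_zero
      | add a b ha hb => rw [map_add]; exact ha.add hb
      | tmul x y =>
        rw [show (x ⊗ₜ[R0] y : R' ⊗[R0] C) = algebraMap R' _ x * ((1 : R') ⊗ₜ y) from by
          show x ⊗ₜ[R0] y = (x ⊗ₜ[R0] (1 : C)) * ((1 : R') ⊗ₜ[R0] y)
          rw [Algebra.TensorProduct.tmul_mul_tmul, mul_one, one_mul], map_mul]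
        refine IsIntegral.mul (isIntegral_algebraMap (x := residue R' x)) ?_
        obtain ⟨p, hp0, hp⟩ := halg y
        let j : R0 →+* F := (residue R').comp (algebraMap R0 R')
        refine (IsAlgebraic.isIntegral ⟨p.map j, fun h0 => hp0 (Polynomial.ext fun n => ?_), ?_⟩)
        · have h1 : j (p.coeff n) = 0 := by rw [← Polynomial.coeff_map, h0, Polynomial.coeff_zero]
          rw [Polynomial.coeff_map, Polynomial.coeff_zero, Ideal.Quotient.eq_zero_iff_mem]
          have h2 : algebraMap R1 R' (algebraMap R0 R1 (p.coeff n)) ∈ maximalIdeal R' := by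
            rw [← IsScalarTower.algebraMap_apply]
            exact (residue_eq_zero_iff _).1 h1
          rw [mem_maximalIdeal, mem_nonunits_iff, isUnit_map_iff, ← mem_nonunits_iff, ← mem_maximalIdeal] at h2
          exact (IsLocalization.AtPrime.to_map_mem_maximal_iff R1 r0 _).1 h2
        · have h1 : Ideal.Quotient.mk q ((1 : R') ⊗ₜ[R0] (Polynomial.aeval y p)) = 0 :=
            Ideal.Quotient.eq_zero_iff_mem.2 ((hqC _).2 hp)
          rw [show ((1 : R') ⊗ₜ[R0] (Polynomial.aeval y p) : R' ⊗[R0] C) =
            Polynomial.aeval ((1 : R') ⊗ₜ[R0] y) p from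
              (Polynomial.aeval_algHom_apply (Algebra.TensorProduct.includeRight : C →ₐ[R0] R' ⊗[R0] C) y p).symm,
            Polynomial.aeval_def, Polynomial.hom_eval₂] at h1
          refine Eq.trans ?_ h1
          rw [Polynomial.aeval_def, Polynomial.eval₂_map]
          rfl⟩
    exact Ideal.Quotient.maximal_of_isField q (isField_of_isIntegral_of_isField' (Field.toIsField F))
  refine ⟨q, hq, hqR, fun O' _ _ _ _ => ?_⟩
  have hu : ∀ x : q.primeCompl, IsUnit (Φ x) := fun x => notMem_maximalIdeal.1 x.2
  let a : O' →+* A := IsLocalization.lift (g := Φ.toRingHom) hu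
  have ha : ∀ x, a (algebraMap _ O' x) = Φ x := IsLocalization.lift_eq (g := Φ.toRingHom) hu
  letI : Algebra O' A := a.toAlgebra
  haveI hloc : IsLocalHom (algebraMap O' A) := ⟨fun x hx => by
    obtain ⟨⟨r, s⟩, e⟩ := IsLocalization.surj q.primeCompl x
    have h1 : IsUnit (Φ r) := by
      rw [← ha, ← e, map_mul]
      exact IsUnit.mul hx ((IsLocalization.map_units O' s).map a)
    have h2 : IsUnit (x * algebraMap _ O' (s : R' ⊗[R0] C)) := by
      rw [e]
      exact IsLocalization.map_units O' (⟨r, fun hr => (mem_maximalIdeal _).1 hr h1⟩ : q.primeCompl)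
    exact isUnit_of_mul_isUnit_left h2⟩
  -- the local ring of the original point
  let cO' : C →+* O' :=
    (algebraMap (R' ⊗[R0] C) O').comp (Algebra.TensorProduct.includeRight : C →ₐ[R0] R' ⊗[R0] C).toRingHom
  have hcu : ∀ y : c.primeCompl, IsUnit (cO' y) := fun y =>
    IsLocalization.map_units O' (⟨(1 : R') ⊗ₜ (y : C), fun h => y.2 ((hqC _).1 h)⟩ : q.primeCompl)
  let ι : O →+* O' := IsLocalization.lift hcu
  have hι : ∀ y, ι (algebraMap C O y) = algebraMap (R' ⊗[R0] C) O' (1 ⊗ₜ y) := IsLocalization.lift_eq hcu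
  have haι : a.comp ι = algebraMap O A := IsLocalization.ringHom_ext c.primeCompl (RingHom.ext fun y => by
    show a (ι (algebraMap C O y)) = algebraMap O A (algebraMap C O y)
    rw [hι, ha, hΦ, map_one, one_mul]
    rfl)
  haveI : IsLocalHom ι := ⟨fun x hx => by
    have h1 : IsUnit (algebraMap O A x) := by
      rw [← haι]
      exact hx.map a
    exact (isUnit_map_iff (algebraMap O A) x).1 h1⟩
  refine ⟨inferInstance, hloc, ⟨inferInstance, ?_, ?_⟩⟩
  · letI : Algebra (ResidueField O) (ResidueField O') := (ResidueField.map ι).toAlgebra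
    haveI : IsScalarTower (ResidueField O) (ResidueField O') (ResidueField A) := .of_algebraMap_eq fun x => by
      obtain ⟨x, rfl⟩ := residue_surjective x
      show residue A (algebraMap O A x) = residue A (a (ι x))
      rw [← haι]
      rfl
    haveI : Algebra.IsSeparable (ResidueField O) (ResidueField A) := hsA.separable
    exact ⟨inferInstance, Algebra.isSeparable_tower_top_of_isSeparable (ResidueField O) _ _⟩
  intro T _ _ f _ τ' hτ'
  haveI : IsLocalHom (f.comp ι) := RingHom.isLocalHom_comp _ _
  have hτO : τ'.comp (ResidueField.map (algebraMap O A)) = ResidueField.map (f.comp ι) := RingHom.ext fun x => by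
    obtain ⟨x, rfl⟩ := residue_surjective x
    show τ' (residue A (algebraMap O A x)) = residue T (f (ι x))
    rw [← haι]
    exact RingHom.congr_fun hτ' (residue O' (ι x))
  obtain ⟨g, ⟨hg, hgr⟩, hgu⟩ := Hensel.IsStrictHenselization.universal (R := O) (S := A) T (f.comp ι) τ' hτO
  -- both extensions agree on the base
  let fR : R1 →+* T := (f.comp ι).comp b1
  haveI : IsLocalHom fR := RingHom.isLocalHom_comp _ _
  let oR : R' →+* O' := (algebraMap (R' ⊗[R0] C) O').comp (algebraMap R' (R' ⊗[R0] C))
  have haR : ∀ x, a (oR x) = h x := fun x => by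
    show a (algebraMap (R' ⊗[R0] C) O' (x ⊗ₜ 1)) = h x
    rw [ha, hΦ, map_one, mul_one]
  have hb1' : ι.comp b1 = oR.comp (algebraMap R1 R') := IsLocalization.ringHom_ext r0.primeCompl (RingHom.ext fun r => by
    show ι (b1 (algebraMap R0 R1 r)) = oR (algebraMap R1 R' (algebraMap R0 R1 r))
    rw [hb1, hι, ← IsScalarTower.algebraMap_apply R0 R1 R']
    show algebraMap (R' ⊗[R0] C) O' _ = algebraMap (R' ⊗[R0] C) O' (algebraMap R0 R' r ⊗ₜ 1)
    congr 1
    rw [Algebra.algebraMap_eq_smul_one r, Algebra.algebraMap_eq_smul_one (A := R') r, TensorProduct.smul_tmul])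
  have hR' : g.comp h = f.comp oR := by
    let σ : ResidueField R' →+* ResidueField T := τ'.comp (τ : ResidueField R' →+* ResidueField A)
    have hσ : σ.comp (ResidueField.map (algebraMap R1 R')) = ResidueField.map fR := RingHom.ext fun x => by
      obtain ⟨x, rfl⟩ := residue_surjective x
      show τ' ((τ : ResidueField R' →+* ResidueField A) (residue R' (algebraMap R1 R' x))) = residue T (f (ι (b1 x)))
      rw [← hhr, show h (algebraMap R1 R' x) = fA x from RingHom.congr_fun hh x]
      exact RingHom.congr_fun hτO (residue O (b1 x))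
    refine (Hensel.IsStrictHenselization.universal (R := R1) (S := R') T fR σ hσ).unique ⟨?_, fun x => ?_⟩ ⟨?_, fun x => ?_⟩
    · refine RingHom.ext fun x => ?_
      show g (h (algebraMap R1 R' x)) = f (ι (b1 x))
      rw [show h (algebraMap R1 R' x) = fA x from RingHom.congr_fun hh x]
      exact RingHom.congr_fun hg (b1 x)
    · show residue T (g (h x)) = τ' (τ (residue R' x))
      rw [hgr, hhr]
      rfl
    · rw [RingHom.comp_assoc, ← hb1', ← RingHom.comp_assoc]
    · show residue T (f (oR x)) = τ' ((τ : ResidueField R' →+* ResidueField A) (residue R' x))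
      rw [← hhr, ← haR]
      exact (RingHom.congr_fun hτ' (residue O' (oR x))).symm
  have hga : g.comp a = f := IsLocalization.ringHom_ext q.primeCompl (RingHom.ext fun z => by
    show g (a (algebraMap _ O' z)) = f (algebraMap _ O' z)
    rw [ha]
    induction z using TensorProduct.induction_on with
    | zero => simp only [map_zero]
    | add x y hx hy => simp only [map_add, hx, hy]
    | tmul x y =>
      rw [hΦ, map_mul,
        show (x ⊗ₜ[R0] y : R' ⊗[R0] C) = algebraMap R' _ x * ((1 : R') ⊗ₜ y) from by
          show x ⊗ₜ[R0] y = (x ⊗ₜ[R0] (1 : C)) * ((1 : R') ⊗ₜ[R0] y)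
          rw [Algebra.TensorProduct.tmul_mul_tmul, mul_one, one_mul],
        map_mul, map_mul, ← hι]
      exact congrArg₂ (· * ·) (RingHom.congr_fun hR' x) (RingHom.congr_fun hg (algebraMap C O y)))
  exact ⟨g, ⟨hga, hgr⟩, fun g' ⟨hg', hgr'⟩ => hgu g' ⟨by
    rw [← haι, ← RingHom.comp_assoc]
    exact congrArg (RingHom.comp · ι) hg', hgr'⟩⟩

end Groth.Agent.ArtinVanLib
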