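import Groth.Agent.DimFormulaLib.FibrePoints
import Groth.Agent.DimFormulaLib.Component
import Groth.Agent.DimFormulaLib.Converse
import Groth.Agent.DimFormulaLib.Chart
import Groth.Agent.CAlgBasics.DimOne
import Mathlib.RingTheory.Jacobson.Ring

/-!
# Dimension of closures for schemes of finite type over a local ring
-/

set_option autoImplicit false
set_option backward.isDefEq.respectTransparency false
set_option backward.isDefEq.respectTransparency.types false
set_option linter.style.haveILetI false
set_option maxHeartbeats 1000000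
set_option synthInstance.maxHeartbeats 200000

universe u

open CategoryTheory AlgebraicGeometry IsLocalRing

noncomputable section

namespace Groth.Agent.ArtinVanLib

open DimFormulaLib

/-- A domain with a field of finite type over it has dimension at most one. -/
theorem ringKrullDim_le_one_of_finiteType_field {D L : Type u} [CommRing D] [IsDomain D] [IsNoetherianRing D]
    [Field L] [Algebra D L] [Algebra.FiniteType D L] (hinj : Function.Injective (algebraMap D L))
    (halg : Algebra.IsAlgebraic D L) : ringKrullDim D ≤ 1 := by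
  classical
  obtain ⟨s, hs⟩ := ‹Algebra.FiniteType D L›.out
  choose p hp0 hp using fun l : L => halg.isAlgebraic l
  refine CAlgBasics.ringKrullDim_le_one_of_forall_mem (∏ l ∈ s, (p l).leadingCoeff)
    (Finset.prod_ne_zero_iff.2 fun l _ => Polynomial.leadingCoeff_ne_zero.2 (hp0 l)) fun P hP hne => ?_
  by_contra hh
  have hu : ∀ a : P.primeCompl, IsUnit (algebraMap D L a) := fun a => isUnit_iff_ne_zero.2 fun h0 => a.2 (by
    rw [hinj (h0.trans (map_zero _).symm)]
    exact P.zero_mem)
  let D' := Localization.AtPrime P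
  letI : Algebra D' L := (IsLocalization.lift hu).toAlgebra
  haveI : IsScalarTower D D' L := .of_algebraMap_eq fun a => (IsLocalization.lift_eq hu a).symm
  haveI : Algebra.IsIntegral D' L := ⟨fun l => by
    have hl : l ∈ Algebra.adjoin D (s : Set L) := hs ▸ trivial
    induction hl using Algebra.adjoin_induction with
    | mem l hl =>
      have hc : (p l).leadingCoeff ∉ P := fun hc => hh (Ideal.mem_of_dvd P (Finset.dvd_prod_of_mem (fun l => (p l).leadingCoeff) hl) hc)
      obtain ⟨v, hv⟩ := IsLocalization.map_units D' (⟨_, hc⟩ : P.primeCompl)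
      have h1 : IsIntegral D' ((p l).leadingCoeff • l) :=
        (isIntegral_leadingCoeff_smul (p l) l (hp l)).tower_top
      have h2 : l = algebraMap D' L (↑v⁻¹ : D') * ((p l).leadingCoeff • l) := by
        rw [Algebra.smul_def, IsScalarTower.algebraMap_apply D D' L,
          show algebraMap D D' (p l).leadingCoeff = (v : D') from hv.symm, ← mul_assoc, ← map_mul, Units.inv_mul,
          map_one, one_mul]
      rw [h2]
      exact isIntegral_algebraMap.mul h1
    | algebraMap r => rw [IsScalarTower.algebraMap_apply D D' L]; exact isIntegral_algebraMap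
    | add a b _ _ ha hb => exact ha.add hb
    | mul a b _ _ ha hb => exact ha.mul hb⟩
  have hinj' : Function.Injective (algebraMap D' L) := by
    refine (IsLocalization.lift_injective_iff (g := algebraMap D L) hu).2 fun a b => ⟨fun e => ?_, fun e => ?_⟩
    · rw [IsLocalization.injective D' P.primeCompl_le_nonZeroDivisors e]
    · rw [hinj e]
  have hF : IsField D' := isField_of_isIntegral_of_isField hinj' (Field.toIsField L)
  refine hne ?_
  have h0 := IsLocalRing.isField_iff_maximalIdeal_eq.1 hF
  rw [← IsLocalization.AtPrime.under_maximalIdeal D' P, h0, Ideal.under_def, ← RingHom.ker_eq_comap_bot]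
  exact (RingHom.injective_iff_ker_eq_bot _).1 (IsLocalization.injective D' P.primeCompl_le_nonZeroDivisors)

theorem relHeight_eq_ringKrullDim {A : Type u} [CommRing A] [IsLocalRing A] (P : PrimeSpectrum A) :
    (relHeight P (closedPoint A) : WithBot ℕ∞) = ringKrullDim (A ⧸ P.asIdeal) := by
  haveI : IsLocalRing (A ⧸ P.asIdeal) := IsLocalRing.of_surjective' _ Ideal.Quotient.mk_surjective
  rw [relHeight, ← IsLocalRing.maximalIdeal_height_eq_ringKrullDim (R := A ⧸ P.asIdeal)]
  congr 2
  rcases Ideal.map_eq_top_or_isMaximal_of_surjective (Ideal.Quotient.mk P.asIdeal) Ideal.Quotient.mk_surjective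
    (maximalIdeal.isMaximal A) with h | h
  · exfalso
    have h1 := congrArg (Ideal.comap (Ideal.Quotient.mk P.asIdeal)) h
    rw [Ideal.comap_map_of_surjective' _ Ideal.Quotient.mk_surjective, Ideal.mk_ker, Ideal.comap_top,
      sup_eq_left.2 (le_maximalIdeal P.2.ne_top)] at h1
    exact (maximalIdeal.isMaximal A).ne_top h1
  · exact eq_maximalIdeal h

variable {A : Type u} [CommRing A] [IsNoetherianRing A] [IsLocalRing A] {X : Scheme.{u}}
  (f : X ⟶ Spec (CommRingCat.of A)) [LocallyOfFiniteType f]

/-- The affine chart over the whole base. -/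
theorem exists_baseChart (w : X) :
    ∃ (B : Type u) (_ : CommRing B) (_ : Algebra A B) (_ : Algebra.FiniteType A B) (j : Spec (.of B) ⟶ X)
      (_ : IsOpenImmersion j) (q : PrimeSpectrum B), j q = w ∧ j ≫ f = Spec.map (CommRingCat.ofHom (algebraMap A B)) := by
  obtain ⟨S, j, hj, ⟨q, hq⟩, -⟩ := Scheme.exists_affine_mem_range_and_range_subset
    (show w ∈ (⊤ : X.Opens) from trivial)
  haveI := hj
  obtain ⟨κ, hκ⟩ := Spec.map_surjective (j ≫ f)
  letI : Algebra A S := κ.hom.toAlgebra
  haveI : LocallyOfFiniteType (Spec.map κ) := by rw [hκ]; infer_instance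
  exact ⟨S, inferInstance, inferInstance, (HasRingHomProperty.Spec_iff (P := @LocallyOfFiniteType)).1 this, j, hj, q,
    hq, hκ.symm⟩

/-- The chains between a point and a closed point of its closure. -/
theorem exists_relHeight_closedPoint (hA : CAlg.IsUniversallyCatenary A) (x w : X) (hxw : x ⤳ w)
    (hw : IsClosed ({w} : Set X)) (a b : ℕ) (ha : ringKrullDim (A ⧸ (f x).asIdeal) = a)
    (hb : letI := (f.residueFieldMap x).hom.toAlgebra;
      Algebra.trdeg ((Spec (CommRingCat.of A)).residueField (f x)) (X.residueField x) = b) :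
    ∃ n : ℕ, (f w = closedPoint A → n = a + b) ∧ (f w ≠ closedPoint A → n + 1 = a + b) ∧
      (n : ℕ∞) ≤ Order.height x ∧
      ∀ s : LTSeries X, s.last = x → w ≤ s.head → s.length ≤ n := by
  obtain ⟨B, _, _, _, j, _, q, hq, hj⟩ := exists_baseChart f w
  haveI : IsNoetherianRing B := Algebra.FiniteType.isNoetherianRing A B
  obtain ⟨P, hP⟩ : ∃ P : PrimeSpectrum B, j P = x := hxw.mem_open j.isOpenEmbedding.isOpen_range ⟨q, hq⟩
  have hPq : P ≤ q := (PrimeSpectrum.le_iff_specializes P q).2
    (j.isOpenEmbedding.isInducing.specializes_iff.1 (by rw [hP, hq]; exact hxw))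
  have hf : ∀ z, f (j z) = PrimeSpectrum.comap (algebraMap A B) z := fun z => by
    rw [← Scheme.Hom.comp_apply, hj]
    rfl
  -- the transcendence degrees
  let cx : Chart f x := ⟨A, B, 𝟙 _, j, by rw [Category.comp_id, hj], P, hP⟩
  have ht : Algebra.trdeg (A ⧸ (PrimeSpectrum.comap (algebraMap A B) P).asIdeal) (B ⧸ P.asIdeal) = (b : ℕ) := by
    rw [← hb]
    exact cx.trdeg_residue.symm
  haveI hqm : q.asIdeal.IsMaximal := (PrimeSpectrum.isClosed_singleton_iff_isMaximal q).1 (by
    have h1 := hw.preimage j.continuous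
    rwa [← hq, ← Set.image_singleton, j.isOpenEmbedding.injective.preimage_image] at h1)
  let p' := PrimeSpectrum.comap (algebraMap A B) q
  haveI : q.asIdeal.LiesOver p'.asIdeal := ⟨rfl⟩
  let D := A ⧸ p'.asIdeal
  let L := B ⧸ q.asIdeal
  letI : Field L := Ideal.Quotient.field q.asIdeal
  haveI : Algebra.FiniteType D L := Algebra.FiniteType.of_restrictScalars_finiteType A _ _
  have hinj : Function.Injective (algebraMap D L) := Ideal.algebraMap_quotient_injective
  haveI : FaithfulSMul D L := (faithfulSMul_iff_algebraMap_injective _ _).2 hinj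
  letI : Algebra (FractionRing D) L := FractionRing.liftAlgebra D L
  haveI : Algebra.FiniteType (FractionRing D) L := Algebra.FiniteType.of_restrictScalars_finiteType D _ _
  haveI : Module.Finite (FractionRing D) L := finite_of_finite_type_of_isJacobsonRing (FractionRing D) L
  haveI halg : Algebra.IsAlgebraic D L :=
    (IsFractionRing.comap_isAlgebraic_iff (A := D) (K := FractionRing D) (C := L)).2 inferInstance
  obtain ⟨a₁, b₁, ha₁, hb₁, -, heq⟩ := formula_component hPq b 0 ht (by rw [Nat.cast_zero]; exact trdeg_eq_zero)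
  have h := heq (catAbove_of_isUniversallyCatenary hA _)
  -- the base
  have hA' : CAlg.IsCatenary A := hA.2 A inferInstance
  have hm : relHeight (PrimeSpectrum.comap (algebraMap A B) P) (closedPoint A) = (a : ℕ∞) := by
    have h1 := relHeight_eq_ringKrullDim (PrimeSpectrum.comap (algebraMap A B) P)
    rw [← hf P, hP] at h1 ⊢
    exact WithBot.coe_injective (h1.trans ha)
  refine ⟨a₁, fun he => ?_, fun hne => ?_, ?_, fun s hs hws => ?_⟩
  · rw [← hq, hf] at he
    rw [he] at hb₁
    have : b₁ = a := by exact_mod_cast hb₁.symm.trans hm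
    omega
  · rw [← hq, hf] at hne
    have hle : p' ≤ closedPoint A := le_maximalIdeal p'.2.ne_top
    obtain ⟨a₂, s, ha₂, sh, sl, sn, -⟩ := exists_saturated_between hle
    have h2 : a₂ ≠ 0 := fun h0 => hne (by
      show p' = _
      rw [← sh, ← sl]
      exact congrArg s.toFun (Fin.ext (by simp only [Fin.val_zero, Fin.val_last]; omega)))
    have h3 : a₂ ≤ 1 := by
      have h4 := ringKrullDim_le_one_of_finiteType_field hinj halg
      rw [← relHeight_eq_ringKrullDim p', ha₂] at h4
      exact_mod_cast h4
    have h5 := relHeight_add hA' (show PrimeSpectrum.comap (algebraMap A B) P ≤ p' from Ideal.comap_mono hPq) hle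
    rw [hm, hb₁, ha₂] at h5
    have h6 : a = b₁ + a₂ := by exact_mod_cast h5
    omega
  · obtain ⟨n, s, hn, sh, sl, sn, -⟩ := exists_saturated_between hPq
    obtain rfl : n = a₁ := by exact_mod_cast hn.symm.trans ha₁
    let φ : (PrimeSpectrum B)ᵒᵈ → X := fun z => j (OrderDual.ofDual z)
    have hφ : StrictMono φ := fun z z' hz => by
      refine lt_iff_le_not_ge.2 ⟨Scheme.le_iff_specializes.2
        (((PrimeSpectrum.le_iff_specializes _ _).1 hz.le).map j.continuous), fun h' => hz.not_ge ?_⟩
      exact (PrimeSpectrum.le_iff_specializes (OrderDual.ofDual z) (OrderDual.ofDual z')).2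
        (j.isOpenEmbedding.isInducing.specializes_iff.1 (Scheme.le_iff_specializes.1 h'))
    let sr : LTSeries (PrimeSpectrum B)ᵒᵈ := s.reverse
    refine le_trans (le_of_eq ?_) (Order.length_le_height (p := LTSeries.map sr φ hφ) (le_of_eq ?_))
    · exact congrArg Nat.cast sn.symm
    · rw [LTSeries.last_map, show RelSeries.last sr = s.head from RelSeries.last_reverse s, sh]
      exact hP
  · have hs' : ∀ i, s i ∈ Set.range j := fun i =>
      (Scheme.le_iff_specializes.1 (hws.trans (s.monotone (Fin.zero_le i)))).mem_open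
        j.isOpenEmbedding.isOpen_range ⟨q, hq⟩
    choose z hz using hs'
    obtain ⟨Φ, -, hr, hI⟩ := exists_quotEmb P
    have hzP : ∀ i, z i ∈ Set.range Φ := fun i => by
      rw [hr]
      refine (PrimeSpectrum.le_iff_specializes P (z i)).2 (j.isOpenEmbedding.isInducing.specializes_iff.1 ?_)
      rw [hP, hz, ← hs]
      exact Scheme.le_iff_specializes.1 (s.monotone (Fin.le_last i))
    choose v hv using hzP
    obtain ⟨vq, hvq⟩ : q ∈ Set.range Φ := hr ▸ hPq
    let t : LTSeries (PrimeSpectrum (B ⧸ P.asIdeal)) := LTSeries.mk s.length (fun i => v (Fin.rev i)) fun i i' hii => by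
      refine Φ.lt_iff_lt.1 ?_
      rw [hv, hv]
      have h1 : s (Fin.rev i') < s (Fin.rev i) := s.strictMono (Fin.rev_lt_rev.2 hii)
      rw [← hz, ← hz] at h1
      refine lt_iff_le_not_ge.2 ⟨(PrimeSpectrum.le_iff_specializes _ _).2
        (j.isOpenEmbedding.isInducing.specializes_iff.1 (Scheme.le_iff_specializes.1 h1.le)), fun h' => h1.not_ge ?_⟩
      exact Scheme.le_iff_specializes.2 (((PrimeSpectrum.le_iff_specializes _ _).1 h').map j.continuous)
    have hlast : t.last ≤ vq := by
      refine Φ.le_iff_le.1 ?_
      show Φ (v (Fin.rev (Fin.last s.length))) ≤ Φ vq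
      rw [hv, hvq, Fin.rev_last]
      refine (PrimeSpectrum.le_iff_specializes _ _).2 (j.isOpenEmbedding.isInducing.specializes_iff.1 ?_)
      rw [hz, hq]
      exact Scheme.le_iff_specializes.1 hws
    have hlen := Order.length_le_height (p := t) hlast
    rw [← PrimeSpectrum.height_eq_orderHeight, hI vq q hvq] at hlen
    have : (s.length : ℕ∞) ≤ (a₁ : ℕ∞) := hlen.trans (le_of_eq ha₁)
    exact_mod_cast this

end Groth.Agent.ArtinVanLib
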