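import Groth.Agent.ArtinVanLib.Curve
import Groth.Agent.AffCurveLib.Field
import Groth.Agent.GrSegreLib.Dim

/-!
# Vanishing for affine schemes of finite type over separably closed fields
-/

set_option autoImplicit false
set_option backward.isDefEq.respectTransparency false
set_option backward.isDefEq.respectTransparency.types false
set_option linter.style.haveILetI false
set_option maxHeartbeats 1000000

universe u

open CategoryTheory CategoryTheory.Limits AlgebraicGeometry Opposite IsLocalRing
open scoped Polynomial TensorProduct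

noncomputable section

namespace Groth.Agent.ArtinVanLib

open CdFieldLib

attribute [local instance] Groth.Agent.S0101.result

/-- The affine spaces give the general case. -/
theorem art_of_mvPolynomial {n : ℕ} (h : ∀ m ≤ n, ∀ (k : Type u) [Field k] [IsSepClosed k],
    CdLE Set.univ (Spec (CommRingCat.of (MvPolynomial (Fin m) k))) m) : Art.{u} n := by
  intro k _ _ X _ f _ hdim
  let A := Γ(X, ⊤)
  let f' := X.isoSpec.inv ≫ f
  obtain ⟨φ, hφ⟩ := Spec.map_surjective f'
  letI : Algebra k A := φ.hom.toAlgebra
  haveI : LocallyOfFiniteType (Spec.map φ) := by rw [hφ]; infer_instance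
  haveI : Algebra.FiniteType k A := (HasRingHomProperty.Spec_iff (P := @LocallyOfFiniteType)).1 this
  refine cdLE_of_iso X.isoSpec ?_
  rcases subsingleton_or_nontrivial A with hA | hA
  · haveI : IsEmpty ↥(Spec (CommRingCat.of A)) := inferInstanceAs (IsEmpty (PrimeSpectrum A))
    haveI : DiscreteTopology ↥(Spec (CommRingCat.of A)) := inferInstance
    exact cdLE_of_finite_discrete fun y => isEmptyElim y
  obtain ⟨s, g, hg, hfin⟩ := exists_finite_inj_algHom_of_fg k A
  have hd : ringKrullDim A ≤ n := by
    refine (PrimeSpectrum.topologicalKrullDim_eq_ringKrullDim A).symm.trans_le ?_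
    exact (IsHomeomorph.topologicalKrullDim_eq _ (Scheme.homeoOfIso X.isoSpec).isHomeomorph).symm.trans_le hdim
  rw [← GrSegreLib.ringKrullDim_eq_of_integral_injective g.toRingHom hg hfin.to_isIntegral,
    MvPolynomial.ringKrullDim_of_isNoetherianRing, ringKrullDim_eq_zero_of_field, zero_add] at hd
  have hs : s ≤ n := by simpa using hd
  haveI : IsIntegralHom (Spec.map (CommRingCat.ofHom g.toRingHom)) := IsIntegralHom.SpecMap_iff.2 hfin.to_isIntegral
  exact (cdLE_of_integral (Spec.map (CommRingCat.ofHom g.toRingHom)) (h s hs k)).mono hs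

/-- The stalks of the higher direct images along the projection of a line bundle over affine space. -/
theorem cdLE_pullback_line {m : ℕ} (hm : 1 ≤ m) (hA : ∀ j ≤ m, Art.{u} j) {k : Type u} [Field k] [IsSepClosed k]
    (x : Spec (CommRingCat.of (MvPolynomial (Fin m) k))) {t : ℕ} (ht : Order.height x = t) (R : Type u)
    [CommRing R] [IsLocalRing R] [Algebra ((Spec (CommRingCat.of (MvPolynomial (Fin m) k))).presheaf.stalk x) R]
    [IsLocalHom (algebraMap ((Spec (CommRingCat.of (MvPolynomial (Fin m) k))).presheaf.stalk x) R)]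
    [Hensel.IsStrictHenselization ((Spec (CommRingCat.of (MvPolynomial (Fin m) k))).presheaf.stalk x) R] :
    CdLE Set.univ (pullback (Spec.map (CommRingCat.ofHom (Polynomial.C : MvPolynomial (Fin m) k →+* (MvPolynomial (Fin m) k)[X])))
      (Hens2.specOf (Spec (CommRingCat.of (MvPolynomial (Fin m) k))) x R)) (m + 1 - t) := by
  let P := MvPolynomial (Fin m) k
  let Y := Spec (CommRingCat.of P)
  let O := Y.presheaf.stalk x
  letI : Algebra P O := StructureSheaf.stalkAlgebra P x
  haveI : IsLocalization.AtPrime O x.asIdeal := StructureSheaf.IsLocalization.to_stalk P x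
  letI : Algebra k O := ((algebraMap P O).comp (algebraMap k P)).toAlgebra
  haveI : IsScalarTower k P O := .of_algebraMap_eq' rfl
  letI : Algebra P R := ((algebraMap O R).comp (algebraMap P O)).toAlgebra
  haveI : IsScalarTower P O R := .of_algebraMap_eq' rfl
  letI : Algebra k R := ((algebraMap O R).comp (algebraMap k O)).toAlgebra
  haveI : IsScalarTower k O R := .of_algebraMap_eq' rfl
  haveI : HenselianLocalRing R := Hensel.IsStrictHenselization.henselian (R := O) (S := R)
  haveI : IsSepClosed (ResidueField R) := (Hensel.IsStrictHenselization.isSepClosure (R := O) (S := R)).sep_closed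
  have hR : DimLE k R m := ((dimLE_mvPolynomial m).localization (S := O) x.asIdeal.primeCompl).strictHenselization
  -- the pullback
  have hC : Spec.map (CommRingCat.ofHom (Polynomial.C : P →+* P[X])) = Spec.map (CommRingCat.ofHom (algebraMap P P[X])) := rfl
  have hspec : Hens2.specOf Y x R = Spec.map (CommRingCat.ofHom (algebraMap P R)) := by
    show Spec.map (CommRingCat.ofHom (algebraMap O R)) ≫ Y.fromSpecStalk x = _
    rw [Spec.fromSpecStalk_eq', ← Spec.map_comp]
    rfl
  let e : pullback (Spec.map (CommRingCat.ofHom (Polynomial.C : P →+* P[X]))) (Hens2.specOf Y x R) ≅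
      Spec (CommRingCat.of R[X]) :=
    pullback.congrHom hC hspec ≪≫ pullbackSymmetry _ _ ≪≫ pullbackSpecIso P R P[X] ≪≫
      Scheme.Spec.mapIso (polyEquivTensor P R).toRingEquiv.toCommRingCatIso.op
  refine cdLE_of_iso e ?_
  rcases Nat.eq_zero_or_pos t with rfl | ht0
  · exact cdLE_polynomial_strictlyHenselian hm (hA m le_rfl) hR
  -- a separably closed field of transcendence degree `t` in the strict henselization
  let f : Y ⟶ Spec (CommRingCat.of k) := Spec.map (CommRingCat.ofHom (algebraMap k P))
  haveI : LocallyOfFiniteType f := (HasRingHomProperty.Spec_iff (P := @LocallyOfFiniteType)).2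
    (RingHom.finiteType_algebraMap.2 inferInstance)
  obtain ⟨t', ht', htr⟩ := exists_height_trdeg f x
  obtain rfl : t' = t := by exact_mod_cast ht'.symm.trans ht
  have hres : (Y.residue x).hom.comp (algebraMap k O) = resHom f x := congrArg CommRingCat.Hom.hom
    (Spec.map_injective (show Spec.map (CommRingCat.ofHom (algebraMap k O) ≫ Y.residue x) =
        Spec.map (CommRingCat.ofHom (resHom f x)) by
      rw [specMap_resHom, Scheme.fromSpecResidueField, Category.assoc, Spec.fromSpecStalk_eq']
      simp only [f, ← Spec.map_comp, ← Category.assoc]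
      exact congrArg Spec.map (CommRingCat.hom_ext rfl)))
  letI := (resHom f x).toAlgebra
  obtain ⟨s, hs⟩ := exists_isTranscendenceBasis k (Y.residueField x)
  obtain ⟨es⟩ : Nonempty (Fin t' ≃ s) := by
    have e : Cardinal.mk s = (t' : ℕ) := hs.cardinalMk_eq_trdeg.trans htr
    haveI : Finite s := Cardinal.mk_lt_aleph0_iff.1 (e ▸ Cardinal.natCast_lt_aleph0)
    exact ⟨(Finite.equivFinOfCardEq (by rw [Nat.card, e, Cardinal.toNat_natCast])).symm⟩
  choose v hv using fun i : Fin t' => Y.residue_surjective x (es i : Y.residueField x)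
  let ρ : Y.residueField x →ₐ[k] ResidueField R :=
    { ResidueField.map (algebraMap O R) with
      commutes' := fun c => by
        show ResidueField.map (algebraMap O R) (resHom f x c) = _
        rw [← hres]
        exact ResidueField.map_residue (algebraMap O R) (algebraMap k O c) }
  obtain ⟨k', _, _, _, hT, hsep, hk'⟩ := exists_sepClosed_subfield (k := k) (R := R) (fun i => algebraMap O R (v i)) (by
    have h1 : (fun i => residue R (algebraMap O R (v i))) = ρ ∘ fun i => (es i : Y.residueField x) := funext fun i => by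
      show _ = ρ (es i)
      rw [← hv i]
      exact (ResidueField.map_residue (algebraMap O R) (v i)).symm
    rw [h1]
    exact (hs.1.comp es es.injective).map' ρ.injective)
  haveI := hT
  haveI := hsep
  have htm : (t' : ℕ∞) ≤ (m : ℕ∞) := by
    rw [← ht]
    refine height_le_of_topologicalKrullDim_le ((PrimeSpectrum.topologicalKrullDim_eq_ringKrullDim P).trans_le ?_) x
    rw [MvPolynomial.ringKrullDim_of_isNoetherianRing, ringKrullDim_eq_zero_of_field, zero_add]
    simp
  have htm' : t' ≤ m := by exact_mod_cast htm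
  exact (cdLE_of_dimLE (hA (m - t' + 1) (by omega))
    ((hR.of_subfield (k' := k') hk' (m := m - t') (by omega)).polynomial) (e := 0) (cdLE_zero_of_sepClosed _ k')).mono
    (by omega)

/-- Vanishing for affine spaces. -/
theorem cdLE_mvPolynomial : ∀ (d : ℕ) (k : Type u) [Field k] [IsSepClosed k],
    CdLE Set.univ (Spec (CommRingCat.of (MvPolynomial (Fin d) k))) d := fun d => by
  induction d using Nat.strong_induction_on with
  | _ d ih =>
  intro k _ _
  rcases d with _ | _ | m
  · exact cdLE_of_iso (Scheme.Spec.mapIso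
      (MvPolynomial.isEmptyAlgEquiv k (Fin 0)).toRingEquiv.toCommRingCatIso.symm.op) (cdLE_zero_of_sepClosed _ k)
  · let f : Spec (CommRingCat.of (MvPolynomial (Fin 1) k)) ⟶ Spec (CommRingCat.of k) :=
      Spec.map (CommRingCat.ofHom (algebraMap k (MvPolynomial (Fin 1) k)))
    haveI : LocallyOfFiniteType f := (HasRingHomProperty.Spec_iff (P := @LocallyOfFiniteType)).2
      (RingHom.finiteType_algebraMap.2 inferInstance)
    refine cdLE_univ_iff.2 (AffCurveLib.cohDimLE_one_sepClosed f ?_)
    refine (PrimeSpectrum.topologicalKrullDim_eq_ringKrullDim _).trans_le ?_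
    rw [MvPolynomial.ringKrullDim_of_isNoetherianRing, ringKrullDim_eq_zero_of_field]
    norm_num
  -- the projection to one fewer variable
  have hA : ∀ j ≤ m + 1, Art.{u} j := fun j hj => art_of_mvPolynomial fun i hi k' _ _ => ih i (by omega) k'
  let P := MvPolynomial (Fin (m + 1)) k
  let Y := Spec (CommRingCat.of P)
  let π : Spec (CommRingCat.of P[X]) ⟶ Y := Spec.map (CommRingCat.ofHom Polynomial.C)
  refine cdLE_of_iso (Scheme.Spec.mapIso
    (MvPolynomial.finSuccEquiv k (m + 1)).toRingEquiv.toCommRingCatIso.symm.op) ?_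
  show CdLE Set.univ (Spec (CommRingCat.of P[X])) (m + 2)
  intro F hF n hn
  let f : Y ⟶ Spec (CommRingCat.of k) := Spec.map (CommRingCat.ofHom (algebraMap k P))
  haveI : LocallyOfFiniteType f := (HasRingHomProperty.Spec_iff (P := @LocallyOfFiniteType)).2
    (RingHom.finiteType_algebraMap.2 inferInstance)
  haveI : IsNoetherian Y := inferInstanceAs (IsNoetherian (Spec (CommRingCat.of P)))
  haveI : PreservesFiniteLimits (EtCoh.pull π) := Groth.Agent.S0101.result _
  have hY : topologicalKrullDim Y ≤ (m + 1 : ℕ) := by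
    refine (PrimeSpectrum.topologicalKrullDim_eq_ringKrullDim _).trans_le ?_
    rw [MvPolynomial.ringKrullDim_of_isNoetherianRing, ringKrullDim_eq_zero_of_field, zero_add]
    simp
  refine subsingleton_H_of_leray π n F fun p q hpq => ?_
  have hG := Groth.Agent.S8560.result π Set.univ F hF q
  rcases Nat.lt_or_ge q 2 with hq | hq
  · exact hA (m + 1) le_rfl k Y f hY _ hG p (by omega)
  -- the stalks
  have hst : ∀ (Ω : Type u) [Field Ω] [IsSepClosed Ω] (ξ : Spec (CommRingCat.of Ω) ⟶ Y) (t : ℕ),
      Order.height (ξ default) = t → m + 2 - t < q → IsZero ((EtCoh.stalk ξ).obj ((EtCoh.Rpush π q).obj F)) :=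
    fun Ω _ _ ξ t ht hlt => isZero_stalk_Rpush π (ξ default) (c := m + 2 - t)
      (fun R _ _ _ _ _ => cdLE_pullback_line (Nat.le_add_left 1 m) hA (ξ default) ht R) F hF q hlt ξ rfl
  rcases Nat.lt_or_ge (m + 2) q with hq' | hq'
  · have hz : IsZero ((EtCoh.Rpush π q).obj F) := (EtPtsLib.isZero_iff_ab _).2 fun Ω _ _ ξ => by
      obtain ⟨t, ht, -⟩ := exists_height_trdeg f (ξ default)
      exact hst Ω ξ t ht (by omega)
    exact subsingleton_of_forall_eq 0 fun y => by
      rw [← Abelian.Ext.comp_mk₀_id y, hz.eq_of_src (𝟙 _) 0, Abelian.Ext.mk₀_zero, Abelian.Ext.comp_zero]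
  refine subsingleton_H_of_supp_stable {y : Y | Order.height y < ((m + 2 - q + 1 : ℕ) : ℕ∞)}
    (stable_height_lt _) (c := m + 2 - q) (fun Z i _ hi => ?_) _ hG ?_ p (by omega)
  · haveI : IsAffine Z := isAffine_of_isAffineHom i
    refine hA (m + 2 - q) (by omega) k Z (i ≫ f) (topologicalKrullDim_le_of_height_le fun z => ?_)
    have h1 : Order.height z < ((m + 2 - q + 1 : ℕ) : ℕ∞) := height_lt_of_range i (hi ⟨z, rfl⟩)
    rw [Nat.cast_succ] at h1
    exact ENat.lt_add_one_iff (ENat.coe_ne_top _) |>.1 h1
  · rintro y ⟨Ω, _, _, ξ, hξ, hne⟩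
    have hy : ξ default = y := by
      have := Set.mem_range_self (f := ξ) default
      rw [hξ] at this
      exact this
    obtain ⟨t, ht, -⟩ := exists_height_trdeg f (ξ default)
    show Order.height y < ((m + 2 - q + 1 : ℕ) : ℕ∞)
    rw [← hy, ht]
    refine Nat.cast_lt.2 ?_
    by_contra hlt
    exact hne (hst Ω ξ t ht (by omega))

/-- Affine schemes of finite type over separably closed fields have cohomological dimension at most their
dimension. -/
theorem art (n : ℕ) : Art.{u} n := art_of_mvPolynomial fun m _ k _ _ => cdLE_mvPolynomial m k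

end Groth.Agent.ArtinVanLib
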