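import Groth.Agent.ArtinVanLib.Affine
import Groth.Agent.DimFormulaLib.LocalDim

/-!
# The dimension of geometric nearby fibres
-/

set_option autoImplicit false
set_option backward.isDefEq.respectTransparency false
set_option backward.isDefEq.respectTransparency.types false
set_option linter.style.haveILetI false
set_option maxHeartbeats 1000000
set_option synthInstance.maxHeartbeats 200000

universe u

open IsLocalRing
open scoped TensorProduct

noncomputable section

namespace Groth.Agent.ArtinVanLib

open CdFieldLib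

/-- A finitely generated algebra of Krull dimension at most `n`. -/
theorem dimLE_of_ringKrullDim_le {k S : Type u} [Field k] [CommRing S] [Algebra k S] [Algebra.FiniteType k S] {n : ℕ}
    (h : ringKrullDim S ≤ n) : DimLE k S n := fun Q hQ => by
  haveI := hQ
  obtain ⟨t, ht⟩ := DimFormulaLib.exists_nat_trdeg_quotient k S Q
  rw [ht]
  have h1 := (DimFormulaLib.ringKrullDim_eq_trdeg k t ht).symm.le.trans ((ringKrullDim_quotient_le Q).trans h)
  exact_mod_cast h1

/-- Algebraic extensions of the base field. -/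
theorem dimLE_baseChange_algebraic {V K k C : Type u} [CommRing V] [Field K] [Field k] [Algebra V K] [Algebra V k]
    [Algebra K k] [IsScalarTower V K k] [Algebra.IsAlgebraic K k] [CommRing C] [Algebra V C] {n : ℕ}
    (h : DimLE K (K ⊗[V] C) n) : DimLE k (k ⊗[V] C) n := by
  let φ : K ⊗[V] C →ₐ[K] k ⊗[V] C := Algebra.TensorProduct.map (Algebra.ofId K k) (AlgHom.id V C)
  letI : Algebra (K ⊗[V] C) (k ⊗[V] C) := φ.toRingHom.toAlgebra
  haveI : IsScalarTower K (K ⊗[V] C) (k ⊗[V] C) := .of_algebraMap_eq fun x => (φ.commutes x).symm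
  have hK : DimLE K (k ⊗[V] C) n := h.of_isAlgebraic fun Q _ z => by
    let b := Q.comap (algebraMap (K ⊗[V] C) (k ⊗[V] C))
    haveI : b.IsPrime := Ideal.IsPrime.comap _
    haveI : IsScalarTower K ((K ⊗[V] C) ⧸ b) ((k ⊗[V] C) ⧸ Q) :=
      IsScalarTower.of_algebraMap_eq (R := K) (S := (K ⊗[V] C) ⧸ b) (A := (k ⊗[V] C) ⧸ Q) fun x => by
      show Ideal.Quotient.mk Q (algebraMap K (k ⊗[V] C) x) = Ideal.Quotient.mk Q (φ (algebraMap K _ x))
      rw [φ.commutes]
    induction z using TensorProduct.induction_on with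
    | zero => rw [map_zero]; exact isAlgebraic_zero
    | add a b ha hb => rw [map_add]; exact ha.add hb
    | tmul x y =>
      rw [show (x ⊗ₜ[V] y : k ⊗[V] C) = algebraMap k (k ⊗[V] C) x * φ ((1 : K) ⊗ₜ y) from by
        show x ⊗ₜ[V] y = (x ⊗ₜ[V] (1 : C)) * (algebraMap K k (1 : K) ⊗ₜ[V] y)
        rw [Algebra.TensorProduct.tmul_mul_tmul, map_one, mul_one, one_mul], map_mul]
      refine IsAlgebraic.mul ?_ ?_
      · have h1 : IsAlgebraic K (Ideal.Quotient.mk Q (algebraMap k (k ⊗[V] C) x)) :=
          (Algebra.IsAlgebraic.isAlgebraic (R := K) x).algHom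
            (((Ideal.Quotient.mkₐ k Q).comp (Algebra.ofId k (k ⊗[V] C))).restrictScalars K)
        haveI : FaithfulSMul K ((K ⊗[V] C) ⧸ b) :=
          (faithfulSMul_iff_algebraMap_injective _ _).2 (RingHom.injective _)
        exact h1.extendScalars (RingHom.injective _)
      · exact isAlgebraic_algebraMap (R := (K ⊗[V] C) ⧸ b) (Ideal.Quotient.mk b ((1 : K) ⊗ₜ y))
  exact hK.of_subfield (δ := 0) (trdeg_eq_zero (R := K) (A := k)) (by omega)

/-- Strict henselization of a local ring of the chart. -/
theorem dimLE_tensor_strictHenselization {V k C O R : Type u} [CommRing V] [Field k] [Algebra V k] [CommRing C]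
    [Algebra V C] [CommRing O] [IsLocalRing O] [Algebra C O] (c : Ideal C) [c.IsPrime] [IsLocalization.AtPrime O c]
    [CommRing R] [IsLocalRing R] [Algebra O R] [IsLocalHom (algebraMap O R)] [Hensel.IsStrictHenselization O R]
    [Algebra C R] [IsScalarTower C O R] [Algebra V R] [IsScalarTower V C R] {n : ℕ}
    (h : DimLE k (k ⊗[V] C) n) : DimLE k (k ⊗[V] R) n := by
  let φ : k ⊗[V] C →ₐ[k] k ⊗[V] R := Algebra.TensorProduct.map (AlgHom.id k k) (IsScalarTower.toAlgHom V C R)
  letI : Algebra (k ⊗[V] C) (k ⊗[V] R) := φ.toRingHom.toAlgebra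
  haveI : IsScalarTower k (k ⊗[V] C) (k ⊗[V] R) := .of_algebraMap_eq fun x => (φ.commutes x).symm
  refine h.of_isAlgebraic fun Q _ z => ?_
  let b := Q.comap (algebraMap (k ⊗[V] C) (k ⊗[V] R))
  haveI : b.IsPrime := Ideal.IsPrime.comap _
  let S := (k ⊗[V] C) ⧸ b
  let E := (k ⊗[V] R) ⧸ Q
  let L := FractionRing E
  haveI : FaithfulSMul S E := (faithfulSMul_iff_algebraMap_injective _ _).2 Ideal.algebraMap_quotient_injective
  haveI : IsDomain E := Ideal.Quotient.isDomain Q
  haveI : FaithfulSMul E L := (faithfulSMul_iff_algebraMap_injective _ _).2 (IsFractionRing.injective E L)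
  haveI : FaithfulSMul S L := FaithfulSMul.trans S E L
  letI : Algebra (FractionRing S) L := FractionRing.liftAlgebra S L
  let g : k ⊗[V] R →+* L := (algebraMap E L).comp (Ideal.Quotient.mk Q)
  let ψ : C →+* FractionRing S := (algebraMap S (FractionRing S)).comp ((Ideal.Quotient.mk b).comp
    (Algebra.TensorProduct.includeRight : C →ₐ[V] k ⊗[V] C).toRingHom)
  let r : R →+* L := g.comp (Algebra.TensorProduct.includeRight : R →ₐ[V] k ⊗[V] R).toRingHom
  have hψ : ∀ y : C, algebraMap (FractionRing S) L (ψ y) = r (algebraMap C R y) := fun y => by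
    show algebraMap (FractionRing S) L (algebraMap S (FractionRing S) (Ideal.Quotient.mk b ((1 : k) ⊗ₜ y))) = _
    rw [← IsScalarTower.algebraMap_apply]
    rfl
  have hunit : ∀ y : c.primeCompl, IsUnit (ψ y) := fun y => by
    refine isUnit_iff_ne_zero.2 fun h0 => ?_
    have h2 : IsUnit (algebraMap C R y) := by
      rw [IsScalarTower.algebraMap_apply C O R]
      exact (IsLocalization.map_units O y).map _
    exact (h2.map r).ne_zero (by rw [← hψ, h0, map_zero])
  letI : Algebra O (FractionRing S) := (IsLocalization.lift hunit).toAlgebra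
  letI : Algebra O L := ((algebraMap (FractionRing S) L).comp (algebraMap O (FractionRing S))).toAlgebra
  haveI : IsScalarTower O (FractionRing S) L := .of_algebraMap_eq' rfl
  let rO : R →ₐ[O] L :=
    { r with
      commutes' := RingHom.congr_fun (IsLocalization.ringHom_ext c.primeCompl
        (j := r.comp (algebraMap O R)) (k := algebraMap O L) (RingHom.ext fun y => by
          show r (algebraMap O R (algebraMap C O y)) = algebraMap (FractionRing S) L (IsLocalization.lift hunit (algebraMap C O y))
          rw [← IsScalarTower.algebraMap_apply, IsLocalization.lift_eq, hψ])) }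
  have halg : ∀ w : k ⊗[V] R, IsAlgebraic (FractionRing S) (g w) := fun w => by
    induction w using TensorProduct.induction_on with
    | zero => rw [map_zero]; exact isAlgebraic_zero
    | add a b ha hb => rw [map_add]; exact ha.add hb
    | tmul x y =>
      rw [show (x ⊗ₜ[V] y : k ⊗[V] R) = φ (x ⊗ₜ 1) * ((1 : k) ⊗ₜ y) from by
        show x ⊗ₜ[V] y = (x ⊗ₜ[V] algebraMap C R 1) * ((1 : k) ⊗ₜ[V] y)
        rw [Algebra.TensorProduct.tmul_mul_tmul, map_one, mul_one, one_mul], map_mul]
      refine IsAlgebraic.mul ?_ (isAlgebraic_of_strictHenselization rO y)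
      show IsAlgebraic (FractionRing S) (algebraMap S L (Ideal.Quotient.mk b (x ⊗ₜ 1)))
      rw [IsScalarTower.algebraMap_apply S (FractionRing S) L]
      exact isAlgebraic_algebraMap _
  refine (isAlgebraic_algebraMap_iff (R := S) (IsFractionRing.injective E L)).1 ?_
  exact (IsFractionRing.isAlgebraic_iff S (FractionRing S) L).2 (halg z)

end Groth.Agent.ArtinVanLib
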