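import Groth.Agent.ArtinVanLib.Main
import Groth.Agent.ArtinVanLib.Formula
import Groth.Agent.DimFormulaLib.Misc
import Groth.Agent.FLCLib.Ops
import Groth.Agent.S0642
import Groth.Prelude.Def_PBC

/-!
# Vanishing for torsion sheaves with small support on affine schemes
-/

set_option autoImplicit false
set_option backward.isDefEq.respectTransparency false
set_option backward.isDefEq.respectTransparency.types false
set_option linter.style.haveILetI false
set_option maxHeartbeats 1000000

universe u

open CategoryTheory CategoryTheory.Limits AlgebraicGeometry Opposite IsLocalRing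

noncomputable section

namespace Groth.Agent.ArtinVanLib

open CdFieldLib

attribute [local instance] Groth.Agent.S0101.result

/-- Torsion sheaves supported at primes of bounded transcendence degree. -/
theorem subsingleton_H_of_supp_trdeg {k A : Type u} [Field k] [CommRing A] [Algebra k A] [IsNoetherianRing A] {e : ℕ}
    (hk : CdLE Set.univ (Spec (CommRingCat.of k)) e) {d : ℕ} (F : EtCoh.Ab (Spec (CommRingCat.of A)))
    (hF : EtAcyc.IsLTorsion Set.univ F) (hs : ∀ p ∈ EtPBC.supp F, Algebra.trdeg k (A ⧸ p.asIdeal) ≤ (d : ℕ)) (q : ℕ)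
    (hq : d + e < q) : Subsingleton (EtCoh.H (Spec (CommRingCat.of A)) F q) := by
  haveI : AlgebraicGeometry.IsNoetherian (Spec (CommRingCat.of A)) := inferInstance
  refine subsingleton_H_of_supp_stable {p : Spec (CommRingCat.of A) | Algebra.trdeg k (A ⧸ p.asIdeal) ≤ (d : ℕ)}
    (fun p p' hsp hp => ?_) (fun Z i _ hi => ?_) F hF hs q hq
  · have hle : p.asIdeal ≤ p'.asIdeal := (PrimeSpectrum.le_iff_specializes p p').2 hsp
    exact (trdeg_le_of_surjective (Ideal.Quotient.factorₐ k hle) (Ideal.Quotient.factor_surjective hle)).trans hp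
  haveI : IsAffine Z := isAffine_of_isAffineHom i
  let B := Γ(Z, ⊤)
  obtain ⟨ψ, hψ⟩ := Spec.map_surjective (Z.isoSpec.inv ≫ i)
  letI : Algebra A B := ψ.hom.toAlgebra
  letI : Algebra k B := (ψ.hom.comp (algebraMap k A)).toAlgebra
  haveI : IsScalarTower k A B := .of_algebraMap_eq' rfl
  haveI : IsClosedImmersion (Spec.map ψ) := by rw [hψ]; infer_instance
  have hsurj : Function.Surjective ψ.hom := by
    obtain ⟨-, h⟩ := IsClosedImmersion.isAffine_surjective_of_isAffine (Spec.map ψ)
    intro y
    obtain ⟨x, hx⟩ := h ((Scheme.ΓSpecIso _).inv y)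
    refine ⟨(Scheme.ΓSpecIso _).hom x, ?_⟩
    refine (ConcreteCategory.congr_hom (Scheme.ΓSpecIso_naturality ψ) x).symm.trans ?_
    show (Scheme.ΓSpecIso _).hom ((Spec.map ψ).appTop x) = y
    rw [hx, Iso.inv_hom_id_apply]
  have hB : DimLE k B d := fun Q hQ => by
    let P : Spec (CommRingCat.of A) := Spec.map ψ (⟨Q, hQ⟩ : PrimeSpectrum B)
    have hP : P ∈ {p : Spec (CommRingCat.of A) | Algebra.trdeg k (A ⧸ p.asIdeal) ≤ (d : ℕ)} := hi (by
      rw [show P = (Z.isoSpec.inv ≫ i) (⟨Q, hQ⟩ : PrimeSpectrum B) from by rw [← hψ]]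
      exact ⟨_, (Scheme.Hom.comp_apply _ _ _).symm⟩)
    refine le_trans (trdeg_le_of_surjective (Ideal.quotientMapₐ Q (IsScalarTower.toAlgHom k A B) le_rfl) ?_) hP
    intro x
    obtain ⟨x, rfl⟩ := Ideal.Quotient.mk_surjective x
    obtain ⟨y, rfl⟩ := hsurj x
    exact ⟨Ideal.Quotient.mk _ y, rfl⟩
  exact cdLE_of_iso Z.isoSpec (cdLE_of_dimLE (art d) hB hk)

/-- The same on a scheme isomorphic to the spectrum. -/
theorem subsingleton_H_of_iso_spec {k A : Type u} [Field k] [CommRing A] [Algebra k A] [IsNoetherianRing A] {e : ℕ}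
    (hk : CdLE Set.univ (Spec (CommRingCat.of k)) e) {d : ℕ} {X : Scheme.{u}}
    (g : Spec (CommRingCat.of A) ⟶ X) [IsIso g] (F : EtCoh.Ab X) (hF : EtAcyc.IsLTorsion Set.univ F)
    (hs : ∀ p : Spec (CommRingCat.of A), g p ∈ EtPBC.supp F → Algebra.trdeg k (A ⧸ p.asIdeal) ≤ (d : ℕ)) (q : ℕ)
    (hq : d + e < q) : Subsingleton (EtCoh.H X F q) := by
  haveI : PreservesFiniteLimits (EtCoh.pull g) := Groth.Agent.S0101.result g
  haveI := subsingleton_H_of_supp_trdeg hk ((EtCoh.pull g).obj F) (AcycCompLib.isLTorsion_pull g hF)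
    (fun p hp => hs p ((FLCLib.supp_pull g F).le hp)) q hq
  exact (Groth.Agent.S0642.result g F q).1.subsingleton

/-- The evaluation at a point of an affine open bounds the quotient domain. -/
theorem trdeg_quotient_le_resTrdeg {k B : Type u} [Field k] [CommRing B] [Algebra k B] {X : Scheme.{u}}
    (f : X ⟶ Spec (CommRingCat.of k)) (v : Spec (CommRingCat.of B) ⟶ X) [IsOpenImmersion v]
    (hv : v ≫ f = Spec.map (CommRingCat.ofHom (algebraMap k B))) (q : Spec (CommRingCat.of B)) {a : ℕ}
    (h : EtPBC.ResTrdegLE f (v q) a) : Algebra.trdeg k (B ⧸ q.asIdeal) ≤ (a : ℕ) := by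
  obtain ⟨φ, hφ, hle⟩ := h
  letI := φ.toAlgebra
  have hr : Set.range (X.fromSpecResidueField (v q)) ⊆ Set.range v := by
    rw [Scheme.range_fromSpecResidueField]
    exact Set.singleton_subset_iff.2 ⟨q, rfl⟩
  obtain ⟨ev, hev⟩ := Spec.map_surjective (IsOpenImmersion.lift v (X.fromSpecResidueField (v q)) hr)
  have hcomp : Spec.map ev ≫ v = X.fromSpecResidueField (v q) := by rw [hev, IsOpenImmersion.lift_fac]
  have hk : ev.hom.comp (algebraMap k B) = φ := congrArg CommRingCat.Hom.hom
    (Spec.map_injective (show Spec.map (CommRingCat.ofHom (algebraMap k B) ≫ ev) = Spec.map (CommRingCat.ofHom φ) by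
      rw [Spec.map_comp, hφ, ← hv, ← Category.assoc, hcomp]))
  have hker : RingHom.ker ev.hom = q.asIdeal := by
    have h1 : Spec.map ev (closedPoint (X.residueField (v q))) = q := by
      apply v.isOpenEmbedding.injective
      rw [← Scheme.Hom.comp_apply, hcomp, Scheme.fromSpecResidueField_apply]
    have h2 := congrArg PrimeSpectrum.asIdeal h1
    refine Eq.trans ?_ h2
    show RingHom.ker ev.hom = (maximalIdeal (X.residueField (v q) : Type u)).comap ev.hom
    rw [IsLocalRing.isField_iff_maximalIdeal_eq.1 (Field.toIsField _), ← RingHom.ker_eq_comap_bot]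
  refine le_trans (trdeg_le_of_injective (A' := (X.residueField (v q) : Type u))
    ({ Ideal.Quotient.lift q.asIdeal ev.hom (fun x hx => RingHom.mem_ker.1 (hker.ge hx)) with
      commutes' := fun c => RingHom.congr_fun hk c } : B ⧸ q.asIdeal →ₐ[k] X.residueField (v q)) ?_) hle
  show Function.Injective (Ideal.Quotient.lift q.asIdeal ev.hom _)
  refine (injective_iff_map_eq_zero _).2 fun x hx => ?_
  obtain ⟨x, rfl⟩ := Ideal.Quotient.mk_surjective x
  exact Ideal.Quotient.eq_zero_iff_mem.2 (hker.le (RingHom.mem_ker.2 hx))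

/-- Points with small closure have residue fields of small transcendence degree. -/
theorem resTrdegLE_of_closure {k : Type u} [Field k] {X : Scheme.{u}} (f : X ⟶ Spec (CommRingCat.of k))
    [LocallyOfFiniteType f] (x : X) {d : ℕ} (h : topologicalKrullDim (closure ({x} : Set X)) ≤ d) :
    EtPBC.ResTrdegLE f x d := by
  obtain ⟨t, ht, htr⟩ := exists_height_trdeg f x
  rw [DimFormulaLib.topologicalKrullDim_closure_singleton, ht] at h
  refine ⟨resHom f x, specMap_resHom f x, htr.le.trans ?_⟩
  have h1 : t ≤ d := by exact_mod_cast h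
  exact_mod_cast h1

/-- A separably closed field in a strict henselization, as large as the residue field. -/
theorem exists_sepClosed_subfield_residue {k O R : Type u} [Field k] [CommRing O] [IsLocalRing O] [Algebra k O]
    [CommRing R] [IsLocalRing R] [Algebra k R] [Algebra O R] [IsScalarTower k O R] [IsLocalHom (algebraMap O R)]
    [Hensel.IsStrictHenselization O R] {δ : ℕ} (hδ : Algebra.trdeg k (ResidueField O) = δ) :
    ∃ (k' : Type u) (_ : Field k') (_ : Algebra k k') (_ : Algebra k' R),
      IsScalarTower k k' R ∧ IsSepClosed k' ∧ Algebra.trdeg k k' = δ := by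
  haveI : HenselianLocalRing R := Hensel.IsStrictHenselization.henselian (R := O) (S := R)
  haveI : IsSepClosed (ResidueField R) := (Hensel.IsStrictHenselization.isSepClosure (R := O) (S := R)).sep_closed
  obtain ⟨s, hs⟩ := exists_isTranscendenceBasis k (ResidueField O)
  obtain ⟨es⟩ : Nonempty (Fin δ ≃ s) := by
    have e : Cardinal.mk s = (δ : ℕ) := hs.cardinalMk_eq_trdeg.trans hδ
    haveI : Finite s := Cardinal.mk_lt_aleph0_iff.1 (e ▸ Cardinal.natCast_lt_aleph0)
    exact ⟨(Finite.equivFinOfCardEq (by rw [Nat.card, e, Cardinal.toNat_natCast])).symm⟩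
  choose v hv using fun i : Fin δ => residue_surjective (R := O) (es i : ResidueField O)
  let ρ : ResidueField O →ₐ[k] ResidueField R :=
    { ResidueField.map (algebraMap O R) with
      commutes' := fun c => by
        show ResidueField.map (algebraMap O R) (residue O (algebraMap k O c)) = _
        rw [ResidueField.map_residue, ← IsScalarTower.algebraMap_apply]
        rfl }
  refine exists_sepClosed_subfield (fun i => algebraMap O R (v i)) ?_
  have h1 : (fun i => residue R (algebraMap O R (v i))) = ρ ∘ fun i => (es i : ResidueField O) := funext fun i => by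
    show _ = ρ (es i)
    rw [← hv i]
    exact (ResidueField.map_residue (algebraMap O R) (v i)).symm
  rw [h1]
  exact (hs.1.comp es es.injective).map' ρ.injective

end Groth.Agent.ArtinVanLib
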